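import Groth.Prelude.Def_CGrpSh
import Mathlib.AlgebraicGeometry.Sites.Fpqc
import Mathlib.CategoryTheory.Sites.IsSheafFor

/-!
Gluing sections of abelian sheaves on the big fppf site along flat, finitely presented families.
-/

set_option autoImplicit false
universe u

open CategoryTheory CategoryTheory.Limits AlgebraicGeometry Opposite

namespace Groth.Agent.GaExt25

variable {S : Scheme.{u}}

/-- The big fppf site of `S`. -/
abbrev Jf (S : Scheme.{u}) : GrothendieckTopology (Over S) := QuotSh.J Scheme.fppfPrecoverage S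

theorem generate_mem {ι : Type u} {T : Over S} {Y : ι → Over S} (f : ∀ i, Y i ⟶ T)
    (hfl : ∀ i, Flat (f i).left) (hfp : ∀ i, LocallyOfFinitePresentation (f i).left)
    (hsurj : ∀ x : T.left, ∃ i, x ∈ Set.range (f i).left) :
    Sieve.generate (Presieve.ofArrows Y f) ∈ Jf S T := by
  rw [GrothendieckTopology.mem_over_iff]
  refine GrothendieckTopology.superset_covering _ ?_ (Precoverage.Saturate.of _
    (Presieve.ofArrows (fun i => (Y i).left) fun i => (f i).left) ?_)
  · rintro Z g ⟨W, a, b, ⟨i⟩, rfl⟩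
    rw [Sieve.overEquiv_iff]
    exact ⟨_, Over.homMk a (by rw [← Over.w (f i)]; exact (Category.assoc _ _ _).symm), _,
      Presieve.ofArrows.mk i, by ext; rfl⟩
  · exact (Scheme.ofArrows_mem_precoverage_iff _).2 ⟨hsurj, fun i => ⟨hfl i, hfp i⟩⟩

variable (F : BigSite.Ab Scheme.fppfPrecoverage S)

theorem map_map {U V W : Over S} (p : W ⟶ V) (q : V ⟶ U) (z : F.obj.obj (op U)) :
    F.obj.map p.op (F.obj.map q.op z) = F.obj.map (p ≫ q).op z := by
  rw [op_comp, Functor.map_comp]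
  rfl

theorem map_id' {U : Over S} (z : F.obj.obj (op U)) : F.obj.map (𝟙 U).op z = z := by
  rw [op_id, CategoryTheory.Functor.map_id]
  rfl

theorem hom_app_map {F G : BigSite.Ab Scheme.fppfPrecoverage S} (φ : F ⟶ G) {U V : Over S} (p : V ⟶ U)
    (z : F.obj.obj (op U)) :
    φ.hom.app (op V) (F.obj.map p.op z) = G.obj.map p.op (φ.hom.app (op U) z) :=
  NatTrans.naturality_apply φ.hom p.op z

section Family

variable {ι : Type u} {T : Over S} {Y : ι → Over S} (f : ∀ i, Y i ⟶ T)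
  (hfl : ∀ i, Flat (f i).left) (hfp : ∀ i, LocallyOfFinitePresentation (f i).left)
  (hsurj : ∀ x : T.left, ∃ i, x ∈ Set.range (f i).left)
include hfl hfp hsurj

theorem isSheafFor_family : Presieve.IsSheafFor (F.obj ⋙ forget AddCommGrpCat) (Presieve.ofArrows Y f) := by
  rw [Presieve.isSheafFor_iff_generate]
  exact ((isSheaf_iff_isSheaf_of_type _ _).1
    ((sheafCompose _ (forget AddCommGrpCat.{u + 1})).obj F).property) _ (generate_mem f hfl hfp hsurj)

theorem section_ext {x y : F.obj.obj (op T)} (h : ∀ i, F.obj.map (f i).op x = F.obj.map (f i).op y) : x = y :=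
  (isSheafFor_family F f hfl hfp hsurj).isSeparatedFor.ext (by rintro Z g ⟨i⟩; exact h i)

theorem section_glue (x : ∀ i, F.obj.obj (op (Y i)))
    (hx : ∀ (i k : ι) (Z : Over S) (g : Z ⟶ Y i) (g' : Z ⟶ Y k), g ≫ f i = g' ≫ f k →
      F.obj.map g.op (x i) = F.obj.map g'.op (x k)) :
    ∃ y : F.obj.obj (op T), ∀ i, F.obj.map (f i).op y = x i :=
  ((Presieve.isSheafFor_arrows_iff _ _).1 (isSheafFor_family F f hfl hfp hsurj) x hx).exists

end Family

/-- Sections over an empty scheme agree. -/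
theorem section_ext_of_isEmpty {T : Over S} [IsEmpty ↥T.left] (x y : F.obj.obj (op T)) : x = y :=
  section_ext F (ι := PEmpty.{u + 1}) (Y := fun i => i.elim) (fun i => i.elim) (fun i => i.elim) (fun i => i.elim)
    (fun t => (IsEmpty.false t).elim) (fun i => i.elim)

/-- A section glued from an open cover. -/
theorem section_glue_opens {ι : Type u} {T : Over S} (U : ι → T.left.Opens) (hU : ⨆ i, U i = ⊤)
    (x : ∀ i, F.obj.obj (op (Over.mk ((U i).ι ≫ T.hom))))
    (hx : ∀ (i k : ι) (Z : Over S) (g : Z ⟶ Over.mk ((U i).ι ≫ T.hom)) (g' : Z ⟶ Over.mk ((U k).ι ≫ T.hom)),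
      g ≫ Over.homMk (U i).ι rfl = g' ≫ (Over.homMk (U k).ι rfl : Over.mk ((U k).ι ≫ T.hom) ⟶ T) →
      F.obj.map g.op (x i) = F.obj.map g'.op (x k)) :
    ∃ y : F.obj.obj (op T), ∀ i,
      F.obj.map (Over.homMk (U i).ι rfl : Over.mk ((U i).ι ≫ T.hom) ⟶ T).op y = x i :=
  section_glue F (fun i => (Over.homMk (U i).ι rfl : Over.mk ((U i).ι ≫ T.hom) ⟶ T))
    (fun i => inferInstanceAs (Flat (U i).ι)) (fun i => inferInstanceAs (LocallyOfFinitePresentation (U i).ι))
    (fun t => by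
      obtain ⟨i, hi⟩ := TopologicalSpace.Opens.mem_iSup.1 (show t ∈ ⨆ i, U i from hU ▸ trivial)
      exact ⟨i, ⟨t, hi⟩, rfl⟩) x hx

/-- Sections agreeing on an open cover are equal. -/
theorem section_ext_opens {ι : Type u} {T : Over S} (U : ι → T.left.Opens) (hU : ⨆ i, U i = ⊤)
    {x y : F.obj.obj (op T)}
    (h : ∀ i, F.obj.map (Over.homMk (U i).ι rfl : Over.mk ((U i).ι ≫ T.hom) ⟶ T).op x =
      F.obj.map (Over.homMk (U i).ι rfl : Over.mk ((U i).ι ≫ T.hom) ⟶ T).op y) : x = y :=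
  section_ext F (fun i => (Over.homMk (U i).ι rfl : Over.mk ((U i).ι ≫ T.hom) ⟶ T))
    (fun i => inferInstanceAs (Flat (U i).ι)) (fun i => inferInstanceAs (LocallyOfFinitePresentation (U i).ι))
    (fun t => by
      obtain ⟨i, hi⟩ := TopologicalSpace.Opens.mem_iSup.1 (show t ∈ ⨆ i, U i from hU ▸ trivial)
      exact ⟨i, ⟨t, hi⟩, rfl⟩) h

end Groth.Agent.GaExt25
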