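import Groth.Prelude.Def_CGrpSh2
import Mathlib.CategoryTheory.Sites.LocallySurjective
import Mathlib.CategoryTheory.Sites.ConstantSheaf

/-!
Sections of internal Hom sheaves of abelian sheaves, and the internal Hom out of the constant sheaf `ℤ`.
-/

set_option autoImplicit false
universe u

open CategoryTheory CategoryTheory.Limits Opposite

noncomputable section

namespace Groth.Agent.GaExt25

variable {C : Type (u + 1)} [Category.{u} C] {J : GrothendieckTopology C}

section Calculus

variable {F G H : Sheaf J AddCommGrpCat.{u + 1}} {T : C}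

/-- The component at `f : U ⟶ T` of a morphism of restrictions to `T`. -/
def comp' (φ : F.over T ⟶ G.over T) {U : C} (f : U ⟶ T) : F.obj.obj (op U) →+ G.obj.obj (op U) :=
  (φ.hom.app (op (Over.mk f))).hom

theorem comp'_natural (φ : F.over T ⟶ G.over T) {U V : C} (g : V ⟶ U) (f : U ⟶ T) (x : F.obj.obj (op U)) :
    G.obj.map g.op (comp' φ f x) = comp' φ (g ≫ f) (F.obj.map g.op x) :=
  (ConcreteCategory.congr_hom (φ.hom.naturality (Over.homMk g rfl : Over.mk (g ≫ f) ⟶ Over.mk f).op) x).symm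

theorem comp'_ext {φ ψ : F.over T ⟶ G.over T}
    (h : ∀ (U : C) (f : U ⟶ T) (x : F.obj.obj (op U)), comp' φ f x = comp' ψ f x) : φ = ψ :=
  Sheaf.hom_ext (NatTrans.ext (funext fun U => AddCommGrpCat.ext fun x => h (unop U).left (unop U).hom x))

/-- A morphism of restrictions from its components. -/
def mkComp (app : ∀ (U : C), (U ⟶ T) → (F.obj.obj (op U) →+ G.obj.obj (op U)))
    (nat : ∀ (U V : C) (g : V ⟶ U) (f : U ⟶ T) (x : F.obj.obj (op U)),
      G.obj.map g.op (app U f x) = app V (g ≫ f) (F.obj.map g.op x)) : F.over T ⟶ G.over T :=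
  ⟨{ app := fun U => AddCommGrpCat.ofHom (app (unop U).left (unop U).hom)
     naturality := fun U V g => AddCommGrpCat.ext fun x => by
       have h := nat _ _ g.unop.left (unop U).hom x
       rw [Over.w g.unop] at h
       exact h.symm }⟩

theorem comp'_mkComp (app : ∀ (U : C), (U ⟶ T) → (F.obj.obj (op U) →+ G.obj.obj (op U)))
    (nat : ∀ (U V : C) (g : V ⟶ U) (f : U ⟶ T) (x : F.obj.obj (op U)),
      G.obj.map g.op (app U f x) = app V (g ≫ f) (F.obj.map g.op x)) {U : C} (f : U ⟶ T)
    (x : F.obj.obj (op U)) : comp' (mkComp app nat) f x = app U f x := rfl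

theorem comp'_comp (φ : F.over T ⟶ G.over T) (ψ : G.over T ⟶ H.over T) {U : C} (f : U ⟶ T)
    (x : F.obj.obj (op U)) : comp' (φ ≫ ψ) f x = comp' ψ f (comp' φ f x) := rfl

theorem comp'_over_map (α : F ⟶ G) {U : C} (f : U ⟶ T) (x : F.obj.obj (op U)) :
    comp' ((J.overPullback _ T).map α) f x = α.hom.app (op U) x := rfl

/-- A morphism of restrictions as a section of the internal Hom. -/
abbrev homSect (φ : F.over T ⟶ G.over T) : (HomSh.homSh J F G).obj.obj (op T) := φ

theorem comp'_homSh_map {U : C} (g : U ⟶ T) (φ : F.over T ⟶ G.over T) {V : C} (f : V ⟶ U)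
    (x : F.obj.obj (op V)) :
    comp' (F := F) (G := G) ((HomSh.homSh J F G).obj.map g.op (homSect φ)) f x = comp' φ (f ≫ g) x := rfl

theorem comp'_homShMap {F' G' : Sheaf J AddCommGrpCat.{u + 1}} (α : F' ⟶ F) (β : G ⟶ G')
    (φ : F.over T ⟶ G.over T) {U : C} (f : U ⟶ T) (x : F'.obj.obj (op U)) :
    comp' (F := F') (G := G') ((HomSh.homShMap J α β).hom.app (op T) (homSect φ)) f x =
      β.hom.app (op U) (comp' φ f (α.hom.app (op U) x)) := rfl

theorem comp'_bidual {M : Sheaf J AddCommGrpCat.{u + 1}} (s : F.obj.obj (op T)) {U : C} (f : U ⟶ T)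
    (φ : F.over U ⟶ M.over U) :
    comp' (F := HomSh.homSh J F M) (G := M) ((HomSh.bidualMap J F M).hom.app (op T) s) f (homSect φ) =
      comp' φ (𝟙 U) (F.obj.map f.op s) := rfl

end Calculus

section Constant

variable [HasSheafify J AddCommGrpCat.{u + 1}]

variable (J) in
/-- The constant sheaf `ℤ`. -/
abbrev ZSh : Sheaf J AddCommGrpCat.{u + 1} :=
  (constantSheaf J AddCommGrpCat.{u + 1}).obj (AddCommGrpCat.of (ULift.{u + 1} ℤ))

variable (J) in
/-- The tautological section of the constant sheaf `ℤ`. -/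
def zOne (U : C) : (ZSh J).obj.obj (op U) :=
  (toSheafify J ((Functor.const Cᵒᵖ).obj (AddCommGrpCat.of (ULift.{u + 1} ℤ)))).app (op U) (ULift.up (1 : ℤ))

theorem zOne_map {U V : C} (g : V ⟶ U) : (ZSh J).obj.map g.op (zOne J U) = zOne J V :=
  (ConcreteCategory.congr_hom
    ((toSheafify J ((Functor.const Cᵒᵖ).obj (AddCommGrpCat.of (ULift.{u + 1} ℤ)))).naturality g.op) _).symm

/-- Locally every section of the constant sheaf is a multiple of the tautological one. -/
theorem zOne_local {U : C} (z : (ZSh J).obj.obj (op U)) :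
    ∃ R ∈ J U, ∀ ⦃V : C⦄ (g : V ⟶ U), R.arrows g → ∃ n : ℤ, (ZSh J).obj.map g.op z = n • zOne J V := by
  refine ⟨_, Presheaf.imageSieve_mem J
    (toSheafify J ((Functor.const Cᵒᵖ).obj (AddCommGrpCat.of (ULift.{u + 1} ℤ)))) (U := op U) z, ?_⟩
  rintro V g ⟨n, hn⟩
  have e : n = n.down • (ULift.up (1 : ℤ) : AddCommGrpCat.of (ULift.{u + 1} ℤ)) :=
    ULift.ext _ _ (mul_one n.down).symm
  exact ⟨n.down, hn.symm.trans ((congrArg _ e).trans (map_zsmul
    ((toSheafify J ((Functor.const Cᵒᵖ).obj (AddCommGrpCat.of (ULift.{u + 1} ℤ)))).app (op V)).hom n.down _))⟩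

theorem sep (F : Sheaf J AddCommGrpCat.{u + 1}) {U : C} {R : Sieve U} (hR : R ∈ J U) {x y : F.obj.obj (op U)}
    (h : ∀ ⦃V : C⦄ (g : V ⟶ U), R.arrows g → F.obj.map g.op x = F.obj.map g.op y) : x = y :=
  (((isSheaf_iff_isSheaf_of_type _ _).1 ((sheafCompose J (forget AddCommGrpCat.{u + 1})).obj F).property) R
    hR).isSeparatedFor.ext fun _ g hg => h g hg

theorem zOne_ext {G : Sheaf J AddCommGrpCat.{u + 1}} {T : C} {φ ψ : (ZSh J).over T ⟶ G.over T}
    (h : ∀ (U : C) (f : U ⟶ T), comp' φ f (zOne J U) = comp' ψ f (zOne J U)) : φ = ψ := by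
  refine comp'_ext fun U f z => ?_
  obtain ⟨R, hR, hz⟩ := zOne_local z
  refine sep G hR fun V g hg => ?_
  obtain ⟨n, hn⟩ := hz g hg
  rw [comp'_natural, comp'_natural, hn, map_zsmul, map_zsmul, h]

variable (G : Sheaf J AddCommGrpCat.{u + 1})

/-- Multiples of the identity, on the constant presheaf. -/
def scalPre : (Functor.const Cᵒᵖ).obj (AddCommGrpCat.of (ULift.{u + 1} ℤ)) ⟶ (HomSh.homSh J G G).obj where
  app U := AddCommGrpCat.ofHom (AddMonoidHom.mk' (fun n => n.down • homSect (𝟙 (G.over (unop U))))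
    fun n m => add_smul n.down m.down _)
  naturality U V g := AddCommGrpCat.ext fun n => by
    show n.down • homSect (𝟙 (G.over (unop V))) =
      (HomSh.homSh J G G).obj.map g (n.down • homSect (𝟙 (G.over (unop U))))
    refine Eq.trans ?_ (map_zsmul ((HomSh.homSh J G G).obj.map g).hom n.down _).symm
    congr 1

/-- Multiples of the identity. -/
def scal : ZSh J ⟶ HomSh.homSh J G G :=
  ⟨sheafifyLift J (scalPre G) (HomSh.homSh J G G).property⟩

theorem scal_zOne (U : C) : (scal G).hom.app (op U) (zOne J U) = homSect (𝟙 (G.over U)) := by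
  have h := ConcreteCategory.congr_hom (NatTrans.congr_app
    (toSheafify_sheafifyLift J (scalPre G) (HomSh.homSh J G G).property) (op U)) (ULift.up (1 : ℤ))
  exact h.trans (one_smul ℤ _)

/-- The morphism `ℤ ⟶ G` attached to a section. -/
def kap : G ⟶ HomSh.homSh J (ZSh J) G := HomSh.bidualMap J G G ≫ HomSh.homShMap J (scal G) (𝟙 G)

/-- The morphism `ℤ|_T ⟶ G|_T` attached to a section over `T`. -/
def kapAt {T : C} (g : G.obj.obj (op T)) : (ZSh J).over T ⟶ G.over T :=
  (kap G).hom.app (op T) g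

theorem kapAt_zOne {T : C} (g : G.obj.obj (op T)) {U : C} (f : U ⟶ T) :
    comp' (kapAt G g) f (zOne J U) = G.obj.map f.op g := by
  show comp' (F := ZSh J) (G := G) ((HomSh.homShMap J (scal G) (𝟙 G)).hom.app (op T)
    (homSect ((HomSh.bidualMap J G G).hom.app (op T) g))) f (zOne J U) = _
  rw [comp'_homShMap, scal_zOne, comp'_bidual]
  rfl

/-- Evaluation at the tautological section. -/
def evOne : HomSh.homSh J (ZSh J) G ⟶ G :=
  ⟨{ app := fun T => AddCommGrpCat.ofHom (AddMonoidHom.mk'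
        (fun φ => comp' (F := ZSh J) (G := G) φ (𝟙 (unop T)) (zOne J (unop T))) fun φ ψ => rfl)
     naturality := fun T T' g => AddCommGrpCat.ext fun φ => by
       show comp' (F := ZSh J) (G := G) ((HomSh.homSh J (ZSh J) G).obj.map g.unop.op (homSect φ)) (𝟙 _) (zOne J _) =
         G.obj.map g.unop.op (comp' (F := ZSh J) (G := G) φ (𝟙 (unop T)) (zOne J (unop T)))
       rw [comp'_homSh_map, comp'_natural, Category.id_comp, Category.comp_id, zOne_map] }⟩

theorem evOne_kap : evOne G ≫ kap G = 𝟙 (HomSh.homSh J (ZSh J) G) := by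
  refine Sheaf.hom_ext (NatTrans.ext (funext fun T => AddCommGrpCat.ext fun φ => ?_))
  refine zOne_ext (J := J) fun U f => ?_
  show comp' (kapAt G (comp' (F := ZSh J) (G := G) φ (𝟙 (unop T)) (zOne J (unop T)))) f (zOne J U) =
    comp' (F := ZSh J) (G := G) φ f (zOne J U)
  rw [kapAt_zOne, comp'_natural, zOne_map, Category.comp_id]

end Constant

end Groth.Agent.GaExt25
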