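import Groth.Agent.GaExt25.Points
import Mathlib.AlgebraicGeometry.Group.Affine

/-!
Points of the affine group scheme of a Hopf algebra over an affine base.
-/

set_option autoImplicit false
universe u

open CategoryTheory AlgebraicGeometry MonObj CartesianMonoidalCategory
open scoped TensorProduct

noncomputable section

namespace Groth.Agent.GaExt25

variable (R : Type u) [CommRing R] (A : Type u) [CommRing A] [Algebra R A]

/-- The spectrum of `A` over the base, with the structure used for affine group schemes. -/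
abbrev grpSpec : Over (base R) := (Spec (CommRingCat.of A)).asOver (Spec (CommRingCat.of R))

/-- Comparison with `spA`. -/
def grpSpecIso : grpSpec R A ≅ spA R A :=
  Over.isoMk (Iso.refl _) (by
    show 𝟙 _ ≫ Spec.map (CommRingCat.ofHom (algebraMap R A)) ≫ 𝟙 _ = _
    rw [Category.id_comp, Category.comp_id]
    rfl)

variable {R A} {T : Over (base R)}

/-- The comorphism of a point. -/
def appG (m : T ⟶ grpSpec R A) : A →+* Γ(T.left, ⊤) := app (m ≫ (grpSpecIso R A).hom)

theorem appG_def (m : T ⟶ grpSpec R A) :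
    appG m = m.left.appTop.hom.comp (Scheme.ΓSpecIso (CommRingCat.of A)).inv.hom := by
  show app _ = _
  rw [app]
  congr 2

theorem appG_algebraMap (m : T ⟶ grpSpec R A) (r : R) : appG m (algebraMap R A r) = strFn T r :=
  app_algebraMap _ r

theorem appG_comp {T' : Over (base R)} (g : T' ⟶ T) (m : T ⟶ grpSpec R A) (a : A) :
    appG (g ≫ m) a = g.left.appTop (appG m a) := by
  rw [appG_def, appG_def]
  rfl

theorem exists_ptG (φ : A →+* Γ(T.left, ⊤)) (hφ : ∀ r, φ (algebraMap R A r) = strFn T r) :
    ∃ m : T ⟶ grpSpec R A, appG m = φ := by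
  obtain ⟨m, hm⟩ := exists_pt φ hφ
  exact ⟨m ≫ (grpSpecIso R A).inv, by rw [appG, Category.assoc, Iso.inv_hom_id, Category.comp_id, hm]⟩

theorem ptG_ext {m m' : T ⟶ grpSpec R A} (h : appG m = appG m') : m = m' :=
  (Iso.cancel_iso_hom_right m m' (grpSpecIso R A)).1
    (pt_ext Set.univ (Algebra.adjoin_univ R A) fun a _ => congr($h a))

variable (T) in
/-- The algebra structure on the functions of a scheme over the base. -/
abbrev algΓ : Algebra R Γ(T.left, ⊤) := (strFn T).toAlgebra

/-- The comorphism of a point as an algebra map. -/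
def appAlg (m : T ⟶ grpSpec R A) : letI := algΓ T; A →ₐ[R] Γ(T.left, ⊤) :=
  letI := algΓ T
  { appG m with commutes' := appG_algebraMap m }

/-- Multiplication of points is convolution. -/
theorem appG_mul {H : Type u} [CommRing H] [Bialgebra R H] (m m' : T ⟶ grpSpec R H) (a : H) :
    appG (m * m') a = (letI := algΓ T; (WithConv.toConv (appAlg m) * WithConv.toConv (appAlg m')) a) := by
  letI := algΓ T
  let B : CommRingCat.{u} := CommRingCat.of Γ(T.left, ⊤)
  obtain ⟨τ, hτ⟩ := exists_ptG (T := T) (A := Γ(T.left, ⊤)) (RingHom.id _) (fun r => rfl)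
  let P : (Γ(T.left, ⊤) : Type u) →ₐ[R] (Γ(T.left, ⊤) : Type u) := AlgHom.id R _
  have key : ∀ f : WithConv (H →ₐ[R] Γ(T.left, ⊤)),
      appG (τ ≫ Spec.mapMulEquiv (R := R) (S := H) (T := Γ(T.left, ⊤)) f) = f.ofConv.toRingHom := by
    intro f
    have e : (Scheme.ΓSpecIso (CommRingCat.of H)).inv ≫
        (Spec.map (CommRingCat.ofHom f.ofConv.toRingHom)).appTop =
      CommRingCat.ofHom f.ofConv.toRingHom ≫ (Scheme.ΓSpecIso (CommRingCat.of Γ(T.left, ⊤))).inv :=
      (Scheme.ΓSpecIso_inv_naturality _).symm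
    refine RingHom.ext fun b => ?_
    rw [appG_comp, appG_def]
    exact (congrArg τ.left.appTop.hom congr($e b)).trans ((congr($(appG_def τ) (f.ofConv b))).symm.trans
      congr($hτ (f.ofConv b)))
  have hm : ∀ n : T ⟶ grpSpec R H,
      τ ≫ Spec.mapMulEquiv (R := R) (S := H) (T := Γ(T.left, ⊤)) (WithConv.toConv (appAlg n)) = n :=
    fun n => ptG_ext ((key _).trans rfl)
  conv_lhs => rw [← hm m, ← hm m', ← MonObj.comp_mul, ← map_mul, key]
  rfl

end Groth.Agent.GaExt25
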