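import Mathlib.Algebra.Polynomial.Derivative
import Mathlib.Algebra.Polynomial.Expand
import Mathlib.Algebra.CharP.Lemmas
import Mathlib.Algebra.CharP.Algebra
import Mathlib.RingTheory.Ideal.Quotient.Operations
import Mathlib.RingTheory.Nilpotent.Lemmas
import Mathlib.RingTheory.Polynomial.Nilpotent
import Mathlib.RingTheory.TensorProduct.Maps
import Mathlib.RingTheory.TensorProduct.IncludeLeftSubRight
import Mathlib.RingTheory.Flat.FaithfullyFlat.Algebra

/-!
Invertible modules killed by `p` on the affine line of a semiperfect ring: a multiplicative cocycle whose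
`p`-th power is a coboundary is a coboundary.
-/

set_option autoImplicit false
universe u

open Polynomial TensorProduct
open Algebra.TensorProduct (includeLeft includeRight)

namespace Groth.Agent.GaExt25

variable {p : ℕ} [hp : Fact p.Prime]

section Char

variable {A : Type*} [CommRing A] (hA : (p : A) = 0)
include hA

theorem charP_of [Nontrivial A] : CharP A p := (CharP.charP_iff_prime_eq_zero hp.out).2 hA

theorem sum_pow {ι : Type*} (s : Finset ι) (f : ι → A) : (∑ i ∈ s, f i) ^ p = ∑ i ∈ s, f i ^ p := by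
  rcases subsingleton_or_nontrivial A with h | h
  · exact Subsingleton.elim _ _
  · have := charP_of hA
    exact sum_pow_char p s f

theorem isUnit_natCast {n : ℕ} (hn : ¬ p ∣ n) : IsUnit (n : A) := by
  have h := Nat.gcd_eq_gcd_ab n p
  rw [((Nat.Prime.coprime_iff_not_dvd hp.out).2 hn).symm.gcd_eq_one] at h
  refine IsUnit.of_mul_eq_one (Nat.gcdA n p : A) ?_
  have h' := congrArg (fun z : ℤ => (z : A)) h
  simp only [Int.cast_add, Int.cast_mul, Int.cast_natCast, hA, zero_mul, add_zero, Nat.cast_one, Int.cast_one] at h'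
  exact h'.symm

theorem iterate_derivative_eq_zero' (f : A[X]) : derivative^[p] f = 0 := by
  ext n
  rw [coeff_iterate_derivative, Nat.descFactorial_eq_factorial_mul_choose, coeff_zero, nsmul_eq_mul]
  obtain ⟨k, hk⟩ := Nat.dvd_factorial hp.out.pos le_rfl
  rw [hk, Nat.cast_mul, Nat.cast_mul, hA, zero_mul, zero_mul, zero_mul]

end Char

instance isReduced_polynomial {A : Type*} [CommRing A] [IsReduced A] : IsReduced A[X] :=
  ⟨fun f hf => Polynomial.ext fun n => by rw [coeff_zero]; exact (Polynomial.isNilpotent_iff.1 hf n).eq_zero⟩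

section Derivative

variable {A : Type*} [CommRing A] [IsReduced A] (hA : (p : A) = 0) {ι : Type*} (q : ι → A[X])
  (hpow : ∀ a b, ∃ r : A[X], q a * q b ^ (p - 1) = r ^ p) (hspan : Ideal.span (Set.range q) = ⊤)
include hA hpow

theorem wronskian (a b : ι) : derivative (q a) * q b = q a * derivative (q b) := by
  have hpX : (p : A[X]) = 0 := by rw [← map_natCast C, hA, map_zero]
  have h1 : ((p - 1 : ℕ) : A[X]) = -1 := by
    rw [Nat.cast_sub hp.out.one_le, hpX, zero_sub, Nat.cast_one]
  have key : ∀ a b, (derivative (q a) * q b - q a * derivative (q b)) * q b = 0 := by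
    intro a b
    obtain ⟨r, hr⟩ := hpow a b
    have hd := congrArg derivative hr
    rw [derivative_mul, derivative_pow, derivative_pow, hA, map_zero, zero_mul, zero_mul, map_natCast, h1] at hd
    have e1 : q b ^ (p - 1 - 1) * q b = q b ^ (p - 1) := by
      rw [← pow_succ]; congr 1; have := hp.out.two_le; omega
    have hz : (derivative (q a) * q b - q a * derivative (q b)) * q b ^ (p - 1) = 0 := by
      have := congrArg (· * q b) hd
      simp only [zero_mul] at this
      rw [← this, ← e1]
      ring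
    refine eq_zero_of_pow_eq_zero (n := p - 1) ?_
    rw [mul_pow, show p - 1 = (p - 1 - 1) + 1 by have := hp.out.two_le; omega, pow_succ, mul_assoc,
      show p - 1 - 1 + 1 = p - 1 by have := hp.out.two_le; omega, hz, mul_zero]
  have ha := key b a
  have hb := key a b
  refine sub_eq_zero.1 (eq_zero_of_pow_eq_zero (n := 2) ?_)
  linear_combination (derivative (q a)) * hb + (derivative (q b)) * ha

include hspan in
theorem derivative_eq_zero (a : ι) : derivative (q a) = 0 := by
  obtain ⟨c, hc⟩ := Finsupp.mem_span_range_iff_exists_finsupp.1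
    (show (1 : A[X]) ∈ Ideal.span (Set.range q) by simp [hspan])
  simp only [smul_eq_mul] at hc
  let f : A[X] := c.sum fun a t => t * derivative (q a)
  have hf : ∀ b, derivative (q b) = f * q b := by
    intro b
    show _ = (∑ a ∈ c.support, c a * derivative (q a)) * q b
    rw [Finset.sum_mul]
    conv_lhs => rw [← one_mul (derivative (q b)), ← hc, Finsupp.sum, Finset.sum_mul]
    exact Finset.sum_congr rfl fun a _ => by rw [mul_assoc, mul_assoc, wronskian hA q hpow]
  let P : ℕ → A[X] := fun k => Nat.rec 1 (fun _ t => derivative t + f * t) k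
  have hP : ∀ k, P (k + 1) = derivative (P k) + f * P k := fun _ => rfl
  have hit : ∀ k b, derivative^[k] (q b) = P k * q b := by
    intro k b
    induction k with
    | zero => simp [P]
    | succ k ih =>
      rw [Function.iterate_succ_apply', ih, derivative_mul, hf b, hP]
      ring
  have hPp : P p = 0 := by
    rw [← mul_one (P p), ← hc, Finsupp.sum, Finset.mul_sum]
    exact Finset.sum_eq_zero fun a _ => by
      rw [mul_left_comm, ← hit, iterate_derivative_eq_zero' hA, mul_zero]
  have hdeg : ∀ k, (P k).natDegree ≤ k * f.natDegree ∧ (P k).coeff (k * f.natDegree) = f.leadingCoeff ^ k := by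
    intro k
    induction k with
    | zero => simp [P]
    | succ k ih =>
      rw [hP]
      refine ⟨(natDegree_add_le _ _).trans (max_le ?_ ?_), ?_⟩
      · refine (natDegree_derivative_le _).trans ((Nat.sub_le _ _).trans (ih.1.trans ?_))
        exact Nat.mul_le_mul_right _ (Nat.le_succ k)
      · refine natDegree_mul_le.trans ?_
        rw [Nat.succ_mul, add_comm]
        exact Nat.add_le_add ih.1 le_rfl
      · rw [coeff_add, coeff_derivative, coeff_eq_zero_of_natDegree_lt (Nat.lt_succ_of_le (ih.1.trans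
          (Nat.mul_le_mul_right _ (Nat.le_succ k)))), zero_mul, zero_add, Nat.succ_mul, add_comm (k * f.natDegree),
          coeff_mul_add_eq_of_natDegree_le le_rfl ih.1, ih.2, pow_succ']
        rfl
  have h0 := (hdeg p).2
  rw [hPp, coeff_zero] at h0
  have : f = 0 := leadingCoeff_eq_zero.1 (eq_zero_of_pow_eq_zero h0.symm)
  rw [hf, this, zero_mul]

include hspan in
/-- If the coefficients have `p`-th roots, a combination with `p`-th power coefficients is `1`. -/
theorem exists_comb (hroot : ∀ a n, ∃ x : A, x ^ p = (q a).coeff n) :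
    ∃ c : ι →₀ A[X], (c.sum fun a t => t ^ p * q a) = 1 := by
  have hpX : (p : A[X]) = 0 := by rw [← map_natCast C, hA, map_zero]
  choose x hx using hroot
  let ψ : ι → A[X] := fun a => ∑ n ∈ Finset.range ((q a).natDegree + 1), C (x a (n * p)) * X ^ n
  have hψ : ∀ a, ψ a ^ p = q a := by
    intro a
    rw [sum_pow hpX]
    ext m
    simp only [mul_pow, ← C_pow, hx, ← pow_mul, finsetSum_coeff, coeff_C_mul_X_pow]
    by_cases hm : p ∣ m
    · obtain ⟨n, rfl⟩ := hm
      have : ∀ i, (p * n = i * p) ↔ (n = i) := fun i => by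
        rw [mul_comm i p, Nat.mul_left_cancel_iff hp.out.pos]
      simp only [this, Finset.sum_ite_eq, Finset.mem_range]
      split_ifs with h
      · rw [mul_comm]
      · refine (coeff_eq_zero_of_natDegree_lt ?_).symm
        calc (q a).natDegree < n := by omega
          _ ≤ p * n := Nat.le_mul_of_pos_left _ hp.out.pos
    · rw [Finset.sum_eq_zero fun i _ => if_neg fun h => hm ⟨i, h.trans (mul_comm i p)⟩]
      rcases m with - | m
      · exact absurd (dvd_zero p) hm
      have h := congrArg (fun g => coeff g m) (derivative_eq_zero hA q hpow hspan a)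
      simp only [coeff_derivative, coeff_zero, ← Nat.cast_add_one] at h
      exact ((isUnit_natCast hA hm).mul_left_eq_zero.1 h).symm
  have h1 : (1 : A[X]) ∈ Ideal.span (Set.range ψ) := by
    have hle : Ideal.span (Set.range q) ≤ Ideal.span (Set.range ψ) := Ideal.span_le.2 (by
      rintro _ ⟨a, rfl⟩
      rw [SetLike.mem_coe, ← hψ]
      exact Ideal.pow_mem_of_mem _ (Ideal.subset_span (Set.mem_range_self a)) _ hp.out.pos)
    exact hle (by simp [hspan])
  obtain ⟨c, hc⟩ := Finsupp.mem_span_range_iff_exists_finsupp.1 h1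
  simp only [smul_eq_mul] at hc
  refine ⟨c, ?_⟩
  calc (c.sum fun a t => t ^ p * q a) = (c.sum fun a t => t * ψ a) ^ p := by
        rw [Finsupp.sum, Finsupp.sum, sum_pow hpX]
        exact Finset.sum_congr rfl fun a _ => by rw [mul_pow, hψ]
    _ = 1 := by rw [hc, one_pow]

end Derivative

/-- Any family of elements of `S`, pairwise related by `p`-th powers and generating the unit ideal, has a
combination with `p`-th power coefficients which is a unit. -/
def RootComb (p : ℕ) (S : Type u) [CommRing S] : Prop :=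
  ∀ (ι : Type u) (q : ι → S), (∀ a b, ∃ r, q a * q b ^ (p - 1) = r ^ p) → Ideal.span (Set.range q) = ⊤ →
    ∃ c : ι →₀ S, IsUnit (c.sum fun a t => t ^ p * q a)

/-- The affine line over a semiperfect ring has this property. -/
theorem rootComb_polynomial (R : Type u) [CommRing R] (hR : (p : R) = 0)
    (hF : ∀ x : R, ∃ y : R, y ^ p = x) : RootComb p R[X] := by
  intro ι q hpow hspan
  let π : R[X] →+* (R ⧸ nilradical R)[X] := mapRingHom (Ideal.Quotient.mk _)
  have hπ : Function.Surjective π := map_surjective _ Ideal.Quotient.mk_surjective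
  have : IsReduced (R ⧸ nilradical R) := (Ideal.isRadical_iff_quotient_reduced _).1
    (Ideal.radical_isRadical _)
  obtain ⟨c, hc⟩ := exists_comb (p := p) (A := R ⧸ nilradical R)
    (by rw [← map_natCast (Ideal.Quotient.mk _), hR, map_zero]) (fun a => π (q a))
    (fun a b => by
      obtain ⟨r, hr⟩ := hpow a b
      exact ⟨π r, by rw [← map_pow, ← map_mul, hr, map_pow]⟩)
    (by rw [Set.range_comp' π q, ← Ideal.map_span, hspan, Ideal.map_top])
    (fun a n => by
      obtain ⟨y, hy⟩ := hF ((q a).coeff n)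
      exact ⟨Ideal.Quotient.mk _ y, by rw [← map_pow, hy]; exact (coeff_map _ _).symm⟩)
  choose s hs using hπ
  classical
  let c' : ι →₀ R[X] := c.mapRange (fun t => s t - s 0) (sub_self _)
  have hc' : ∀ a, π (c' a) = c a := fun a => by
    simp only [c', Finsupp.mapRange_apply, map_sub, hs, sub_zero]
  refine ⟨c', ?_⟩
  have h1 : π ((c'.sum fun a t => t ^ p * q a) - 1) = 0 := by
    rw [map_sub, map_one, ← hc, Finsupp.sum, map_sum,
      Finsupp.sum_of_support_subset c (s := c'.support ∪ c.support) Finset.subset_union_right _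
        (fun a _ => by simp [hp.out.ne_zero]), sub_eq_zero]
    rw [← Finset.sum_subset Finset.subset_union_left]
    · exact Finset.sum_congr rfl fun a _ => by rw [map_mul, map_pow, hc']
    · intro a _ ha
      rw [Finsupp.notMem_support_iff] at ha
      rw [← hc' a, ha]
      simp [hp.out.ne_zero]
  have h2 : IsNilpotent ((c'.sum fun a t => t ^ p * q a) - 1) := Polynomial.isNilpotent_iff.2 fun n => by
    have := congrArg (fun g => coeff g n) h1
    simp only [π, coe_mapRingHom, coeff_map, coeff_zero] at this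
    exact mem_nilradical.1 (Ideal.Quotient.eq_zero_iff_mem.1 this)
  simpa using h2.isUnit_add_one

section Coboundary

variable {S C : Type u} [CommRing S] [CommRing C] [Algebra S C]

/-- The three cofaces. -/
noncomputable abbrev f23 : C ⊗[S] C →ₐ[S] C ⊗[S] (C ⊗[S] C) := includeRight

noncomputable abbrev f13 : C ⊗[S] C →ₐ[S] C ⊗[S] (C ⊗[S] C) :=
  Algebra.TensorProduct.map (AlgHom.id S C) includeRight

noncomputable abbrev f12 : C ⊗[S] C →ₐ[S] C ⊗[S] (C ⊗[S] C) :=
  Algebra.TensorProduct.map (AlgHom.id S C) includeLeft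

theorem mem_range_of_invariant [Module.FaithfullyFlat S C] {x : C} (hx : (1 : C) ⊗ₜ[S] x = x ⊗ₜ 1) :
    ∃ s : S, algebraMap S C s = x :=
  Set.mem_range.1 <| (Algebra.IsEffective.eqLocus_includeLeft_includeRight
    (Algebra.IsEffective.of_faithfullyFlat S C)) ▸ (show _ from hx.symm)

/-- The elements on which a cocycle is a coboundary generate the unit ideal. -/
theorem one_mem_span [Module.Flat S C] (u : C ⊗[S] C) (hu : IsUnit u) (hcoc : f13 u = f23 u * f12 u) :
    (1 : C) ∈ Ideal.span {c : C | 1 ⊗ₜ c = u * (c ⊗ₜ 1)} := by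
  let δ : C →ₗ[S] C ⊗[S] C := (includeRight : C →ₐ[S] C ⊗[S] C).toLinearMap -
    (LinearMap.mulLeft S u).comp (includeLeft : C →ₐ[S] C ⊗[S] C).toLinearMap
  let M := LinearMap.ker δ
  have hlt : ∀ z, LinearMap.lTensor C δ z = f13 z - f23 u * f12 z := by
    intro z
    induction z using TensorProduct.induction_on with
    | zero => simp
    | add x y hx hy => rw [map_add, hx, hy, map_add, map_add]; ring
    | tmul a b => simp [δ]
  obtain ⟨z, hz⟩ := ((Module.Flat.lTensor_exact C (LinearMap.exact_subtype_ker_map δ)) u).mp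
    (by rw [hlt, hcoc, sub_self])
  let μ := Algebra.TensorProduct.lmul' S (S := C)
  have hμu : μ u = 1 := by
    have h1 := congrArg (fun x => μ (Algebra.TensorProduct.map (AlgHom.id S C) μ x)) hcoc
    have e13 : ∀ x, μ (Algebra.TensorProduct.map (AlgHom.id S C) μ (f13 x)) = μ x := by
      intro x
      induction x using TensorProduct.induction_on with
      | zero => simp
      | add x y hx hy => simp only [map_add, hx, hy]
      | tmul a b => simp [μ]
    have e12 : ∀ x, μ (Algebra.TensorProduct.map (AlgHom.id S C) μ (f12 x)) = μ x := by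
      intro x
      induction x using TensorProduct.induction_on with
      | zero => simp
      | add x y hx hy => simp only [map_add, hx, hy]
      | tmul a b => simp [μ]
    have e23 : ∀ x, μ (Algebra.TensorProduct.map (AlgHom.id S C) μ (f23 x)) = μ x := by
      intro x; simp [μ]
    simp only [map_mul, e13, e12, e23] at h1
    exact (hu.map μ).mul_eq_left.mp h1.symm
  have key : μ (LinearMap.lTensor C M.subtype z) ∈ Ideal.span {c : C | 1 ⊗ₜ c = u * (c ⊗ₜ 1)} := by
    clear hz
    induction z using TensorProduct.induction_on with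
    | zero => simp
    | add x y hx hy => rw [map_add, map_add]; exact add_mem hx hy
    | tmul a m =>
      have hm : (1 : C) ⊗ₜ[S] (m : C) = u * ((m : C) ⊗ₜ 1) := by
        have h0 := LinearMap.mem_ker.mp m.2
        exact sub_eq_zero.mp h0
      simpa [μ] using Ideal.mul_mem_left _ a (Ideal.subset_span (show (m : C) ∈ {c : C | 1 ⊗ₜ c = u * (c ⊗ₜ 1)} from hm))
  rwa [hz, hμu] at key

/-- A cocycle whose `p`-th power is a coboundary is a coboundary, given `RootComb`. -/
theorem exists_coboundary (hC : (p : C) = 0) (hS : RootComb p S) [Module.FaithfullyFlat S C] (u : C ⊗[S] C)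
    (hu : IsUnit u) (hcoc : f13 u = f23 u * f12 u) (v : C) (hv : IsUnit v)
    (huv : (1 : C) ⊗ₜ[S] v = u ^ p * (v ⊗ₜ 1)) :
    ∃ c : C, IsUnit c ∧ (1 : C) ⊗ₜ[S] c = u * (c ⊗ₜ 1) := by
  obtain ⟨w, rfl⟩ := hv
  let i₁ : C →ₐ[S] C ⊗[S] C := includeLeft
  let i₂ : C →ₐ[S] C ⊗[S] C := includeRight
  let M := {c : C | 1 ⊗ₜ c = u * (c ⊗ₜ 1)}
  have hv' : i₂ (↑w⁻¹ : C) * u ^ p = i₁ (↑w⁻¹ : C) := by
    calc i₂ (↑w⁻¹ : C) * u ^ p = i₂ (↑w⁻¹ : C) * (u ^ p * i₁ (w : C)) * i₁ (↑w⁻¹ : C) := by
          rw [mul_assoc, mul_assoc, ← map_mul i₁, Units.mul_inv, map_one, mul_one]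
      _ = i₂ (↑w⁻¹ : C) * i₂ (w : C) * i₁ (↑w⁻¹ : C) := by rw [show u ^ p * i₁ (w : C) = i₂ w from huv.symm]
      _ = _ := by rw [← map_mul i₂, Units.inv_mul, map_one, one_mul]
  have inv : ∀ m n : M, (1 : C) ⊗ₜ[S] ((n.1 * m.1 ^ (p - 1)) * ↑w⁻¹) = ((n.1 * m.1 ^ (p - 1)) * ↑w⁻¹) ⊗ₜ 1 := by
    intro m n
    show i₂ _ = i₁ _
    have hm : i₂ m.1 = u * i₁ m.1 := m.2
    have hn : i₂ n.1 = u * i₁ n.1 := n.2
    have hp1 : p - 1 + 1 = p := Nat.sub_add_cancel hp.out.one_le
    rw [map_mul, map_mul, map_pow, hm, hn, mul_pow, map_mul, map_mul, map_pow, ← hv']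
    rw [show u ^ p = u * u ^ (p - 1) by rw [← pow_succ', hp1]]
    ring
  choose r hr using fun m n => mem_range_of_invariant (inv m n)
  let q : M → S := fun m => r m m
  have hq : ∀ m : M, algebraMap S C (q m) = m.1 ^ p * ↑w⁻¹ := fun m => by
    rw [hr, ← pow_succ', Nat.sub_add_cancel hp.out.one_le]
  have hinj : Function.Injective (algebraMap S C) := FaithfulSMul.algebraMap_injective S C
  have hspan : Ideal.span (Set.range q) = ⊤ := by
    rw [← Ideal.comap_map_eq_self_of_faithfullyFlat (B := C) (Ideal.span (Set.range q)), Ideal.comap_eq_top_iff]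
    by_contra h
    obtain ⟨P, hP, hle⟩ := Ideal.exists_le_maximal _ h
    refine hP.ne_top ((Ideal.eq_top_iff_one _).2 (Ideal.span_le.2 ?_ (one_mem_span u hu hcoc)))
    intro m hm
    have h1 : algebraMap S C (q ⟨m, hm⟩) ∈ P :=
      hle (Ideal.mem_map_of_mem _ (Ideal.subset_span ⟨_, rfl⟩))
    rw [hq, Ideal.mul_unit_mem_iff_mem _ (Units.isUnit _)] at h1
    exact hP.isPrime.mem_of_pow_mem p h1
  have hpow : ∀ a b, ∃ t, q a * q b ^ (p - 1) = t ^ p := fun a b => ⟨r b a, hinj (by
    simp only [map_mul, map_pow, hq, hr, mul_pow, ← pow_mul]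
    rw [mul_comm (p - 1) p]
    have e : (↑w⁻¹ : C) * (↑w⁻¹ : C) ^ (p - 1) = (↑w⁻¹ : C) ^ p := by
      rw [← pow_succ', Nat.sub_add_cancel hp.out.one_le]
    rw [← e]
    ring)⟩
  obtain ⟨t, ht⟩ := hS M q hpow hspan
  let c : C := t.sum fun m s => algebraMap S C s * m.1
  refine ⟨c, ?_, ?_⟩
  · have hcp : c ^ p = algebraMap S C (t.sum fun a s => s ^ p * q a) * w := by
      rw [show c = ∑ m ∈ t.support, algebraMap S C (t m) * m.1 from rfl, sum_pow hC, Finsupp.sum, map_sum,
        Finset.sum_mul]
      refine Finset.sum_congr rfl fun m _ => ?_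
      rw [map_mul, map_pow, hq, mul_pow, mul_assoc, mul_assoc, Units.inv_mul, mul_one]
    have := (ht.map (algebraMap S C)).mul w.isUnit
    rw [← hcp] at this
    exact (isUnit_pow_iff hp.out.ne_zero).1 this
  · show i₂ c = u * i₁ c
    simp only [c, Finsupp.sum, map_sum, Finset.mul_sum, map_mul, AlgHom.commutes]
    refine Finset.sum_congr rfl fun m _ => ?_
    rw [show i₂ m.1 = u * i₁ m.1 from m.2]
    ring

end Coboundary

end Groth.Agent.GaExt25
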