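import Groth.Agent.GaSplit95.Split
import Groth.Agent.GaExt25.Ring
import Mathlib.RingTheory.AdjoinRoot
import Mathlib.RingTheory.FinitePresentation
import Mathlib.RingTheory.Flat.FaithfullyFlat.Algebra

/-!
Splitting of cocycles of the additive group after adjoining finitely many `p`-th roots.
-/

set_option autoImplicit false
universe u

open MvPolynomial
open Groth.Agent.GaSplit95

namespace Groth.Agent.GaExt25

/-- A faithfully flat algebra of finite presentation. -/
structure IsRootExt (A A' : Type u) [CommRing A] [CommRing A'] [Algebra A A'] : Prop where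
  ff : Module.FaithfullyFlat A A'
  fp : Algebra.FinitePresentation A A'

theorem IsRootExt.refl (A : Type u) [CommRing A] : IsRootExt A A :=
  ⟨inferInstance, inferInstance⟩

theorem IsRootExt.trans {A B C : Type u} [CommRing A] [CommRing B] [CommRing C] [Algebra A B] [Algebra B C]
    [Algebra A C] [IsScalarTower A B C] (h : IsRootExt A B) (h' : IsRootExt B C) : IsRootExt A C :=
  haveI := h.ff
  haveI := h'.ff
  haveI := h.fp
  haveI := h'.fp
  ⟨Module.FaithfullyFlat.trans A B C, Algebra.FinitePresentation.trans A B C⟩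

variable (p : ℕ) [hp : Fact p.Prime]

theorem natCast_zero_of {A A' : Type u} [CommRing A] [CommRing A'] [Algebra A A'] (hA : (p : A) = 0) :
    (p : A') = 0 := by
  rw [← map_natCast (algebraMap A A'), hA, map_zero]

theorem IsRootExt.nontrivial {A A' : Type u} [CommRing A] [CommRing A'] [Algebra A A'] [Nontrivial A]
    (h : IsRootExt A A') : Nontrivial A' :=
  haveI := h.ff
  (FaithfulSMul.algebraMap_injective A A').nontrivial

theorem exists_rootExt_single {A : Type u} [CommRing A] (a : A) :
    ∃ (A' : Type u) (_ : CommRing A') (_ : Algebra A A'), IsRootExt A A' ∧ ∃ c : A', c ^ p = algebraMap A A' a := by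
  rcases subsingleton_or_nontrivial A with hA | hA
  · exact ⟨A, inferInstance, inferInstance, .refl A, a, Subsingleton.elim _ _⟩
  let f : Polynomial A := Polynomial.X ^ p - Polynomial.C a
  have hf : f.Monic := Polynomial.monic_X_pow_sub_C a hp.out.ne_zero
  haveI : Module.Free A (AdjoinRoot f) := hf.free_adjoinRoot
  haveI : Nontrivial (AdjoinRoot f) := by
    haveI : Nonempty (Fin (AdjoinRoot.powerBasis' hf).dim) := ⟨⟨0, by
      rw [AdjoinRoot.powerBasis'_dim, Polynomial.natDegree_X_pow_sub_C]; exact hp.out.pos⟩⟩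
    exact (AdjoinRoot.powerBasis' hf).basis.repr.toEquiv.nontrivial
  refine ⟨AdjoinRoot f, inferInstance, inferInstance, ⟨inferInstance, inferInstance⟩, AdjoinRoot.root f, ?_⟩
  have : AdjoinRoot.mk f f = 0 := AdjoinRoot.mk_self
  rw [map_sub, map_pow, AdjoinRoot.mk_X, AdjoinRoot.mk_C, sub_eq_zero] at this
  exact this

/-- Adjoining `p`-th roots of finitely many elements. -/
theorem exists_rootExt {A : Type u} [CommRing A] (s : Finset A) :
    ∃ (A' : Type u) (_ : CommRing A') (_ : Algebra A A'), IsRootExt A A' ∧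
      ∀ a ∈ s, ∃ c : A', c ^ p = algebraMap A A' a := by
  classical
  induction s using Finset.induction with
  | empty => exact ⟨A, inferInstance, inferInstance, .refl A, by simp⟩
  | insert a s _ ih =>
    obtain ⟨A', _, _, h, hs⟩ := ih
    obtain ⟨A'', _, _, h', c, hc⟩ := exists_rootExt_single p (algebraMap A A' a)
    letI := ((algebraMap A' A'').comp (algebraMap A A')).toAlgebra
    haveI : IsScalarTower A A' A'' := IsScalarTower.of_algebraMap_eq fun x => rfl
    refine ⟨A'', inferInstance, inferInstance, h.trans h', fun b hb => ?_⟩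
    rcases Finset.mem_insert.1 hb with rfl | hb
    · exact ⟨c, hc⟩
    · obtain ⟨d, hd⟩ := hs b hb
      exact ⟨algebraMap A' A'' d, by rw [← map_pow, hd, ← IsScalarTower.algebraMap_apply]⟩

section RootComb

/-- A combination with `p`-th power coefficients is a unit after adjoining roots. -/
theorem rootComb_along {A : Type u} [CommRing A] (hA : (p : A) = 0) {ι : Type} [Fintype ι] (q : ι → Polynomial A)
    (hpow : ∀ a b, ∃ r, q a * q b ^ (p - 1) = r ^ p) (hspan : Ideal.span (Set.range q) = ⊤) :
    ∃ (A' : Type u) (_ : CommRing A') (_ : Algebra A A'), IsRootExt A A' ∧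
      ∃ c : ι → Polynomial A', IsUnit (∑ a, c a ^ p * (q a).map (algebraMap A A')) := by
  classical
  obtain ⟨A', _, _, hA', hroot⟩ := exists_rootExt p
    (Finset.univ.biUnion fun a : ι => (q a).support.image fun n => (q a).coeff n)
  refine ⟨A', inferInstance, inferInstance, hA', ?_⟩
  let e : Polynomial A →+* Polynomial A' := Polynomial.mapRingHom (algebraMap A A')
  let π : Polynomial A' →+* Polynomial (A' ⧸ nilradical A') := Polynomial.mapRingHom (Ideal.Quotient.mk _)
  have hπ : Function.Surjective π := Polynomial.map_surjective _ Ideal.Quotient.mk_surjective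
  have : IsReduced (A' ⧸ nilradical A') := (Ideal.isRadical_iff_quotient_reduced _).1 (Ideal.radical_isRadical _)
  obtain ⟨c, hc⟩ := exists_comb (p := p) (A := A' ⧸ nilradical A')
    (by rw [← map_natCast (Ideal.Quotient.mk _), natCast_zero_of p hA, map_zero]) (fun a => π (e (q a)))
    (fun a b => by
      obtain ⟨r, hr⟩ := hpow a b
      exact ⟨π (e r), by rw [← map_pow, ← map_pow, ← map_mul, ← map_mul, hr, map_pow, map_pow]⟩)
    (by
      rw [show (fun a => π (e (q a))) = (π.comp e) ∘ q from rfl, Set.range_comp, ← Ideal.map_span, hspan,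
        Ideal.map_top])
    (fun a n => by
      by_cases hn : n ∈ (q a).support
      · obtain ⟨y, hy⟩ := hroot _ (Finset.mem_biUnion.2 ⟨a, Finset.mem_univ _, Finset.mem_image_of_mem _ hn⟩)
        exact ⟨Ideal.Quotient.mk _ y, by simp [π, e, ← map_pow, hy]⟩
      · exact ⟨0, by simp [π, e, Polynomial.notMem_support_iff.1 hn, zero_pow hp.out.ne_zero]⟩)
  choose s hs using hπ
  refine ⟨fun a => s (c a), ?_⟩
  have h1 : π ((∑ a, s (c a) ^ p * (q a).map (algebraMap A A')) - 1) = 0 := by
    rw [map_sub, map_one, ← hc, Finsupp.sum_fintype _ _ (fun a => by simp [hp.out.ne_zero]), map_sum, sub_eq_zero]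
    exact Finset.sum_congr rfl fun a _ => by rw [map_mul, map_pow, hs]; rfl
  have h2 : IsNilpotent ((∑ a, s (c a) ^ p * (q a).map (algebraMap A A')) - 1) :=
    Polynomial.isNilpotent_iff.2 fun n => by
      have := congrArg (fun g => Polynomial.coeff g n) h1
      simp only [π, Polynomial.coe_mapRingHom, Polynomial.coeff_map, Polynomial.coeff_zero] at this
      exact mem_nilradical.1 (Ideal.Quotient.eq_zero_iff_mem.1 this)
  simpa using h2.isUnit_add_one

open TensorProduct in
open Algebra.TensorProduct (includeLeft includeRight) in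
/-- A cocycle whose `p`-th power is a coboundary becomes a coboundary after adjoining roots. -/
theorem exists_coboundary_along {A : Type u} [CommRing A] (hA : (p : A) = 0) {C : Type u} [CommRing C]
    [Algebra (Polynomial A) C] [Module.FaithfullyFlat (Polynomial A) C]
    (u : C ⊗[Polynomial A] C) (hu : IsUnit u) (hcoc : f13 u = f23 u * f12 u) (v : C) (hv : IsUnit v)
    (huv : (1 : C) ⊗ₜ[Polynomial A] v = u ^ p * (v ⊗ₜ 1)) :
    ∃ (A' : Type u) (_ : CommRing A') (_ : Algebra A A'), IsRootExt A A' ∧
      ∃ (k : ℕ) (m : Fin k → C) (t : Fin k → Polynomial A'),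
        (∀ i, (1 : C) ⊗ₜ[Polynomial A] m i = u * (m i ⊗ₜ 1)) ∧
        ∀ (D : Type u) [CommRing D] (χ : C →+* D) (ψ : Polynomial A' →+* D),
          (∀ r, ψ (r.map (algebraMap A A')) = χ (algebraMap (Polynomial A) C r)) →
          IsUnit (∑ i, ψ (t i) * χ (m i)) := by
  classical
  have hC : (p : C) = 0 := by
    rw [← map_natCast (algebraMap (Polynomial A) C), ← map_natCast Polynomial.C, hA, map_zero, map_zero]
  obtain ⟨w, rfl⟩ := hv
  let i₁ : C →ₐ[Polynomial A] C ⊗[Polynomial A] C := includeLeft
  let i₂ : C →ₐ[Polynomial A] C ⊗[Polynomial A] C := includeRight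
  let M := {c : C | (1 : C) ⊗ₜ[Polynomial A] c = u * (c ⊗ₜ 1)}
  have hv' : i₂ (↑w⁻¹ : C) * u ^ p = i₁ (↑w⁻¹ : C) := by
    calc i₂ (↑w⁻¹ : C) * u ^ p = i₂ (↑w⁻¹ : C) * (u ^ p * i₁ (w : C)) * i₁ (↑w⁻¹ : C) := by
          rw [mul_assoc, mul_assoc, ← map_mul i₁, Units.mul_inv, map_one, mul_one]
      _ = i₂ (↑w⁻¹ : C) * i₂ (w : C) * i₁ (↑w⁻¹ : C) := by rw [show u ^ p * i₁ (w : C) = i₂ w from huv.symm]
      _ = _ := by rw [← map_mul i₂, Units.inv_mul, map_one, one_mul]
  have inv : ∀ m n : M, (1 : C) ⊗ₜ[Polynomial A] ((n.1 * m.1 ^ (p - 1)) * ↑w⁻¹) =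
      ((n.1 * m.1 ^ (p - 1)) * ↑w⁻¹) ⊗ₜ 1 := by
    intro m n
    show i₂ _ = i₁ _
    have hm : i₂ m.1 = u * i₁ m.1 := m.2
    have hn : i₂ n.1 = u * i₁ n.1 := n.2
    have hp1 : p - 1 + 1 = p := Nat.sub_add_cancel hp.out.one_le
    rw [map_mul, map_mul, map_pow, hm, hn, mul_pow, map_mul, map_mul, map_pow, ← hv']
    rw [show u ^ p = u * u ^ (p - 1) by rw [← pow_succ', hp1]]
    ring
  choose r hr using fun m n => mem_range_of_invariant (inv m n)
  let q : M → Polynomial A := fun m => r m m
  have hq : ∀ m : M, algebraMap (Polynomial A) C (q m) = m.1 ^ p * ↑w⁻¹ := fun m => by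
    rw [hr, ← pow_succ', Nat.sub_add_cancel hp.out.one_le]
  have hinj : Function.Injective (algebraMap (Polynomial A) C) :=
    FaithfulSMul.algebraMap_injective (Polynomial A) C
  have hspan : Ideal.span (Set.range q) = ⊤ := by
    rw [← Ideal.comap_map_eq_self_of_faithfullyFlat (B := C) (Ideal.span (Set.range q)), Ideal.comap_eq_top_iff]
    by_contra h
    obtain ⟨P, hP, hle⟩ := Ideal.exists_le_maximal _ h
    refine hP.ne_top ((Ideal.eq_top_iff_one _).2 (Ideal.span_le.2 ?_ (one_mem_span u hu hcoc)))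
    intro m hm
    have h1 : algebraMap (Polynomial A) C (q ⟨m, hm⟩) ∈ P :=
      hle (Ideal.mem_map_of_mem _ (Ideal.subset_span ⟨_, rfl⟩))
    rw [hq, Ideal.mul_unit_mem_iff_mem _ (Units.isUnit _)] at h1
    exact hP.isPrime.mem_of_pow_mem p h1
  obtain ⟨l, hl⟩ := Finsupp.mem_span_range_iff_exists_finsupp.1
    (show (1 : Polynomial A) ∈ Ideal.span (Set.range q) by simp [hspan])
  let em : Fin l.support.card → M := fun i => (l.support.equivFin.symm i).1
  have hpow : ∀ a b, ∃ t, q (em a) * q (em b) ^ (p - 1) = t ^ p := fun a b => ⟨r (em b) (em a), hinj (by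
    simp only [map_mul, map_pow, hq, hr, mul_pow, ← pow_mul]
    rw [mul_comm (p - 1) p]
    have e : (↑w⁻¹ : C) * (↑w⁻¹ : C) ^ (p - 1) = (↑w⁻¹ : C) ^ p := by
      rw [← pow_succ', Nat.sub_add_cancel hp.out.one_le]
    rw [← e]
    ring)⟩
  have hspan' : Ideal.span (Set.range (q ∘ em)) = ⊤ := by
    rw [Ideal.eq_top_iff_one, ← hl]
    refine Ideal.sum_mem _ fun a ha => Ideal.mul_mem_left _ _ (Ideal.subset_span ⟨l.support.equivFin ⟨a, ha⟩, ?_⟩)
    simp [em]
  obtain ⟨A', _, _, hA', t, ht⟩ := rootComb_along p hA (q ∘ em) hpow hspan'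
  refine ⟨A', inferInstance, inferInstance, hA', _, fun i => (em i).1, t, fun i => (em i).2, ?_⟩
  intro D _ χ ψ hψ
  have hD : (p : D) = 0 := by rw [← map_natCast χ, hC, map_zero]
  have hcp : (∑ i, ψ (t i) * χ (em i).1) ^ p =
      ψ (∑ i, t i ^ p * (q (em i)).map (algebraMap A A')) * χ w := by
    rw [sum_pow hD, map_sum, Finset.sum_mul]
    refine Finset.sum_congr rfl fun i _ => ?_
    rw [map_mul, hψ, hq, map_mul, mul_pow, map_pow, map_pow, mul_assoc, mul_assoc, ← map_mul χ, Units.inv_mul,
      map_one, mul_one]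
  exact (isUnit_pow_iff hp.out.ne_zero).1 (hcp ▸ (ht.map ψ).mul (w.isUnit.map χ))

end RootComb

section Splitting

theorem exists_step_along {R : Type u} [CommRing R] [CharP R p] {h : MvPolynomial (Fin 2) R}
    (hh : IsMulCocycle h) {I J K : Ideal R}
    (hroot : ∀ x ∈ AddSubgroup.closure (Set.range fun d => coeff d (h - 1)), ∃ c ∈ J, c ^ p = x) (hIJ : I ≤ J)
    (hJ : ∀ x ∈ J, IsNilpotent x) (hKI : K ≤ I) (hg : ∀ d, coeff d (h - 1) ∈ K) :
    ∃ f u : Polynomial R, f * u = 1 ∧ f.eval 0 = 1 ∧ ∀ d, coeff d (h * dlt f u - 1) ∈ K * J := by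
  classical
  let : Algebra (ZMod p) R := ZMod.algebra R p
  let mk := Ideal.Quotient.mk (K * J)
  let π := MvPolynomial.map (σ := Fin 2) mk
  let KP : Ideal (MvPolynomial (Fin 2) (R ⧸ K * J)) := (K.map mk).map MvPolynomial.C
  let g := π (h - 1)
  have hKJ : ∀ x ∈ K.map mk, ∀ y ∈ J.map mk, x * y = 0 := fun x hx y hy => by
    have := Ideal.mul_mem_mul hx hy
    rwa [← Ideal.map_mul, Ideal.map_quotient_self, Ideal.mem_bot] at this
  have hsq : ∀ x ∈ KP, ∀ y ∈ KP, x * y = 0 := fun x hx y hy => by
    have e : (K.map mk) * (K.map mk) = ⊥ := le_bot_iff.mp <| Ideal.mul_le.mpr fun a ha b hb =>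
      Ideal.mem_bot.mpr (hKJ a ha b (Ideal.map_mono (hKI.trans hIJ) hb))
    have := Ideal.mul_mem_mul hx hy
    rwa [← Ideal.map_mul, e, Ideal.map_bot, Ideal.mem_bot] at this
  -- what can be achieved
  let Ach : MvPolynomial (Fin 2) (R ⧸ K * J) → Prop := fun δ => δ ∈ KP ∧ ∃ f u : Polynomial R, f * u = 1 ∧
    f.eval 0 = 1 ∧ π (Polynomial.aeval (X 0) f * Polynomial.aeval (X 1) f) =
      π (Polynomial.aeval (X 0 + X 1) f) * (1 + δ)
  have ach0 : Ach 0 := ⟨zero_mem _, 1, 1, one_mul 1, by simp, by simp⟩
  have achAdd : ∀ δ δ', Ach δ → Ach δ' → Ach (δ + δ') := by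
    rintro δ δ' ⟨hδ, f, u, hfu, hf0, e⟩ ⟨hδ', f', u', hfu', hf0', e'⟩
    refine ⟨add_mem hδ hδ', f * f', u * u', by rw [mul_mul_mul_comm, hfu, hfu', one_mul],
      by rw [Polynomial.eval_mul, hf0, hf0', one_mul], ?_⟩
    simp only [map_mul] at e e' ⊢
    linear_combination (π (Polynomial.aeval (X 0) f') * π (Polynomial.aeval (X 1) f')) * e +
      (π (Polynomial.aeval (X 0 + X 1) f) * (1 + δ)) * e' +
      (π (Polynomial.aeval (X 0 + X 1) f) * π (Polynomial.aeval (X 0 + X 1) f')) * hsq δ hδ δ' hδ'
  have mkUnit : ∀ (c : R) (r : Polynomial R), IsNilpotent c → ∃ u, (1 + Polynomial.C c * r) * u = 1 :=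
    fun c r hc => ⟨_, (IsUnit.mul_val_inv (IsNilpotent.isUnit_one_add
      ((Commute.all _ r).isNilpotent_mul_right (hc.map Polynomial.C))))⟩
  have achPow : ∀ (l : R ⧸ K * J) (n : ℕ), l ∈ K.map mk → 0 < n →
      Ach (-(C l * ((X 0 + X 1) ^ n - X 0 ^ n - X 1 ^ n))) := by
    intro l n hl hn
    obtain ⟨l', hl', rfl⟩ := (Ideal.mem_map_iff_of_surjective mk Ideal.Quotient.mk_surjective).mp hl
    obtain ⟨u, hu⟩ := mkUnit l' (Polynomial.X ^ n) (hJ _ (hIJ (hKI hl')))
    have hmem : C (mk l') ∈ KP := Ideal.mem_map_of_mem _ hl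
    refine ⟨neg_mem (KP.mul_mem_right _ hmem), _, u, hu, by simp [zero_pow hn.ne'], ?_⟩
    simp only [map_mul, map_add, map_one, map_pow, Polynomial.aeval_C, Polynomial.aeval_X, π,
      MvPolynomial.algebraMap_eq, MvPolynomial.map_C, MvPolynomial.map_X]
    linear_combination (X 0 ^ n * X 1 ^ n + (X 0 + X 1) ^ n * ((X 0 + X 1) ^ n - X 0 ^ n - X 1 ^ n)) *
      hsq _ hmem _ hmem
  let Cl := AddSubgroup.closure (Set.range fun d => coeff d (h - 1))
  have achW : ∀ (l : R ⧸ K * J) (j : ℕ), (∃ l' ∈ Cl, mk l' = l) → l ∈ K.map mk →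
      Ach (-(C l * ∑ t ∈ Finset.Ioo 0 p, C (algebraMap (ZMod p) _ (w p t)) *
        (X 0 ^ (t * p ^ j) * X 1 ^ ((p - t) * p ^ j)))) := by
    rintro _ j ⟨l', hl', rfl⟩ hl
    obtain ⟨c, hc, hcp⟩ := hroot (-l') (neg_mem hl')
    set q := p ^ j
    let f : Polynomial R := ex p (Polynomial.C c * Polynomial.X ^ q)
    obtain ⟨r, hr⟩ : ∃ r, f = 1 + Polynomial.C c * r := by
      refine ⟨∑ t ∈ Finset.range (p - 1), algebraMap (ZMod p) _ (((t + 1).factorial : ℕ) : ZMod p)⁻¹ *
        (Polynomial.X ^ q * (Polynomial.C c * Polynomial.X ^ q) ^ t), ?_⟩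
      simp only [f, ex]
      have hrange : Finset.range p = Finset.range (p - 1 + 1) := by
        rw [Nat.sub_add_cancel (Fact.out : p.Prime).pos]
      rw [hrange, Finset.sum_range_succ', Finset.mul_sum, add_comm]
      congr 1
      · simp
      · exact Finset.sum_congr rfl fun t _ => by ring
    obtain ⟨u, hu⟩ := mkUnit c r (hJ c hc)
    have hcl : mk c ^ p = -mk l' := by rw [← map_pow, hcp, map_neg]
    have hmem : C (mk l') ∈ KP := Ideal.mem_map_of_mem _ hl
    refine ⟨neg_mem (KP.mul_mem_right _ hmem), f, u, by rw [hr]; exact hu, ?_, ?_⟩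
    · have e0 : f.eval 0 = 1 := by
        simp only [f, ex, Polynomial.eval_finsetSum, Polynomial.eval_mul, Polynomial.eval_pow,
          Polynomial.eval_C, Polynomial.eval_X, zero_pow (pow_ne_zero j (Fact.out : p.Prime).ne_zero), mul_zero]
        rw [Finset.sum_eq_single_of_mem 0 (Finset.mem_range.mpr (Fact.out : p.Prime).pos)
          fun t _ ht => by simp [q, zero_pow ht, zero_pow (pow_ne_zero j (Fact.out : p.Prime).ne_zero)]]
        simp
      exact e0
    · have hπ : ∀ x : MvPolynomial (Fin 2) R, π (Polynomial.aeval x f) = ex p (C (mk c) * π x ^ q) := fun x => by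
        simp only [f, ex, map_sum, map_mul, map_pow, Polynomial.aeval_C, Polynomial.aeval_X]
        refine Finset.sum_congr rfl fun t _ => ?_
        congr 1
        · have : ((π : MvPolynomial (Fin 2) R →+* (MvPolynomial (Fin 2) (R ⧸ K * J))).comp ((Polynomial.aeval x).toRingHom.comp
            (algebraMap (ZMod p) (Polynomial R)))) = algebraMap (ZMod p) (MvPolynomial (Fin 2) (R ⧸ K * J)) := Subsingleton.elim _ _
          exact congr($this _)
        · simp [π, MvPolynomial.algebraMap_eq]
      have hx : (π (X 0 + X 1)) ^ q = (π (X 0)) ^ q + (π (X 1)) ^ q := by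
        rw [← map_pow, add_pow_char_pow, map_add, map_pow, map_pow]
      have hc1 : (C (mk c) : (MvPolynomial (Fin 2) (R ⧸ K * J))) ^ (p + 1) = 0 := by
        rw [← map_pow, pow_succ, hcl, hKJ _ (neg_mem hl) _ (Ideal.mem_map_of_mem mk hc), map_zero]
      rw [map_mul, hπ, hπ, hπ, hx, ex_mul_ex p _ _ _ hc1, ← map_pow C (mk c) p, hcl, map_neg]
      set W := ∑ t ∈ Finset.Ioo 0 p, algebraMap (ZMod p) (MvPolynomial (Fin 2) (R ⧸ K * J)) (w p t) * ((π (X 0) ^ q) ^ t * (π (X 1) ^ q) ^ (p - t))
      have hW : (∑ t ∈ Finset.Ioo 0 p, C (algebraMap (ZMod p) _ (w p t)) *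
          (X 0 ^ (t * q) * X 1 ^ ((p - t) * q)) : (MvPolynomial (Fin 2) (R ⧸ K * J))) = W := by
        refine Finset.sum_congr rfl fun t _ => ?_
        simp only [π, MvPolynomial.map_X, ← pow_mul, mul_comm q]
        congr 1
      rw [hW]
      -- the correction only sees the constant term
      obtain ⟨r', hr'⟩ : ∃ r', ex p (C (mk c) * (π (X 0) ^ q + π (X 1) ^ q)) = 1 + C (mk c) * r' := by
        refine ⟨π (Polynomial.aeval (X 0 + X 1) r), ?_⟩
        rw [← hx, ← hπ, hr]
        simp [π, MvPolynomial.algebraMap_eq]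
      have h0 : C (mk c) * (C (mk l') : (MvPolynomial (Fin 2) (R ⧸ K * J))) = 0 := by
        rw [← map_mul, mul_comm (mk c), hKJ _ hl _ (Ideal.mem_map_of_mem mk hc), map_zero]
      rw [hr']
      linear_combination (r' * W) * h0
  -- coefficients of the linearised cocycle
  have hgK : g ∈ KP := MvPolynomial.mem_map_C_iff.mpr fun d => by
    rw [MvPolynomial.coeff_map]; exact Ideal.mem_map_of_mem _ (hg d)
  have nat : ∀ {n : ℕ} (v : Fin 2 → MvPolynomial (Fin n) R) (q : MvPolynomial (Fin 2) R),
      MvPolynomial.map mk (aeval v q) = aeval (fun i => MvPolynomial.map mk (v i)) (π q) := by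
    intro n v q
    induction q using MvPolynomial.induction_on with
    | C a => simp [π, MvPolynomial.algebraMap_eq]
    | add x y hx hy => simp only [map_add, hx, hy]
    | mul_X x i hx =>
      rw [map_mul, map_mul, hx]
      simp [π, MvPolynomial.map_X]
  have hπh : π h = 1 + g := by simp [g, map_sub, map_one]
  have hsymm : aeval ![(X 1 : MvPolynomial (Fin 2) (R ⧸ K * J)), X 0] g = g := by
    have e := congrArg π hh.symm
    rw [nat] at e
    simp only [hπh, map_add, map_one] at e
    have e' : (fun i => MvPolynomial.map mk (![(X 1 : MvPolynomial (Fin 2) R), X 0] i)) = ![X 1, X 0] := by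
      funext i; fin_cases i <;> simp
    rw [e'] at e
    exact add_left_cancel e
  have hzero : aeval ![(X 0 : MvPolynomial (Fin 2) (R ⧸ K * J)), 0] g = 0 := by
    have e := congrArg π hh.zero
    rw [nat] at e
    simp only [hπh, map_add, map_one] at e
    have e' : (fun i => MvPolynomial.map mk (![(X 0 : MvPolynomial (Fin 2) R), 0] i)) = ![X 0, 0] := by
      funext i; fin_cases i <;> simp
    rw [e', add_eq_left] at e
    exact e
  have hassoc : aeval ![(X 1 : MvPolynomial (Fin 3) (R ⧸ K * J)), X 2] g + aeval ![X 0, X 1 + X 2] g =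
      aeval ![X 0 + X 1, X 2] g + aeval ![X 0, X 1] g := by
    have e := congrArg (MvPolynomial.map mk) hh.assoc
    have e' : ∀ a b : MvPolynomial (Fin 3) R, (fun i => MvPolynomial.map mk (![a, b] i)) =
        ![MvPolynomial.map mk a, MvPolynomial.map mk b] := fun a b => by funext i; fin_cases i <;> simp
    simp only [map_mul, nat, e', hπh, map_add, map_one, MvPolynomial.map_X] at e
    have hz : ∀ a b c d : MvPolynomial (Fin 3) (R ⧸ K * J), aeval ![a, b] g * aeval ![c, d] g = 0 := fun a b c d => by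
      have hmem : ∀ a b : MvPolynomial (Fin 3) (R ⧸ K * J), aeval ![a, b] g ∈ (K.map mk).map MvPolynomial.C :=
        fun a b => by
          have := Ideal.mem_map_of_mem (aeval ![a, b]).toRingHom hgK
          rw [Ideal.map_map] at this
          rwa [show (aeval ![a, b]).toRingHom.comp MvPolynomial.C = MvPolynomial.C from
            RingHom.ext fun r => by simp [MvPolynomial.algebraMap_eq]] at this
      have := Ideal.mul_mem_mul (hmem a b) (hmem c d)
      rwa [← Ideal.map_mul, show (K.map mk) * (K.map mk) = ⊥ from le_bot_iff.mp <| Ideal.mul_le.mpr fun a ha b hb =>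
        Ideal.mem_bot.mpr (hKJ a ha b (Ideal.map_mono (hKI.trans hIJ) hb)), Ideal.map_bot, Ideal.mem_bot] at this
    linear_combination e - hz (X 1) (X 2) (X 0) (X 1 + X 2) + hz (X 0 + X 1) (X 2) (X 0) (X 1)
  let G : ℕ → ℕ → R ⧸ K * J := fun i j => coeff (e2 i j) g
  have G0 : ∀ i, G i 0 = 0 := fun i => by simp only [G]; rw [← coeff_zeroSnd, hzero, coeff_zero]
  have Gs : ∀ i j, G i j = G j i := fun i j => by
    simp only [G]; rw [← coeff_swap g j i, hsymm]
  let comp : ℕ → MvPolynomial (Fin 2) (R ⧸ K * J) := fun n =>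
    ∑ i ∈ Finset.range (n + 1), monomial (e2 i (n - i)) (G i (n - i))
  have achComp : ∀ n, Ach (-comp n) := by
    intro n
    let a : ℕ → R ⧸ K * J := fun i => if i < n then G i (n - i) else 0
    have ha0 : a 0 = 0 := by
      simp only [a]; split_ifs
      · rw [Nat.sub_zero, Gs, G0]
      · rfl
    have hcoc : IsCocycle (p := p) n a := by
      refine ⟨fun i hi => ?_, fun i h0 hi => ?_, fun i j h1 hij => ?_⟩
      · rcases hi with rfl | hi
        · exact ha0
        · exact if_neg (by omega)
      · simp only [a]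
        rw [if_pos hi, if_pos (by omega), show n - (n - i) = i by omega, Gs]
      · obtain ⟨k, rfl⟩ : ∃ k, n = i + j + k := ⟨n - i - j, by omega⟩
        simp only [a]
        rw [if_pos hij, if_pos (by omega), show i + j + k - (i + j) = k by omega,
          show i + j + k - i = j + k by omega, Algebra.smul_def, Algebra.smul_def, map_natCast, map_natCast]
        have e := congrArg (coeff (e3 i j k)) hassoc
        simp only [coeff_add, coeff_left, coeff_right, coeff_first _ i j k (by omega : k ≠ 0),
          coeff_last _ i j k (by omega : i ≠ 0), zero_add, add_zero] at e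
        exact e.symm
    have hcomp : comp n = ∑ i ∈ Finset.range (n + 1), monomial (e2 i (n - i)) (a i) := by
      refine Finset.sum_congr rfl fun i hi => ?_
      congr 1
      simp only [a]
      split_ifs with h
      · rfl
      · have : i = n := by simp at hi; omega
        rw [this, Nat.sub_self, G0]
    obtain ⟨l, hl, hl'⟩ := exists_normal_form n a hcoc
    have haK : ∀ i, a i ∈ K.map mk := fun i => by
      simp only [a]; split_ifs
      · exact (MvPolynomial.mem_map_C_iff.mp hgK) _
      · exact zero_mem _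
    have hlK : l ∈ K.map mk := by
      have : Submodule.span (ZMod p) (Set.range a) ≤ (K.map mk).restrictScalars (ZMod p) :=
        Submodule.span_le.mpr (by rintro _ ⟨i, rfl⟩; exact haK i)
      exact this hl
    rcases hl' with hl' | ⟨j, rfl, hl'⟩
    · rcases Nat.eq_zero_or_pos n with rfl | hn
      · simpa [hcomp, ha0] using ach0
      convert achPow l n hlK hn using 2
      rw [hcomp, add_pow, mul_sub, mul_sub, Finset.mul_sum,
        Finset.sum_range_succ _ n, Finset.sum_range_succ _ n, Finset.range_eq_Ico,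
        Finset.sum_eq_sum_Ico_succ_bot hn, Finset.sum_eq_sum_Ico_succ_bot hn, ha0, hcoc.eq_zero n (Or.inr le_rfl)]
      simp only [map_zero, Nat.choose_zero_right, Nat.choose_self, Nat.sub_self, Nat.sub_zero, Nat.cast_one,
        pow_zero, one_mul, mul_one, zero_add, add_zero]
      rw [add_assoc, add_comm (∑ x ∈ _, _) (C l * X 0 ^ n)]
      refine (Eq.trans ?_ (by ring : ∑ x ∈ Finset.Ico 1 n, C l * (X 0 ^ x * X 1 ^ (n - x) * ((n.choose x : ℕ) : MvPolynomial (Fin 2) (R ⧸ K * J))) = _))
      refine Finset.sum_congr rfl fun i hi => ?_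
      have hi := Finset.mem_Ico.mp hi
      rw [hl' i (by omega) hi.2, Algebra.smul_def, map_natCast, monomial_e2, map_mul, map_natCast]
      ring
    · have hlCl : ∃ l' ∈ Cl, mk l' = l := by
        have hgen : ∀ i, ∃ l' ∈ Cl, mk l' = a i := fun i => by
          simp only [a]; split_ifs
          · exact ⟨_, AddSubgroup.subset_closure ⟨e2 i (p ^ (j + 1) - i), rfl⟩, (MvPolynomial.coeff_map _ _ _).symm⟩
          · exact ⟨0, zero_mem _, map_zero _⟩
        clear hl' hlK
        induction hl using Submodule.span_induction with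
        | mem x hx => obtain ⟨i, rfl⟩ := hx; exact hgen i
        | zero => exact ⟨0, zero_mem _, map_zero _⟩
        | add x y _ _ hx hy =>
          obtain ⟨u, hu, rfl⟩ := hx
          obtain ⟨v, hv, rfl⟩ := hy
          exact ⟨u + v, add_mem hu hv, map_add _ _ _⟩
        | smul r x _ hx =>
          obtain ⟨u, hu, rfl⟩ := hx
          refine ⟨r.val • u, nsmul_mem hu _, ?_⟩
          rw [map_nsmul, ← Nat.cast_smul_eq_nsmul (ZMod p) r.val (mk u), ZMod.natCast_zmod_val]
      convert achW l j hlCl hlK using 2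
      rw [hcomp, Finset.mul_sum]
      simp only [hl', map_sum]
      rw [Finset.sum_comm]
      refine Finset.sum_congr rfl fun t ht => ?_
      have htp := Finset.mem_Ioo.mp ht
      have hle : t * p ^ j ≤ p ^ (j + 1) := by
        rw [pow_succ']; exact Nat.mul_le_mul_right _ htp.2.le
      rw [Finset.sum_eq_single_of_mem (t * p ^ j) (Finset.mem_range.mpr (by omega))
        fun i _ hi => by rw [if_neg hi, map_zero], if_pos rfl, monomial_e2, Algebra.smul_def, map_mul,
        show p ^ (j + 1) - t * p ^ j = (p - t) * p ^ j by rw [Nat.sub_mul, pow_succ']]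
      ring
  have hg' : g = ∑ n ∈ Finset.range (g.totalDegree + 1), comp n := by
    ext d
    obtain ⟨i, j, rfl⟩ : ∃ i j, d = e2 i j := ⟨_, _, (e2_eta d).symm⟩
    simp only [comp, coeff_sum, coeff_monomial, e2_inj]
    rw [Finset.sum_eq_single (i + j)]
    · rw [Finset.sum_eq_single i, if_pos ⟨rfl, by omega⟩]
      · simp [G]
      · exact fun x _ hx => if_neg fun e => hx e.1
      · intro hi; simp at hi
    · intro n _ hn
      refine Finset.sum_eq_zero fun x hx => if_neg ?_
      rintro ⟨rfl, e⟩
      simp at hx; omega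
    · intro hn
      refine Finset.sum_eq_zero fun x hx => ?_
      split_ifs with hx'
      · obtain ⟨rfl, e⟩ := hx'
        simp at hx hn
        rw [e]
        refine MvPolynomial.coeff_eq_zero_of_totalDegree_lt ?_
        rw [← Finsupp.degree_apply, Finsupp.degree_eq_sum]
        simp [e2, Fin.sum_univ_two]
        omega
      · rfl
  have hall : Ach (-g) := by
    rw [hg', ← Finset.sum_neg_distrib]
    exact Finset.sum_induction _ Ach achAdd ach0 fun n _ => achComp n
  obtain ⟨-, f, u, hfu, hf0, e⟩ := hall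
  refine ⟨f, u, hfu, hf0, fun d => ?_⟩
  have h1 : π (h * dlt f u) = 1 := by
    have hu : π (Polynomial.aeval (X 0 + X 1) f) * π (Polynomial.aeval (X 0 + X 1) u) = 1 := by
      rw [← map_mul, aeval_mul_eq_one hfu, map_one]
    rw [dlt, map_mul, map_mul, e, hπh]
    linear_combination ((1 + g) * (1 - g)) * hu - hsq g hgK g hgK
  have h2 := congrArg (coeff d) (show π (h * dlt f u - 1) = 0 by rw [map_sub, map_one, h1, sub_self])
  rw [MvPolynomial.coeff_map, coeff_zero] at h2
  exact Ideal.Quotient.eq_zero_iff_mem.mp h2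

/-- Base change of cocycles. -/
theorem isMulCocycle_map {A A' : Type u} [CommRing A] [CommRing A'] (e : A →+* A') {h : MvPolynomial (Fin 2) A}
    (hh : IsMulCocycle h) : IsMulCocycle (MvPolynomial.map e h) := by
  letI := e.toAlgebra
  have nat : ∀ {n : ℕ} (v : Fin 2 → MvPolynomial (Fin n) A) (q : MvPolynomial (Fin 2) A),
      MvPolynomial.map e (aeval v q) = aeval (fun i => MvPolynomial.map e (v i)) (MvPolynomial.map e q) := by
    intro n v q
    induction q using MvPolynomial.induction_on with
    | C a => simp [MvPolynomial.algebraMap_eq]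
    | add x y hx hy => simp only [map_add, hx, hy]
    | mul_X x i hx =>
      rw [map_mul, map_mul, hx]
      simp [MvPolynomial.map_X]
  have e' : ∀ {n : ℕ} (a b : MvPolynomial (Fin n) A), (fun i => MvPolynomial.map e (![a, b] i)) =
      ![MvPolynomial.map e a, MvPolynomial.map e b] := fun a b => by funext i; fin_cases i <;> simp
  refine ⟨hh.unit.map _, ?_, ?_, ?_⟩
  · have := congrArg (MvPolynomial.map e) hh.zero
    simpa only [nat, e', map_one, map_zero, MvPolynomial.map_X] using this
  · have := congrArg (MvPolynomial.map e) hh.symm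
    simpa only [nat, e', MvPolynomial.map_X] using this
  · have := congrArg (MvPolynomial.map e) hh.assoc
    simpa only [map_mul, nat, e', map_add, MvPolynomial.map_X] using this

theorem map_aeval_X {A A' : Type u} [CommRing A] [CommRing A'] (e : A →+* A') (v : MvPolynomial (Fin 2) A)
    (f : Polynomial A) : MvPolynomial.map e (Polynomial.aeval v f) =
      Polynomial.aeval (MvPolynomial.map e v) (f.map e) := by
  rw [Polynomial.aeval_def, Polynomial.aeval_def, Polynomial.hom_eval₂, Polynomial.eval₂_map]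
  congr 1
  exact RingHom.ext fun r => by simp [MvPolynomial.algebraMap_eq]

/-- A cocycle is a coboundary after adjoining finitely many roots. -/
theorem exists_splitting_along {A : Type u} [CommRing A] (hA : (p : A) = 0) (h : MvPolynomial (Fin 2) A)
    (hh : IsMulCocycle h) :
    ∃ (A' : Type u) (_ : CommRing A') (_ : Algebra A A'), IsRootExt A A' ∧
      ∃ f : Polynomial A', IsUnit f ∧ Polynomial.aeval (X 0 + X 1 : MvPolynomial (Fin 2) A') f =
        Polynomial.aeval (X 0 : MvPolynomial (Fin 2) A') f * Polynomial.aeval (X 1 : MvPolynomial (Fin 2) A') f *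
          MvPolynomial.map (algebraMap A A') h := by
  classical
  rcases subsingleton_or_nontrivial A with hs | hs
  · exact ⟨A, inferInstance, inferInstance, .refl A, 1, isUnit_one, Subsingleton.elim _ _⟩
  -- the recursion
  suffices key : ∀ (N m k : ℕ) (B : Type u) [CommRing B] [Nontrivial B], (p : B) = 0 →
      ∀ (g : MvPolynomial (Fin 2) B), IsMulCocycle g → ∀ (s : ℕ) (r : Fin s → B), (∀ i, IsNilpotent (r i)) →
      Ideal.span (Set.range r) ^ N = ⊥ → N ≤ k + m →
      (∀ d, coeff d (g - 1) ∈ Ideal.span (Set.range fun i => r i ^ p) * Ideal.span (Set.range r) ^ k) →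
      ∃ (B' : Type u) (_ : CommRing B') (_ : Algebra B B'), IsRootExt B B' ∧
        ∃ f : Polynomial B', IsUnit f ∧ Polynomial.aeval (X 0 + X 1 : MvPolynomial (Fin 2) B') f =
          Polynomial.aeval (X 0 : MvPolynomial (Fin 2) B') f * Polynomial.aeval (X 1 : MvPolynomial (Fin 2) B') f *
            MvPolynomial.map (algebraMap B B') g by
    obtain ⟨h0, hnil⟩ := MvPolynomial.isUnit_iff.mp hh.unit
    have hc0 : coeff 0 (h - 1) = 0 := by
      have e := congrArg (coeff (e2 0 0)) hh.zero
      rw [coeff_zeroSnd, show e2 0 0 = (0 : Fin 2 →₀ ℕ) by ext i; fin_cases i <;> rfl] at e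
      simp [coeff_sub, e]
    have hcn : ∀ d, IsNilpotent (coeff d (h - 1)) := fun d => by
      by_cases hd : d = 0
      · rw [hd, hc0]; exact IsNilpotent.zero
      · rw [coeff_sub, coeff_one, if_neg (Ne.symm hd), sub_zero]; exact hnil d hd
    let T : Finset A := (h - 1).support.image fun d => coeff d (h - 1)
    obtain ⟨A₁, _, _, hA₁, hr⟩ := exists_rootExt p T
    haveI := hA₁.nontrivial
    choose root hroot using fun i : Fin T.card => hr _ (T.equivFin.symm i).2
    have hrn : ∀ i, IsNilpotent (root i) := fun i => by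
      obtain ⟨x, hx, e⟩ : ∃ x ∈ T, (T.equivFin.symm i).1 = x := ⟨_, (T.equivFin.symm i).2, rfl⟩
      obtain ⟨d, -, rfl⟩ := Finset.mem_image.mp hx
      refine (IsNilpotent.pow_iff_pos hp.out.ne_zero).1 ?_
      rw [hroot, e]
      exact (hcn d).map _
    obtain ⟨N, hN⟩ := (Ideal.FG.isNilpotent_iff_le_nilradical
      ⟨Finset.univ.image root, by rw [Finset.coe_image, Finset.coe_univ, Set.image_univ]⟩).mpr
      (Ideal.span_le.mpr (by rintro _ ⟨i, rfl⟩; exact mem_nilradical.2 (hrn i)))
    obtain ⟨A'', _, _, hA'', f, hfu, hf⟩ := key N N 0 A₁ (natCast_zero_of p hA) _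
      (isMulCocycle_map (algebraMap A A₁) hh) _ root hrn hN (by omega) (fun d => by
        rw [pow_zero, mul_one, ← map_one (MvPolynomial.map (algebraMap A A₁)), ← map_sub, coeff_map]
        by_cases hd : d ∈ (h - 1).support
        · refine Ideal.subset_span ⟨T.equivFin ⟨_, Finset.mem_image_of_mem _ hd⟩, ?_⟩
          show root _ ^ p = _
          rw [hroot, Equiv.symm_apply_apply]
        · rw [notMem_support_iff.mp hd, map_zero]; exact zero_mem _)
    letI := ((algebraMap A₁ A'').comp (algebraMap A A₁)).toAlgebra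
    haveI : IsScalarTower A A₁ A'' := IsScalarTower.of_algebraMap_eq fun x => rfl
    exact ⟨A'', inferInstance, inferInstance, hA₁.trans hA'', f, hfu, by
      rwa [MvPolynomial.map_map, ← IsScalarTower.algebraMap_eq] at hf⟩
  intro N m
  induction m with
  | zero =>
    intro k B _ _ _ g _ s r _ hN hk hg
    have : g = 1 := by
      refine sub_eq_zero.mp (MvPolynomial.ext _ _ fun d => ?_)
      have := hg d
      rw [le_bot_iff.1 ((Ideal.pow_le_pow_right (by omega : N ≤ k)).trans hN.le), Ideal.mul_bot, Ideal.mem_bot] at this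
      rw [this, coeff_zero]
    exact ⟨B, inferInstance, inferInstance, .refl B, 1, isUnit_one, by simp [this]⟩
  | succ m ih =>
    intro k B _ _ hB g hh s r hrn hN hk hg
    -- adjoin the roots needed in this step
    have hex : ∀ d, ∃ a : Fin s → B, ∑ i, a i * r i ^ p = coeff d (g - 1) := fun d => by
      obtain ⟨a, ha⟩ := Ideal.mem_span_range_iff_exists_fun.1 (Ideal.mul_le_left (hg d))
      exact ⟨a, ha⟩
    choose a ha using hex
    obtain ⟨B', _, _, hB', hr⟩ := exists_rootExt p
      ((g - 1).support.biUnion fun d => Finset.univ.image (a d))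
    haveI := hB'.nontrivial
    haveI : CharP B' p := charP_of (natCast_zero_of p hB)
    let e := algebraMap B B'
    let g' := MvPolynomial.map e g
    let r' : Fin s → B' := fun i => e (r i)
    let J' := Ideal.span (Set.range r')
    let I' := Ideal.span (Set.range fun i => r' i ^ p)
    have hJ' : J' = (Ideal.span (Set.range r)).map e := by
      rw [Ideal.map_span, ← Set.range_comp]; rfl
    have hI' : I' = (Ideal.span (Set.range fun i => r i ^ p)).map e := by
      rw [Ideal.map_span, ← Set.range_comp]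
      simp only [I', r', Function.comp_def, map_pow]
    have hg' : ∀ d, coeff d (g' - 1) ∈ I' * J' ^ k := fun d => by
      rw [show g' - 1 = MvPolynomial.map e (g - 1) by simp [g', map_sub], coeff_map, hI', hJ', ← Ideal.map_pow,
        ← Ideal.map_mul]
      exact Ideal.mem_map_of_mem _ (hg d)
    have hroot : ∀ x ∈ AddSubgroup.closure (Set.range fun d => coeff d (g' - 1)), ∃ c ∈ J', c ^ p = x := by
      intro x hx
      induction hx using AddSubgroup.closure_induction with
      | mem x hx =>
        obtain ⟨d, rfl⟩ := hx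
        simp only [show g' - 1 = MvPolynomial.map e (g - 1) by simp [g', map_sub], coeff_map]
        by_cases hd : d ∈ (g - 1).support
        · choose b hb using fun i => hr (a d i)
            (Finset.mem_biUnion.2 ⟨d, hd, Finset.mem_image_of_mem _ (Finset.mem_univ i)⟩)
          refine ⟨∑ i, b i * r' i, Ideal.sum_mem _ fun i _ => Ideal.mul_mem_left _ _
            (Ideal.subset_span ⟨i, rfl⟩), ?_⟩
          rw [sum_pow_char, ← ha d, map_sum]
          exact Finset.sum_congr rfl fun i _ => by rw [mul_pow, hb, map_mul, map_pow]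
        · exact ⟨0, zero_mem _, by rw [notMem_support_iff.mp hd, map_zero, zero_pow hp.out.ne_zero]⟩
      | zero => exact ⟨0, zero_mem _, zero_pow hp.out.ne_zero⟩
      | add x y _ _ hx hy =>
        obtain ⟨c, hc, rfl⟩ := hx
        obtain ⟨c', hc', rfl⟩ := hy
        exact ⟨c + c', add_mem hc hc', add_pow_char c c' p⟩
      | neg x _ hx =>
        obtain ⟨c, hc, rfl⟩ := hx
        exact ⟨-c, neg_mem hc, eq_neg_of_add_eq_zero_left (by
          rw [← add_pow_char, neg_add_cancel, zero_pow hp.out.ne_zero])⟩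
    have hrn' : ∀ i, IsNilpotent (r' i) := fun i => (hrn i).map e
    have hIJ : I' ≤ J' := Ideal.span_le.2 (by
      rintro _ ⟨i, rfl⟩
      exact Ideal.pow_mem_of_mem _ (Ideal.subset_span (Set.mem_range_self i)) p hp.out.pos)
    have hJn : ∀ x ∈ J', IsNilpotent x := fun x hx => mem_nilradical.mp (Ideal.span_le.mpr
      (by rintro _ ⟨i, rfl⟩; exact mem_nilradical.2 (hrn' i)) hx)
    obtain ⟨f, u, hfu, hf0, hstep⟩ := exists_step_along p (isMulCocycle_map e hh) hroot hIJ hJn
      (K := I' * J' ^ k) Ideal.mul_le_left hg'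
    rw [mul_assoc, ← pow_succ] at hstep
    obtain ⟨B'', _, _, hB'', F, hFu, hF⟩ := ih (k + 1) B' (natCast_zero_of p hB) (g' * dlt f u)
      ((isMulCocycle_map e hh).mul_dlt hfu hf0) s r' hrn'
      (by rw [show Ideal.span (Set.range r') = _ from hJ', ← Ideal.map_pow, hN, Ideal.map_bot])
      (by omega) hstep
    letI := ((algebraMap B' B'').comp (algebraMap B B')).toAlgebra
    haveI : IsScalarTower B B' B'' := IsScalarTower.of_algebraMap_eq fun x => rfl
    refine ⟨B'', inferInstance, inferInstance, hB'.trans hB'', F * f.map (algebraMap B' B''),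
      hFu.mul ((IsUnit.of_mul_eq_one u hfu).map (Polynomial.mapRingHom (algebraMap B' B''))), ?_⟩
    let e' := algebraMap B' B''
    have hu1 : Polynomial.aeval (X 0 + X 1 : MvPolynomial (Fin 2) B'') (f.map e') *
        Polynomial.aeval (X 0 + X 1 : MvPolynomial (Fin 2) B'') (u.map e') = 1 :=
      aeval_mul_eq_one (by rw [← Polynomial.map_mul, hfu, Polynomial.map_one]) _
    have hdlt : MvPolynomial.map e' (dlt f u) = Polynomial.aeval (X 0) (f.map e') *
        Polynomial.aeval (X 1) (f.map e') * Polynomial.aeval (X 0 + X 1) (u.map e') := by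
      simp only [dlt, map_mul, map_aeval_X, map_add, MvPolynomial.map_X]
    have hgg : MvPolynomial.map e' g' = MvPolynomial.map (algebraMap B B'') g := MvPolynomial.map_map _ _ _
    rw [map_mul, hdlt, hgg] at hF
    simp only [map_mul]
    linear_combination (Polynomial.aeval (X 0 + X 1 : MvPolynomial (Fin 2) B'') (f.map e')) * hF +
      (Polynomial.aeval (X 0 : MvPolynomial (Fin 2) B'') F * Polynomial.aeval (X 1 : MvPolynomial (Fin 2) B'') F *
        MvPolynomial.map (algebraMap B B'') g * Polynomial.aeval (X 0 : MvPolynomial (Fin 2) B'') (f.map e') *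
        Polynomial.aeval (X 1 : MvPolynomial (Fin 2) B'') (f.map e')) * hu1

end Splitting

end Groth.Agent.GaExt25
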