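import Groth.Agent.GaExt25.AffPts
import Groth.Agent.GaExt25.Glue
import Groth.Prelude.Def_AlphaPn
import Groth.Prelude.Def_CGrpSh
import Mathlib.Algebra.Homology.ShortComplex.ShortExact
import Mathlib.CategoryTheory.Sites.LocallySurjective
import Mathlib.RingTheory.AdjoinRoot
import Mathlib.RingTheory.Flat.FaithfullyFlat.Basic
import Mathlib.RingTheory.FinitePresentation
import Mathlib.AlgebraicGeometry.Morphisms.Flat

/-!
The sheaves of points of the Frobenius kernels of the additive group and their exact sequences.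
-/

set_option autoImplicit false
universe u

open CategoryTheory CategoryTheory.Limits AlgebraicGeometry Opposite MonObj
open Groth.Agent.Sga84 (sp spMap)
open scoped TensorProduct

noncomputable section

namespace Groth.Agent.GaExt25

variable {R : Type u} [CommRing R]

theorem app_comp {A : Type u} [CommRing A] [Algebra R A] {T T' : Over (base R)} (g : T' ⟶ T) (m : T ⟶ spA R A)
    (a : A) : app (g ≫ m) a = g.left.appTop (app m a) := rfl

theorem app_spMap {A B : Type u} [CommRing A] [Algebra R A] [CommRing B] [Algebra R B] (φ : A →ₐ[R] B)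
    {T : Over (base R)} (m : T ⟶ spA R B) (a : A) : app (m ≫ spMap (𝟙 (base R)) φ) a = app m (φ a) :=
  congrArg m.left.appTop.hom congr($(Scheme.ΓSpecIso_inv_naturality (CommRingCat.ofHom φ.toRingHom)) a).symm

/-- The group scheme `α_{p^n}`. -/
abbrev Gn (p n : ℕ) (R : Type u) [CommRing R] : Over (base R) := grpSpec R (AlphaPn.A p n R)

variable {p : ℕ} {n : ℕ} {T : Over (base R)}

/-- The coordinate of a point. -/
def fn (m : T ⟶ Gn p n R) : Γ(T.left, ⊤) := appG m (AlphaPn.x p n R)

theorem fn_pow (m : T ⟶ Gn p n R) : fn m ^ p ^ n = 0 := by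
  rw [fn, ← map_pow, AlphaPn.x_pow, map_zero]

theorem fn_comp {T' : Over (base R)} (g : T' ⟶ T) (m : T ⟶ Gn p n R) : fn (g ≫ m) = g.left.appTop (fn m) :=
  appG_comp g m _

theorem fn_injective {m m' : T ⟶ Gn p n R} (h : fn m = fn m') : m = m' := by
  letI := algΓ T
  refine ptG_ext (RingHom.ext fun a => ?_)
  exact congr($(AlphaPn.algHom_ext (f := appAlg m) (g := appAlg m') h) a)

theorem exists_fn (b : Γ(T.left, ⊤)) (hb : b ^ p ^ n = 0) : ∃ m : T ⟶ Gn p n R, fn m = b := by
  letI := algΓ T
  obtain ⟨m, hm⟩ := exists_ptG (T := T) (AlphaPn.lift p n R b hb).toRingHom (AlgHom.commutes _)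
  exact ⟨m, (congr($hm _)).trans (AlphaPn.lift_x b hb)⟩

section Hopf

variable [hp : Fact p.Prime] [CharP R p]

theorem fn_mul (m m' : T ⟶ Gn p n R) : fn (m * m') = fn m + fn m' := by
  letI := algΓ T
  rw [fn, appG_mul, AlgHom.convMul_apply, AlphaPn.comul_x]
  simp only [WithConv.ofConv_toConv, map_add, Algebra.TensorProduct.map_tmul, map_one,
    Algebra.TensorProduct.lift_tmul, Algebra.TensorProduct.lmul'_apply_tmul, mul_one, one_mul]
  show fn m * 1 + 1 * fn m' = _
  rw [_root_.mul_one, _root_.one_mul]

theorem fn_one : fn (1 : T ⟶ Gn p n R) = 0 := by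
  have h := fn_mul (1 : T ⟶ Gn p n R) 1
  rwa [_root_.mul_one (1 : T ⟶ Gn p n R), left_eq_add] at h

theorem fn_npow (m : T ⟶ Gn p n R) (k : ℕ) : fn (m ^ k) = k * fn m := by
  induction k with
  | zero => rw [pow_zero, fn_one, Nat.cast_zero, zero_mul]
  | succ k ih => rw [pow_succ, fn_mul, ih, Nat.cast_succ, add_one_mul]

/-- The sheaf of points of `α_{p^n}`. -/
abbrev PS (p n : ℕ) (R : Type u) [CommRing R] [Fact p.Prime] [CharP R p] : BigSite.Ab Scheme.fppfPrecoverage (base R) := CGrpSh.pts Scheme.fppfPrecoverage (Gn p n R)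

/-- The coordinate of a section. -/
def val (z : (PS p n R).obj.obj (op T)) : Γ(T.left, ⊤) := fn z.down.toMul

theorem val_pow (z : (PS p n R).obj.obj (op T)) : val z ^ p ^ n = 0 := fn_pow _

theorem val_injective : Function.Injective (val : (PS p n R).obj.obj (op T) → Γ(T.left, ⊤)) :=
  fun _ _ h => ULift.ext _ _ (congrArg Additive.ofMul (fn_injective h))

theorem exists_val (b : Γ(T.left, ⊤)) (hb : b ^ p ^ n = 0) :
    ∃ z : (PS p n R).obj.obj (op T), val z = b :=
  let ⟨m, hm⟩ := exists_fn b hb
  ⟨ULift.up (Additive.ofMul m), hm⟩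

theorem val_add (z z' : (PS p n R).obj.obj (op T)) : val (z + z') = val z + val z' :=
  fn_mul z.down.toMul z'.down.toMul

theorem val_zero : val (0 : (PS p n R).obj.obj (op T)) = 0 := fn_one

theorem val_map {T' : Over (base R)} (g : T' ⟶ T) (z : (PS p n R).obj.obj (op T)) :
    val ((PS p n R).obj.map g.op z) = g.left.appTop (val z) := fn_comp g _

/-- A natural additive operation on coordinates. -/
def mkSh {F : BigSite.Ab Scheme.fppfPrecoverage (base R)}
    (φ : ∀ (U : Over (base R)), F.obj.obj (op U) → Γ(U.left, ⊤))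
    (hpow : ∀ U x, φ U x ^ p ^ n = 0) (hadd : ∀ U x y, φ U (x + y) = φ U x + φ U y)
    (hnat : ∀ (U V : Over (base R)) (g : V ⟶ U) x, φ V (F.obj.map g.op x) = g.left.appTop (φ U x)) :
    F ⟶ PS p n R :=
  ⟨{ app := fun U => AddCommGrpCat.ofHom (AddMonoidHom.mk'
        (fun x => (exists_val (φ U.unop x) (hpow _ x)).choose)
        fun x y => val_injective
          ((exists_val (φ U.unop (x + y)) (hpow _ _)).choose_spec.trans
            ((hadd _ x y).trans
              ((congrArg₂ (· + ·) (exists_val (φ U.unop x) (hpow _ x)).choose_spec.symm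
                (exists_val (φ U.unop y) (hpow _ y)).choose_spec.symm).trans (val_add _ _).symm))))
     naturality := fun U V g => AddCommGrpCat.ext fun x => val_injective (by
        show val (exists_val (φ V.unop (F.obj.map g x)) (hpow V.unop (F.obj.map g x))).choose =
          val ((PS p n R).obj.map g.unop.op (exists_val (φ U.unop x) (hpow U.unop x)).choose)
        exact (exists_val (φ V.unop (F.obj.map g x)) (hpow _ _)).choose_spec.trans
          ((hnat U.unop V.unop g.unop x).trans
            ((congrArg g.unop.left.appTop.hom (exists_val (φ U.unop x) (hpow _ _)).choose_spec.symm).trans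
              (val_map g.unop _).symm))) }⟩

theorem val_mkSh {F : BigSite.Ab Scheme.fppfPrecoverage (base R)}
    (φ : ∀ (U : Over (base R)), F.obj.obj (op U) → Γ(U.left, ⊤)) (hpow hadd hnat) {U : Over (base R)}
    (x : F.obj.obj (op U)) : val (n := n) ((mkSh (p := p) φ hpow hadd hnat).hom.app (op U) x) = φ U x :=
  (exists_val (φ U x) (hpow _ x)).choose_spec

/-- The inclusion of `α_p`. -/
def incS (p n : ℕ) (R : Type u) [CommRing R] [hp : Fact p.Prime] [CharP R p] : PS p 1 R ⟶ PS p (n + 1) R :=
  mkSh (fun _ z => val z)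
    (fun _ z => by
      rw [pow_succ', pow_mul, show val z ^ p = 0 by simpa using val_pow z, zero_pow (pow_ne_zero _ hp.out.ne_zero)])
    (fun _ => val_add) (fun _ _ g z => val_map g z)

theorem natCast_eq_zero' (U : Over (base R)) : (p : Γ(U.left, ⊤)) = 0 := by
  rw [← map_natCast (strFn U), CharP.cast_eq_zero, map_zero]

theorem add_pow_p (U : Over (base R)) (a b : Γ(U.left, ⊤)) : (a + b) ^ p = a ^ p + b ^ p := by
  obtain ⟨r, hr⟩ := exists_add_pow_prime_eq hp.out a b
  rw [hr, natCast_eq_zero' U, zero_mul, zero_mul, zero_mul, add_zero]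

/-- The Frobenius. -/
def frobS (p n : ℕ) (R : Type u) [CommRing R] [hp : Fact p.Prime] [CharP R p] : PS p (n + 1) R ⟶ PS p n R :=
  mkSh (fun _ z => val z ^ p) (fun _ z => by rw [← pow_mul, ← pow_succ', val_pow])
    (fun U z z' => by rw [val_add, add_pow_p U])
    (fun _ _ g z => by rw [val_map, map_pow])

theorem incS_frobS : incS p n R ≫ frobS p n R = 0 := by
  refine Sheaf.hom_ext (NatTrans.ext (funext fun U => AddCommGrpCat.ext fun z => val_injective ?_))
  show val ((frobS p n R).hom.app (op U.unop) ((incS p n R).hom.app (op U.unop) z)) =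
    val (0 : (PS p n R).obj.obj (op U.unop))
  rw [frobS, val_mkSh, incS, val_mkSh, val_zero]
  simpa using val_pow z

instance mono_incS : Mono (incS p n R) := by
  constructor
  intro Z k k' h
  refine Sheaf.hom_ext (NatTrans.ext (funext fun U => AddCommGrpCat.ext fun z => val_injective ?_))
  have := congrArg (fun f : Z ⟶ PS p (n + 1) R => val (T := U.unop) (f.hom.app (op U.unop) z)) h
  simp only at this
  change val ((incS p n R).hom.app (op U.unop) (k.hom.app (op U.unop) z)) =
    val ((incS p n R).hom.app (op U.unop) (k'.hom.app (op U.unop) z)) at this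
  rw [incS, val_mkSh, val_mkSh] at this
  exact this

theorem exists_root_cover {A : Type u} [CommRing A] [Algebra R A] (b : A) :
    ∃ (Y : Over (base R)) (c : Y ⟶ spA R A) (β : Γ(Y.left, ⊤)),
      Flat c.left ∧ LocallyOfFinitePresentation c.left ∧ Surjective c.left ∧ app c b = β ^ p := by
  rcases subsingleton_or_nontrivial A with hA | hA
  · refine ⟨spA R A, 𝟙 _, 0, inferInstance, inferInstance, inferInstance, ?_⟩
    rw [Subsingleton.elim b 0, map_zero, zero_pow hp.out.ne_zero]
  let f : Polynomial A := Polynomial.X ^ p - Polynomial.C b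
  have hf : f.Monic := Polynomial.monic_X_pow_sub_C b hp.out.ne_zero
  let B := AdjoinRoot f
  haveI : Module.Free A B := hf.free_adjoinRoot
  haveI : Module.Finite A B := hf.finite_adjoinRoot
  haveI : Nontrivial B := by
    haveI : Nonempty (Fin (AdjoinRoot.powerBasis' hf).dim) := ⟨⟨0, by
      rw [AdjoinRoot.powerBasis'_dim, Polynomial.natDegree_X_pow_sub_C]; exact hp.out.pos⟩⟩
    exact (AdjoinRoot.powerBasis' hf).basis.repr.toEquiv.nontrivial
  haveI : Module.FaithfullyFlat A B := inferInstance
  haveI : Algebra.FinitePresentation A B := inferInstance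
  let φ : A →ₐ[R] B := IsScalarTower.toAlgHom R A B
  let c : spA R B ⟶ spA R A := spMap (𝟙 (base R)) φ
  have hff : (φ.toRingHom).FaithfullyFlat :=
    RingHom.faithfullyFlat_algebraMap_iff.2 inferInstance
  obtain ⟨hfl, hsj⟩ := (flat_and_surjective_SpecMap_iff (CommRingCat.ofHom φ.toRingHom)).2 hff
  refine ⟨spA R B, c, app (𝟙 (spA R B)) (AdjoinRoot.root f), hfl, ?_, hsj, ?_⟩
  · show LocallyOfFinitePresentation (Spec.map (CommRingCat.ofHom φ.toRingHom))
    rw [HasRingHomProperty.Spec_iff (P := @LocallyOfFinitePresentation)]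
    exact RingHom.finitePresentation_algebraMap.2 inferInstance
  · rw [← Category.id_comp c, app_spMap, ← map_pow]
    congr 1
    have : AdjoinRoot.mk f f = 0 := AdjoinRoot.mk_self
    rw [map_sub, map_pow, AdjoinRoot.mk_X, AdjoinRoot.mk_C, sub_eq_zero] at this
    exact this.symm

instance locallySurjective_frobS : Sheaf.IsLocallySurjective (frobS p n R) := by
  constructor
  intro U z
  let m : U ⟶ spA R (AlphaPn.A p n R) := z.down.toMul ≫ (grpSpecIso R (AlphaPn.A p n R)).hom
  obtain ⟨Y, c, β, hfl, hfp, hsj, hβ⟩ := exists_root_cover (R := R) (p := p) (AlphaPn.x p n R)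
  refine GrothendieckTopology.superset_covering _ ?_ ((Jf (base R)).pullback_stable m
    (generate_mem (fun _ : PUnit.{u + 1} => c) (fun _ => hfl) (fun _ => hfp)
      (fun x => ⟨PUnit.unit, hsj.surj x⟩)))
  rintro W g ⟨_, a, _, ⟨⟨⟩⟩, he⟩
  have hz : g.left.appTop (val z) = (a.left.appTop β) ^ p := by
    rw [← map_pow, ← hβ, ← app_comp, he, app_comp]
    rfl
  obtain ⟨w, hw⟩ := exists_val (n := n + 1) (T := W) (a.left.appTop β) (by
    rw [pow_succ', pow_mul, ← hz, ← map_pow, val_pow, map_zero])
  refine ⟨w, val_injective ?_⟩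
  rw [frobS, val_mkSh]
  exact (congrArg (· ^ p) hw).trans (hz.symm.trans (val_map g z).symm)

theorem shortExact_seq : (ShortComplex.mk (incS p n R) (frobS p n R) incS_frobS).ShortExact := by
  haveI : Epi (frobS p n R) := Sheaf.epi_of_isLocallySurjective (frobS p n R)
  refine { exact := ShortComplex.exact_of_f_is_kernel _ (KernelFork.IsLimit.ofι' _ incS_frobS fun {W} k hk => ?_) }
  have hp0 : ∀ (U : Over (base R)) (x : W.obj.obj (op U)), val (k.hom.app (op U) x) ^ p ^ 1 = 0 := by
    intro U x
    have := congrArg (fun f : W ⟶ PS p n R => val (T := U) (f.hom.app (op U) x)) hk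
    simp only at this
    change val ((frobS p n R).hom.app (op U) (k.hom.app (op U) x)) = val (0 : (PS p n R).obj.obj (op U)) at this
    rw [frobS, val_mkSh, val_zero] at this
    rwa [pow_one]
  refine ⟨mkSh (fun U x => val (k.hom.app (op U) x)) hp0
    (fun U x y => by rw [← val_add, map_add])
    (fun U V g x => by rw [← val_map]; exact congrArg val (hom_app_map k g x)), ?_⟩
  refine Sheaf.hom_ext (NatTrans.ext (funext fun U => AddCommGrpCat.ext fun x => val_injective ?_))
  show val ((incS p n R).hom.app (op U.unop) _) = _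
  rw [incS, val_mkSh]
  exact val_mkSh _ _ _ _ x

/-- The sheaf of the trivial group scheme is zero. -/
theorem isZero_zero : IsZero (PS p 0 R) := by
  refine (IsZero.iff_id_eq_zero _).2 (Sheaf.hom_ext (NatTrans.ext (funext fun U => AddCommGrpCat.ext fun z => ?_)))
  have h : ∀ w : (PS p 0 R).obj.obj (op U.unop), val w = 0 := fun w => by simpa using val_pow w
  exact val_injective (T := U.unop) ((h _).trans (h _).symm)

end Hopf

end Groth.Agent.GaExt25
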