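import Mathlib.Algebra.Homology.DerivedCategory.Ext.EnoughInjectives
import Mathlib.Algebra.Homology.DerivedCategory.Ext.ExactSequences
import Mathlib.CategoryTheory.Abelian.Basic
import Mathlib.Algebra.Homology.ShortComplex.ShortExact

/-!
`Ext¹` vanishes when every extension splits.
-/

set_option autoImplicit false
universe w v u

open CategoryTheory CategoryTheory.Abelian CategoryTheory.Limits

namespace Groth.Agent.GaExt25

variable {A : Type u} [Category.{v} A] [Abelian A] [HasExt.{w} A] [EnoughInjectives A]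

theorem ext_one_subsingleton_of_split {F G : A}
    (h : ∀ (E : A) (a : G ⟶ E) (b : E ⟶ F) (w : a ≫ b = 0),
      (ShortComplex.mk a b w).ShortExact → ∃ σ : F ⟶ E, σ ≫ b = 𝟙 F) :
    Subsingleton (Ext F G 1) := by
  refine subsingleton_of_forall_eq 0 fun e => ?_
  let ι := Injective.ι G
  have hS : (ShortComplex.mk ι (cokernel.π ι) (cokernel.condition ι)).ShortExact :=
    { exact := ShortComplex.exact_cokernel ι }
  obtain ⟨φ, hφ⟩ := Ext.covariant_sequence_exact₁ F hS e (Ext.eq_zero_of_injective _) (zero_add 1)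
  obtain ⟨φ, rfl⟩ := (Ext.mk₀_bijective F _).2 φ
  let a : G ⟶ pullback (cokernel.π ι) φ := pullback.lift ι 0 (by rw [cokernel.condition, zero_comp])
  have ha : a ≫ pullback.fst _ _ = ι := pullback.lift_fst _ _ _
  have ha' : a ≫ pullback.snd _ _ = 0 := pullback.lift_snd _ _ _
  have hse : (ShortComplex.mk a (pullback.snd _ _) ha').ShortExact := by
    haveI : Mono a := mono_of_mono_fac ha
    haveI : Mono ι := hS.mono_f
    refine { exact := ShortComplex.exact_of_f_is_kernel _ (KernelFork.IsLimit.ofι' a ha' fun {W} k hk => ?_) }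
    have hk0 : (k ≫ pullback.fst (cokernel.π ι) φ) ≫ cokernel.π ι = 0 := by
      rw [Category.assoc, pullback.condition, ← Category.assoc, hk, zero_comp]
    refine ⟨hS.exact.lift (k ≫ pullback.fst _ _) hk0, pullback.hom_ext ?_ ?_⟩
    · rw [Category.assoc, ha]
      exact hS.exact.lift_f _ _
    · rw [Category.assoc, ha', comp_zero, hk]
  obtain ⟨σ, hσ⟩ := h _ _ _ _ hse
  have hφ' : φ = (σ ≫ pullback.fst _ _) ≫ cokernel.π ι := by
    rw [Category.assoc, pullback.condition, ← Category.assoc, hσ, Category.id_comp]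
  rw [← hφ, hφ', ← Ext.mk₀_comp_mk₀, Ext.comp_assoc_of_second_deg_zero, hS.comp_extClass, Ext.comp_zero]

end Groth.Agent.GaExt25
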