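import Groth.Agent.GaExt25.Glue
import Groth.Agent.GaExt25.Ring
import Groth.Agent.Sga84.TorsorGaGm
import Groth.Prelude.Def_CGrpSh2
import Groth.Prelude.Def_Red2
import Mathlib.Algebra.Homology.ShortComplex.Ab
import Mathlib.CategoryTheory.Sites.EpiMono
import Mathlib.AlgebraicGeometry.Sites.Pretopology
import Mathlib.AlgebraicGeometry.Limits

/-!
Extensions of an abelian fppf sheaf by the multiplicative group: affine local lifts and their cocycles.
-/

set_option autoImplicit false
universe u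

open CategoryTheory CategoryTheory.Limits AlgebraicGeometry Opposite TensorProduct MonObj
  CartesianMonoidalCategory
open Groth.Agent.Sga84 (sp spMap spMap_comp coM coM_comp coM_mul coM_injective coM_isUnit coM_surjective)
open Algebra.TensorProduct (includeLeft includeRight)

noncomputable section

namespace Groth.Agent.GaExt25

variable {S : Scheme.{u}}

theorem isOpenImmersion_eval {κ : Type u} (A : κ → Type u) [∀ i, CommRing (A i)] (i : κ) :
    IsOpenImmersion (Spec.map (CommRingCat.ofHom (Pi.evalRingHom A i))) := inferInstance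

theorem comp_sub {S : Scheme.{u}} (F : BigSite.Ab Scheme.fppfPrecoverage S) {R : Type u} [CommRing R]
    (j : Spec (CommRingCat.of R) ⟶ S) {A B C : Type u} [CommRing A] [CommRing B] [CommRing C] [Algebra R A]
    [Algebra R B] [Algebra R C] (q : B →ₐ[R] C) (i i' : A →ₐ[R] B) (y : F.obj.obj (op (sp j A))) :
    F.obj.map (spMap j q).op (F.obj.map (spMap j i).op y - F.obj.map (spMap j i').op y) =
      F.obj.map (spMap j (q.comp i)).op y - F.obj.map (spMap j (q.comp i')).op y := by
  rw [map_sub, map_map, map_map, spMap_comp, spMap_comp]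

/-- An extension of `F` by the sheaf of the multiplicative group. -/
structure GmExt (F : BigSite.Ab Scheme.fppfPrecoverage S) where
  /-- The middle term. -/
  E : BigSite.Ab Scheme.fppfPrecoverage S
  /-- The inclusion. -/
  a : CGrpSh.pts Scheme.fppfPrecoverage (Red.Gm S) ⟶ E
  /-- The projection. -/
  b : E ⟶ F
  w : a ≫ b = 0
  se : (ShortComplex.mk a b w).ShortExact

namespace GmExt

variable {F : BigSite.Ab Scheme.fppfPrecoverage S} (X : GmExt F)

/-- The projection on sections. -/
def proj {T : Over S} (e : X.E.obj.obj (op T)) : F.obj.obj (op T) := X.b.hom.app (op T) e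

/-- The inclusion on points of the multiplicative group. -/
def incl {T : Over S} (t : T ⟶ Red.Gm S) : X.E.obj.obj (op T) :=
  X.a.hom.app (op T) (ULift.up (Additive.ofMul t))

theorem incl_injective (T : Over S) : Function.Injective (X.incl (T := T)) := by
  intro t t' h
  haveI : Mono X.a := X.se.mono_f
  haveI : Mono X.a.hom := inferInstanceAs (Mono ((sheafToPresheaf _ _).map X.a))
  have := (AddCommGrpCat.mono_iff_injective (X.a.hom.app (op T))).1 inferInstance h
  exact congrArg (fun z : (CGrpSh.pts Scheme.fppfPrecoverage (Red.Gm S)).obj.obj (op T) => z.down.toMul) this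

theorem incl_mul {T : Over S} (t t' : T ⟶ Red.Gm S) : X.incl (t * t') = X.incl t + X.incl t' :=
  map_add (X.a.hom.app (op T)).hom (ULift.up (Additive.ofMul t)) (ULift.up (Additive.ofMul t'))

theorem incl_one (T : Over S) : X.incl (1 : T ⟶ Red.Gm S) = 0 :=
  map_zero (X.a.hom.app (op T)).hom

theorem incl_comp {T T' : Over S} (g : T' ⟶ T) (t : T ⟶ Red.Gm S) :
    X.E.obj.map g.op (X.incl t) = X.incl (g ≫ t) :=
  (hom_app_map X.a g (ULift.up (Additive.ofMul t))).symm

theorem proj_map {T T' : Over S} (g : T' ⟶ T) (e : X.E.obj.obj (op T)) :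
    X.proj (X.E.obj.map g.op e) = F.obj.map g.op (X.proj e) := hom_app_map X.b g e

theorem proj_incl {T : Over S} (t : T ⟶ Red.Gm S) : X.proj (X.incl t) = 0 := by
  show (X.a ≫ X.b).hom.app (op T) _ = 0
  rw [X.w]
  rfl

theorem proj_add {T : Over S} (e e' : X.E.obj.obj (op T)) : X.proj (e + e') = X.proj e + X.proj e' :=
  map_add (X.b.hom.app (op T)).hom e e'

theorem proj_sub {T : Over S} (e e' : X.E.obj.obj (op T)) : X.proj (e - e') = X.proj e - X.proj e' :=
  map_sub (X.b.hom.app (op T)).hom e e'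

theorem proj_nsmul {T : Over S} (n : ℕ) (e : X.E.obj.obj (op T)) : X.proj (n • e) = n • X.proj e :=
  map_nsmul (X.b.hom.app (op T)).hom n e

theorem exists_incl {T : Over S} {e : X.E.obj.obj (op T)} (h : X.proj e = 0) :
    ∃ t : T ⟶ Red.Gm S, X.incl t = e := by
  let Φ := sheafToPresheaf (QuotSh.J Scheme.fppfPrecoverage S) AddCommGrpCat.{u + 1} ⋙
    (evaluation _ _).obj (op T)
  obtain ⟨t, ht⟩ := (ShortComplex.ab_exact_iff ((ShortComplex.mk X.a X.b X.w).map Φ)).1
    (X.se.exact.map_of_mono_of_preservesKernel Φ X.se.mono_f inferInstance) e h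
  exact ⟨t.down.toMul, ht⟩

theorem incl_pow {T : Over S} (t : T ⟶ Red.Gm S) (n : ℕ) : X.incl (t ^ n) = n • X.incl t :=
  map_nsmul (X.a.hom.app (op T)).hom n (ULift.up (Additive.ofMul t))

variable {R : Type u} [CommRing R] (j : Spec (CommRingCat.of R) ⟶ S)

/-- The structure map of the spectrum of an algebra. -/
abbrev toBase (C : Type u) [CommRing C] [Algebra R C] : sp j C ⟶ sp j R := spMap j (Algebra.ofId R C)

/-- A family of affine pieces, flat and of finite presentation over `R`, covering it, on which a section lifts. -/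
structure Lift (x : F.obj.obj (op (sp j R))) where
  /-- The number of pieces. -/
  m : ℕ
  /-- The pieces. -/
  A : ULift.{u} (Fin m) → Type u
  [ring : ∀ k, CommRing (A k)]
  [alg : ∀ k, Algebra R (A k)]
  flat : ∀ k, Flat (toBase j (A k)).left
  fp : ∀ k, LocallyOfFinitePresentation (toBase j (A k)).left
  surj : ∀ q : (sp j R).left, ∃ k, q ∈ Set.range (toBase j (A k)).left
  /-- The lifts. -/
  e : ∀ k, X.E.obj.obj (op (sp j (A k)))
  he : ∀ k, X.proj (e k) = F.obj.map (toBase j (A k)).op x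

attribute [instance] Lift.ring Lift.alg

theorem exists_lift (x : F.obj.obj (op (sp j R))) : Nonempty (X.Lift j x) := by
  haveI : Epi X.b := X.se.epi_g
  haveI : Sheaf.IsLocallySurjective X.b :=
    (Sheaf.isLocallySurjective_iff_epi' AddCommGrpCat.{u + 1} X.b).2 inferInstance
  have hR := Presheaf.imageSieve_mem (Jf S) X.b.hom (U := op (sp j R)) x
  rw [GrothendieckTopology.mem_over_iff] at hR
  have : (@Flat ⊓ @LocallyOfFinitePresentation :
      MorphismProperty Scheme.{u}).IsStableUnderBaseChange :=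
    MorphismProperty.IsStableUnderBaseChange.inf
  have : MorphismProperty.IsMultiplicative
      (@Flat ⊓ @LocallyOfFinitePresentation : MorphismProperty Scheme.{u}) :=
    { id_mem := fun X => ⟨(inferInstance : Flat (𝟙 X)), (inferInstance : LocallyOfFinitePresentation (𝟙 X))⟩
      comp_mem := fun f g ⟨_, _⟩ ⟨_, _⟩ => ⟨(inferInstance : Flat (f ≫ g)),
        (inferInstance : LocallyOfFinitePresentation (f ≫ g))⟩ }
  obtain ⟨𝒰, h𝒰⟩ := Scheme.exists_cover_of_mem_grothendieckTopology
    (P := @Flat ⊓ @LocallyOfFinitePresentation) hR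
  classical
  have hopen : ∀ i, IsOpenMap (𝒰.f i).base := fun i => by
    have := (𝒰.map_prop i).1
    have := (𝒰.map_prop i).2
    exact (𝒰.f i).isOpenMap
  let O : (Σ i, (𝒰.X i).affineOpens) → Set (sp j R).left := fun r => (𝒰.f r.1) '' (r.2.1 : Set (𝒰.X r.1))
  have hcov : (Set.univ : Set (sp j R).left) ⊆ ⋃ r, O r := by
    intro z _
    obtain ⟨i, v, rfl⟩ := 𝒰.exists_eq z
    obtain ⟨U, hU, hv, -⟩ := exists_isAffineOpen_mem_and_subset (U := (⊤ : (𝒰.X i).Opens)) (x := v) trivial
    exact Set.mem_iUnion.2 ⟨⟨i, U, hU⟩, v, hv, rfl⟩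
  have hc : CompactSpace ↥(sp j R).left := inferInstanceAs (CompactSpace ↥(Spec (CommRingCat.of R)))
  obtain ⟨t, ht⟩ := isCompact_univ.elim_finite_subcover O (fun r => hopen _ _ r.2.1.2) hcov
  let r : ULift.{u} (Fin t.card) → (Σ i, (𝒰.X i).affineOpens) := fun k => (t.equivFin.symm k.down).1
  let W : ∀ k, Spec Γ(𝒰.X (r k).1, (r k).2.1) ⟶ Spec (CommRingCat.of R) := fun k =>
    (r k).2.2.fromSpec ≫ 𝒰.f (r k).1
  let algk : ∀ k, Algebra R Γ(𝒰.X (r k).1, (r k).2.1) := fun k => (Spec.preimage (W k)).hom.toAlgebra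
  have hW : ∀ k, (toBase j Γ(𝒰.X (r k).1, (r k).2.1)).left = W k := fun k => by
    show Spec.map _ = _
    rw [← Spec.map_preimage (W k)]
    rfl
  have hlift : ∀ k, ∃ e : X.E.obj.obj (op (sp j Γ(𝒰.X (r k).1, (r k).2.1))),
      X.proj e = F.obj.map (toBase j Γ(𝒰.X (r k).1, (r k).2.1)).op x := by
    intro k
    have hm := h𝒰 _ _ (Presieve.ofArrows.mk (r k).1)
    rw [Sieve.overEquiv_iff] at hm
    let g : sp j Γ(𝒰.X (r k).1, (r k).2.1) ⟶ Over.mk (𝒰.f (r k).1 ≫ (sp j R).hom) :=
      Over.homMk (r k).2.2.fromSpec (by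
        show (r k).2.2.fromSpec ≫ 𝒰.f (r k).1 ≫ (sp j R).hom = _
        rw [← Category.assoc]
        show W k ≫ _ = _
        rw [← hW k]
        exact Over.w _)
    obtain ⟨e, he⟩ := (Presheaf.imageSieve X.b.hom x).downward_closed hm g
    exact ⟨e, he.trans (congrArg (fun q => F.obj.map (Quiver.Hom.op q) x)
      (Over.OverMorphism.ext (hW k).symm))⟩
  choose e he using hlift
  refine ⟨{ m := t.card
            A := fun k => Γ(𝒰.X (r k).1, (r k).2.1)
            flat := fun k => ?_, fp := fun k => ?_, surj := fun q => ?_, e := e, he := he }⟩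
  · rw [hW]
    have := (𝒰.map_prop (r k).1).1
    have : IsOpenImmersion (r k).2.2.fromSpec := (r k).2.2.isOpenImmersion_fromSpec
    exact MorphismProperty.comp_mem (W := @Flat) _ _ inferInstance ‹_›
  · rw [hW]
    have := (𝒰.map_prop (r k).1).2
    have : IsOpenImmersion (r k).2.2.fromSpec := (r k).2.2.isOpenImmersion_fromSpec
    exact MorphismProperty.comp_mem (W := @LocallyOfFinitePresentation) _ _ inferInstance ‹_›
  · obtain ⟨s, hs, v, hv, rfl⟩ := Set.mem_iUnion₂.1 (ht (Set.mem_univ q))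
    obtain ⟨k, hk⟩ := t.equivFin.symm.surjective ⟨s, hs⟩
    refine ⟨⟨k⟩, ?_⟩
    rw [hW]
    have hr : r ⟨k⟩ = s := congrArg Subtype.val hk
    subst hr
    rw [← (r ⟨k⟩).2.2.range_fromSpec] at hv
    obtain ⟨w, rfl⟩ := hv
    exact ⟨w, Scheme.Hom.comp_apply _ _ _⟩

namespace Lift

variable {X j} {x : F.obj.obj (op (sp j R))} (L : X.Lift j x)

/-- The product of the pieces. -/
abbrev C : Type u := ∀ k, L.A k

/-- The projection to a piece. -/
def ev (k : ULift.{u} (Fin L.m)) : L.C →ₐ[R] L.A k := Pi.evalAlgHom R L.A k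

theorem isOpenImmersion_ev (k : ULift.{u} (Fin L.m)) : IsOpenImmersion (spMap j (L.ev k)).left :=
  isOpenImmersion_eval L.A k

theorem ev_surj (q : (sp j L.C).left) : ∃ k, q ∈ Set.range (spMap j (L.ev k)).left := by
  let R' : ULift.{u} (Fin L.m) → CommRingCat.{u} := fun k => CommRingCat.of (L.A k)
  obtain ⟨y, hy⟩ := (inv (sigmaSpec R')).base ≫ (sigmaSpec R').base |> fun _ =>
    (inferInstance : Surjective (sigmaSpec R')).surj q
  obtain ⟨⟨k, z⟩, rfl⟩ := (sigmaMk fun k => Spec (R' k)).surjective y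
  rw [sigmaMk_mk, ← Scheme.Hom.comp_apply, ι_sigmaSpec] at hy
  exact ⟨k, z, hy⟩

theorem ev_compat (z : ∀ k, X.E.obj.obj (op (sp j (L.A k)))) (k l : ULift.{u} (Fin L.m)) (Z : Over S)
    (g : Z ⟶ sp j (L.A k)) (g' : Z ⟶ sp j (L.A l))
    (h : g ≫ spMap j (L.ev k) = g' ≫ spMap j (L.ev l)) :
    X.E.obj.map g.op (z k) = X.E.obj.map g'.op (z l) := by
  have hl := congrArg CommaMorphism.left h
  by_cases hkl : k = l
  · subst hkl
    haveI := L.isOpenImmersion_ev k
    have : g = g' := Over.OverMorphism.ext ((cancel_mono (spMap j (L.ev k)).left).1 hl)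
    rw [this]
  · classical
    haveI : IsEmpty ↥Z.left := by
      refine ⟨fun p => ?_⟩
      let P := g.left p
      let Q := g'.left p
      have hPQ : (spMap j (L.ev k)).left P = (spMap j (L.ev l)).left Q := by
        rw [← Scheme.Hom.comp_apply, ← Scheme.Hom.comp_apply]
        exact congrArg (fun f : Z.left ⟶ (sp j L.C).left => f p) hl
      have h1 : (Pi.single k (1 : L.A k) : L.C) ∈ (show PrimeSpectrum (L.A l) from Q).asIdeal.comap
          (Pi.evalRingHom L.A l) := by
        simp [Ideal.mem_comap, Ne.symm hkl]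
      have h2 : (Pi.single k (1 : L.A k) : L.C) ∈ (show PrimeSpectrum (L.A k) from P).asIdeal.comap
          (Pi.evalRingHom L.A k) :=
        (congrArg (fun s => (show PrimeSpectrum L.C from s).asIdeal) hPQ).ge h1
      simp [Ideal.mem_comap, ← Ideal.eq_top_iff_one, (show PrimeSpectrum (L.A k) from P).2.ne_top] at h2
    exact section_ext_of_isEmpty X.E _ _

theorem exists_total : ∃ y : X.E.obj.obj (op (sp j L.C)), X.proj y = F.obj.map (toBase j L.C).op x := by
  have hfl : ∀ k, Flat (spMap j (L.ev k)).left := fun k => by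
    have := L.isOpenImmersion_ev k; infer_instance
  have hfp : ∀ k, LocallyOfFinitePresentation (spMap j (L.ev k)).left := fun k => by
    have := L.isOpenImmersion_ev k; infer_instance
  obtain ⟨y, hy⟩ := section_glue X.E (fun k => spMap j (L.ev k)) hfl hfp L.ev_surj L.e (L.ev_compat L.e)
  refine ⟨y, section_ext F (fun k => spMap j (L.ev k)) hfl hfp L.ev_surj fun k => ?_⟩
  rw [← X.proj_map, hy, L.he, map_map, spMap_comp]
  congr 3

theorem faithfullyFlat : Module.FaithfullyFlat R L.C := by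
  have : Flat (toBase j L.C).left := by
    let 𝒱 : (sp j L.C).left.OpenCover :=
      { I₀ := ULift.{u} (Fin L.m), X := fun k => (sp j (L.A k)).left, f := fun k => (spMap j (L.ev k)).left
        mem₀ := (Scheme.ofArrows_mem_precoverage_iff _).2 ⟨L.ev_surj, L.isOpenImmersion_ev⟩ }
    haveI : IsZariskiLocalAtSource @Flat.{u} :=
      HasRingHomProperty.instIsZariskiLocalAtSource (Q := RingHom.Flat)
    refine (IsZariskiLocalAtSource.iff_of_openCover (P := @Flat) 𝒱).mpr fun k => ?_
    show Flat ((spMap j (L.ev k)).left ≫ (toBase j L.C).left)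
    rw [← Over.comp_left, spMap_comp, Subsingleton.elim ((L.ev k).comp (Algebra.ofId R L.C)) (Algebra.ofId R _)]
    exact L.flat k
  have : Surjective (toBase j L.C).left := ⟨fun q => by
    obtain ⟨k, z, hz⟩ := L.surj q
    refine ⟨(spMap j (L.ev k)).left z, ?_⟩
    rw [← Scheme.Hom.comp_apply, ← Over.comp_left, spMap_comp,
      Subsingleton.elim ((L.ev k).comp (Algebra.ofId R L.C)) (Algebra.ofId R _)]
    exact hz⟩
  exact RingHom.faithfullyFlat_algebraMap_iff.mp ((flat_and_surjective_SpecMap_iff _).mp ⟨‹_›, ‹_›⟩)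

/-- A section over the product with equal pullbacks descends. -/
theorem descend (y : X.E.obj.obj (op (sp j L.C)))
    (hy : X.E.obj.map (spMap j (includeLeft : L.C →ₐ[R] L.C ⊗[R] L.C)).op y =
      X.E.obj.map (spMap j (includeRight : L.C →ₐ[R] L.C ⊗[R] L.C)).op y) :
    ∃ s : X.E.obj.obj (op (sp j R)), X.E.obj.map (toBase j L.C).op s = y := by
  have hk : ∀ k, spMap j (L.ev k) ≫ toBase j L.C = toBase j (L.A k) := fun k => by
    rw [spMap_comp]; congr 1
  obtain ⟨s, hs⟩ := section_glue X.E (fun k => toBase j (L.A k)) L.flat L.fp L.surj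
    (fun k => X.E.obj.map (spMap j (L.ev k)).op y) (fun i l Z g g' h => by
      rw [map_map, map_map]
      obtain ⟨m, hm1, hm2⟩ : ∃ m : Z ⟶ sp j (L.C ⊗[R] L.C),
          m ≫ spMap j includeLeft = g ≫ spMap j (L.ev i) ∧ m ≫ spMap j includeRight = g' ≫ spMap j (L.ev l) := by
        let w := (toBase j L.C).left
        have hw : ((g ≫ spMap j (L.ev i)).left ≫ w) = (g' ≫ spMap j (L.ev l)).left ≫ w := by
          show (g ≫ spMap j (L.ev i)).left ≫ (toBase j L.C).left = (g' ≫ spMap j (L.ev l)).left ≫ (toBase j L.C).left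
          rw [← Over.comp_left, ← Over.comp_left, Category.assoc, Category.assoc, hk, hk, h]
        let m := pullback.lift _ _ hw ≫ (pullbackSpecIso R L.C L.C).hom
        have e1 : m ≫ (spMap j (includeLeft : L.C →ₐ[R] L.C ⊗[R] L.C)).left = (g ≫ spMap j (L.ev i)).left := by
          show (pullback.lift _ _ hw ≫ (pullbackSpecIso R L.C L.C).hom) ≫ Spec.map _ = _
          rw [Category.assoc]
          exact (congrArg (pullback.lift _ _ hw ≫ ·) (pullbackSpecIso_hom_fst R L.C L.C)).trans
            (pullback.lift_fst _ _ _)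
        have e2 : m ≫ (spMap j (includeRight : L.C →ₐ[R] L.C ⊗[R] L.C)).left = (g' ≫ spMap j (L.ev l)).left := by
          show (pullback.lift _ _ hw ≫ (pullbackSpecIso R L.C L.C).hom) ≫ Spec.map _ = _
          rw [Category.assoc]
          exact (congrArg (pullback.lift _ _ hw ≫ ·) (pullbackSpecIso_hom_snd R L.C L.C)).trans
            (pullback.lift_snd _ _ _)
        refine ⟨Over.homMk m ?_, Over.OverMorphism.ext e1, Over.OverMorphism.ext e2⟩
        rw [← Over.w (spMap j (includeLeft : L.C →ₐ[R] L.C ⊗[R] L.C)), ← Category.assoc, e1, Over.w]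
      rw [← hm1, ← hm2, ← map_map, ← map_map X.E m, hy])
  refine ⟨s, section_ext X.E (fun k => spMap j (L.ev k))
    (fun k => by have := L.isOpenImmersion_ev k; infer_instance)
    (fun k => by have := L.isOpenImmersion_ev k; infer_instance) L.ev_surj fun k => ?_⟩
  rw [map_map, hk, hs]

/-- The cocycle of a lift over the product. -/
theorem exists_cocycle (y : X.E.obj.obj (op (sp j L.C))) (hy : X.proj y = F.obj.map (toBase j L.C).op x) :
    ∃ g : sp j (L.C ⊗[R] L.C) ⟶ Red.Gm S,
      X.E.obj.map (spMap j (includeRight : L.C →ₐ[R] L.C ⊗[R] L.C)).op y =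
        X.incl g + X.E.obj.map (spMap j (includeLeft : L.C →ₐ[R] L.C ⊗[R] L.C)).op y ∧
      f13 (coM g) = f23 (coM g) * f12 (coM g) := by
  let i₁ : L.C →ₐ[R] L.C ⊗[R] L.C := includeLeft
  let i₂ : L.C →ₐ[R] L.C ⊗[R] L.C := includeRight
  obtain ⟨g, hg⟩ := X.exists_incl (e := X.E.obj.map (spMap j i₂).op y - X.E.obj.map (spMap j i₁).op y) (by
    rw [X.proj_sub, X.proj_map, X.proj_map, hy, map_map, map_map, spMap_comp, spMap_comp,
      Subsingleton.elim (i₂.comp (Algebra.ofId R L.C)) (i₁.comp (Algebra.ofId R L.C)), sub_self])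
  refine ⟨g, eq_add_of_sub_eq hg.symm, ?_⟩
  have hq := comp_sub X.E j (C := L.C ⊗[R] (L.C ⊗[R] L.C)) (i := i₂) (i' := i₁) (y := y)
  have key : spMap j f13 ≫ g = (spMap j f23 ≫ g) * (spMap j f12 ≫ g) := by
    apply X.incl_injective
    rw [X.incl_mul, ← X.incl_comp, ← X.incl_comp, ← X.incl_comp, hg, hq, hq, hq]
    have a1 : (f13 (S := R) (C := L.C)).comp i₂ = f23.comp i₂ := by ext z; simp [i₂]
    have a2 : (f13 (S := R) (C := L.C)).comp i₁ = f12.comp i₁ := by
      ext z; simp [i₁, Algebra.TensorProduct.one_def]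
    have a3 : (f23 (S := R) (C := L.C)).comp i₁ = f12.comp i₂ := by ext z; simp [i₁, i₂]
    rw [a1, a2, a3]
    abel
  have := congrArg coM key
  rwa [coM_mul, coM_comp _ _ rfl, coM_comp _ _ rfl, coM_comp _ _ rfl] at this

/-- A lift over the product whose cocycle is a coboundary descends. -/
theorem exists_section_of_coboundary (y : X.E.obj.obj (op (sp j L.C))) (hy : X.proj y = F.obj.map (toBase j L.C).op x)
    (g : sp j (L.C ⊗[R] L.C) ⟶ Red.Gm S)
    (hg : X.E.obj.map (spMap j (includeRight : L.C →ₐ[R] L.C ⊗[R] L.C)).op y =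
        X.incl g + X.E.obj.map (spMap j (includeLeft : L.C →ₐ[R] L.C ⊗[R] L.C)).op y)
    (c : L.C) (hc : IsUnit c) (hcg : (1 : L.C) ⊗ₜ[R] c = coM g * (c ⊗ₜ 1)) :
    ∃ s : X.E.obj.obj (op (sp j R)), X.proj s = x := by
  obtain ⟨t, ht⟩ := coM_surjective (k := Spec.map (CommRingCat.ofHom (algebraMap R L.C)) ≫ j) hc
  have e : spMap j (includeRight : L.C →ₐ[R] L.C ⊗[R] L.C) ≫ t =
      g * (spMap j (includeLeft : L.C →ₐ[R] L.C ⊗[R] L.C) ≫ t) := by
    apply coM_injective
    rw [coM_mul, coM_comp _ _ rfl, coM_comp _ _ rfl, ht]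
    exact hcg
  obtain ⟨s, hs⟩ := L.descend (y - X.incl t) (by
    rw [map_sub, map_sub, X.incl_comp, X.incl_comp, hg, e, X.incl_mul]
    abel)
  refine ⟨s, section_ext F (fun k => toBase j (L.A k)) L.flat L.fp L.surj fun k => ?_⟩
  have hk : spMap j (L.ev k) ≫ toBase j L.C = toBase j (L.A k) := by
    rw [spMap_comp]; congr 1
  rw [← hk, ← map_map, ← map_map F, ← X.proj_map (toBase j L.C), hs, X.proj_sub, X.proj_incl, sub_zero, hy]

end Lift

/-- A point killed by `p` lifts as soon as the base has the property `RootComb`. -/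
theorem exists_section_of_rootComb {p : ℕ} [Fact p.Prime] (hR : (p : R) = 0) (hS : RootComb p R)
    (x : F.obj.obj (op (sp j R))) (hx : p • x = 0) :
    ∃ s : X.E.obj.obj (op (sp j R)), X.proj s = x := by
  obtain ⟨L⟩ := X.exists_lift j x
  obtain ⟨y, hy⟩ := L.exists_total
  obtain ⟨g, hg, hcoc⟩ := L.exists_cocycle y hy
  obtain ⟨v, hv⟩ := X.exists_incl (e := p • y) (by rw [X.proj_nsmul, hy, ← map_nsmul, hx, map_zero])
  have e : spMap j (includeRight : L.C →ₐ[R] L.C ⊗[R] L.C) ≫ v =
      g ^ p * (spMap j (includeLeft : L.C →ₐ[R] L.C ⊗[R] L.C) ≫ v) := by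
    apply X.incl_injective
    rw [X.incl_mul, X.incl_pow, ← X.incl_comp, ← X.incl_comp, hv, map_nsmul, map_nsmul, hg, nsmul_add]
  have hpow : ∀ (n : ℕ), coM (g ^ n) = coM g ^ n := by
    intro n
    simp only [coM, Groth.Agent.RedPts82.gmFn_pow, map_pow]
  have e' := congrArg coM e
  rw [coM_mul, hpow, coM_comp _ _ rfl, coM_comp _ _ rfl] at e'
  haveI := L.faithfullyFlat
  obtain ⟨c, hc, hcg⟩ := exists_coboundary (p := p)
    (by rw [← map_natCast (algebraMap R L.C), hR, map_zero]) hS (coM g) (coM_isUnit g) hcoc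
    (coM v) (coM_isUnit v) e'
  exact L.exists_section_of_coboundary y hy g hg c hc hcg

end GmExt

end Groth.Agent.GaExt25
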