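import Groth.Agent.GaSplit95.Split
import Mathlib.RingTheory.MvPolynomial.Ideal
import Mathlib.RingTheory.Ideal.Quotient.Operations
import Mathlib.Data.Nat.Choose.Dvd

/-!
Multiplicative cocycles of the kernel of Frobenius on the additive group are coboundaries.
-/

set_option autoImplicit false
universe u

open MvPolynomial
open Groth.Agent.GaSplit95 (e2 e3 e2_eta e2_inj monomial_e2 aeval_monomial_e2 coeff_left coeff_right coeff_first
  coeff_last coeff_swap coeff_zeroSnd w factorial_ne_zero ex IsCocycle exists_normal_form)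

namespace Groth.Agent.GaExt25

variable (p : ℕ) (R : Type u) [CommRing R]

/-- The ideal generated by the `p`-th powers of the variables. -/
noncomputable def box (m : ℕ) : Ideal (MvPolynomial (Fin m) R) := Ideal.span (Set.range fun i => X i ^ p)

/-- The box together with the monomials of degree at least `n`. -/
noncomputable def trunc (m n : ℕ) : Ideal (MvPolynomial (Fin m) R) := box p R m ⊔ idealOfVars (Fin m) R ^ n

variable {p R}

theorem mem_box_iff {m : ℕ} (f : MvPolynomial (Fin m) R) :
    f ∈ box p R m ↔ ∀ d, (∀ i, d i < p) → coeff d f = 0 := by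
  classical
  have e : box p R m = Ideal.span ((fun s : Fin m →₀ ℕ => monomial s (1 : R)) ''
      Set.range fun i => Finsupp.single i p) := by
    rw [box, ← Set.range_comp]
    congr 1
    ext i
    simp [X_pow_eq_monomial]
  rw [e, mem_ideal_span_monomial_image]
  constructor
  · intro h d hd
    by_contra hc
    obtain ⟨_, ⟨i, rfl⟩, hle⟩ := h d (mem_support_iff.2 hc)
    have := hle i
    simp at this
    exact absurd (hd i) (by omega)
  · intro h d hd
    by_contra hc
    refine mem_support_iff.1 hd (h d fun i => ?_)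
    by_contra hi
    exact hc ⟨_, ⟨i, rfl⟩, Finsupp.single_le_iff.2 (not_lt.1 hi)⟩

theorem mem_trunc_iff {m n : ℕ} (f : MvPolynomial (Fin m) R) :
    f ∈ trunc p R m n ↔ ∀ d, (∀ i, d i < p) → d.degree < n → coeff d f = 0 := by
  classical
  constructor
  · intro h d hd hn
    obtain ⟨y, hy, z, hz, rfl⟩ := Submodule.mem_sup.1 h
    rw [coeff_add, (mem_box_iff y).1 hy d hd, (mem_pow_idealOfVars_iff' n z).1 hz d hn, add_zero]
  · intro h
    rw [f.as_sum]
    refine sum_mem fun d _ => ?_
    by_cases hd : ∀ i, d i < p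
    · refine Ideal.mem_sup_right ((mem_pow_idealOfVars_iff' n _).2 fun e he => ?_)
      rw [coeff_monomial]
      split_ifs with h'
      · subst h'; exact h d hd he
      · rfl
    · refine Ideal.mem_sup_left ((mem_box_iff _).2 fun e he => ?_)
      rw [coeff_monomial, if_neg]
      rintro rfl
      exact hd he

theorem box_le_trunc (m n : ℕ) : box p R m ≤ trunc p R m n := le_sup_left

theorem box_le_vars [Fact p.Prime] (m : ℕ) : box p R m ≤ idealOfVars (Fin m) R :=
  Ideal.span_le.2 (by
    rintro _ ⟨i, rfl⟩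
    exact Ideal.pow_mem_of_mem _ (Ideal.subset_span (Set.mem_range_self i)) _ (Fact.out : p.Prime).pos)

theorem trunc_le_vars [Fact p.Prime] (m n : ℕ) (hn : n ≠ 0) : trunc p R m n ≤ idealOfVars (Fin m) R :=
  sup_le (box_le_vars m) (Ideal.pow_le_self hn)

theorem mul_mem_trunc_succ {m n : ℕ} {f g : MvPolynomial (Fin m) R} (hf : f ∈ trunc p R m n)
    (hg : g ∈ idealOfVars (Fin m) R) : f * g ∈ trunc p R m (n + 1) := by
  obtain ⟨y, hy, z, hz, rfl⟩ := Submodule.mem_sup.1 hf
  rw [add_mul]
  exact add_mem (Ideal.mem_sup_left (Ideal.mul_mem_right _ _ hy))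
    (Ideal.mem_sup_right (by rw [pow_succ]; exact Ideal.mul_mem_mul hz hg))

theorem aeval_mem_trunc {k m n : ℕ} (v : Fin k → MvPolynomial (Fin m) R)
    (hv : ∀ i, v i ∈ idealOfVars (Fin m) R) (hvp : ∀ i, v i ^ p ∈ box p R m)
    {f : MvPolynomial (Fin k) R} (hf : f ∈ trunc p R k n) : aeval v f ∈ trunc p R m n := by
  have h : Ideal.map (aeval v : MvPolynomial (Fin k) R →ₐ[R] MvPolynomial (Fin m) R).toRingHom (trunc p R k n) ≤
      trunc p R m n := by
    rw [trunc, trunc, Ideal.map_sup, Ideal.map_pow]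
    refine sup_le_sup ?_ (Ideal.pow_right_mono ?_ n)
    · rw [box, Ideal.map_span, Ideal.span_le]
      rintro _ ⟨_, ⟨i, rfl⟩, rfl⟩
      simpa using hvp i
    · rw [idealOfVars, Ideal.map_span, Ideal.span_le]
      rintro _ ⟨_, ⟨i, rfl⟩, rfl⟩
      simpa using hv i
  exact h (Ideal.mem_map_of_mem _ hf)

section Eval

variable {f u : Polynomial R}

/-- Truncated inverses evaluate to inverses at truncated points. -/
theorem aeval_mul_eq_one' (hfu : Polynomial.X ^ p ∣ f * u - 1) {S : Type*} [CommRing S] [Algebra R S] {x : S}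
    (hx : x ^ p = 0) : Polynomial.aeval x f * Polynomial.aeval x u = 1 := by
  obtain ⟨r, hr⟩ := hfu
  have := congrArg (Polynomial.aeval x) hr
  rw [map_sub, map_mul, map_one, map_mul, map_pow, Polynomial.aeval_X, hx, zero_mul, sub_eq_zero] at this
  exact this

theorem exists_trunc_inverse (hf : f.eval 0 = 1) (p : ℕ) :
    ∃ u : Polynomial R, u.eval 0 = 1 ∧ Polynomial.X ^ (p + 1) ∣ f * u - 1 := by
  induction p with
  | zero =>
    refine ⟨1, by simp, ?_⟩
    rw [zero_add, pow_one, mul_one, Polynomial.X_dvd_iff, Polynomial.coeff_sub, Polynomial.coeff_one_zero,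
      Polynomial.coeff_zero_eq_eval_zero, hf, sub_self]
  | succ k ih =>
    obtain ⟨u, hu0, r, hr⟩ := ih
    refine ⟨u - u * (Polynomial.X ^ (k + 1) * r), by simp [hu0], ?_⟩
    have : f * (u - u * (Polynomial.X ^ (k + 1) * r)) - 1 = -(Polynomial.X ^ (k + 1 + (k + 1)) * r ^ 2) := by
      rw [pow_add]
      linear_combination (1 - Polynomial.X ^ (k + 1) * r) * hr
    rw [this, dvd_neg]
    exact Dvd.dvd.mul_right (pow_dvd_pow _ (by omega)) _

end Eval

section Exp

variable [Fact p.Prime]

/-- The truncated exponential is multiplicative up to the standard cocycle. -/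
theorem ex_mul_ex' {S : Type*} [CommRing S] [Algebra (ZMod p) S] (a b : S)
    (hab : ∀ i j, p < i + j → a ^ i * b ^ j = 0) :
    ex p a * ex p b = ex p (a + b) +
      ∑ t ∈ Finset.Ioo 0 p, algebraMap (ZMod p) S (w p t) * (a ^ t * b ^ (p - t)) := by
  classical
  let ι := algebraMap (ZMod p) S
  let F : ℕ → ℕ → S := fun i j =>
    ι ((i.factorial : ℕ) : ZMod p)⁻¹ * a ^ i * (ι ((j.factorial : ℕ) : ZMod p)⁻¹ * b ^ j)
  have h1 : ex p (a + b) = ∑ m ∈ Finset.range p, ∑ k ∈ Finset.range (m + 1), F k (m - k) := by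
    refine Finset.sum_congr rfl fun m hm => ?_
    rw [add_pow, Finset.mul_sum]
    refine Finset.sum_congr rfl fun k hk => ?_
    have hkm : k ≤ m := Nat.lt_succ_iff.mp (Finset.mem_range.mp hk)
    have hmp : m < p := Finset.mem_range.mp hm
    have e : ((m.factorial : ℕ) : ZMod p)⁻¹ * (m.choose k : ℕ) =
        ((k.factorial : ℕ) : ZMod p)⁻¹ * (((m - k).factorial : ℕ) : ZMod p)⁻¹ := by
      have := factorial_ne_zero (p := p) hmp
      have := factorial_ne_zero (p := p) (t := k) (by omega)
      have := factorial_ne_zero (p := p) (t := m - k) (by omega)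
      field_simp
      exact_mod_cast congrArg (Nat.cast : ℕ → ZMod p) (Nat.choose_mul_factorial_mul_factorial hkm)
    have e' := congrArg ι e
    simp only [map_mul, map_natCast] at e'
    simp only [F]
    linear_combination (a ^ k * b ^ (m - k)) * e'
  have h2 : ex p a * ex p b = ∑ i ∈ Finset.range p, ∑ j ∈ Finset.range p, F i j :=
    Finset.sum_mul_sum _ _ _ _
  have hvan : ∀ i j, p < i + j → F i j = 0 := fun i j h => by
    calc F i j = ι ((i.factorial : ℕ) : ZMod p)⁻¹ * ι ((j.factorial : ℕ) : ZMod p)⁻¹ * (a ^ i * b ^ j) := by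
          simp only [F]; ring
      _ = 0 := by rw [hab i j h, mul_zero]
  rw [h1, h2, Finset.sum_range_diag_flip p F, ← sub_eq_iff_eq_add', ← Finset.sum_sub_distrib]
  have h3 : ∀ i ∈ Finset.range p, ∑ j ∈ Finset.range p, F i j - ∑ j ∈ Finset.range (p - i), F i j =
      if 0 < i then F i (p - i) else 0 := fun i hi => by
    rw [← Finset.sum_Ico_eq_sub _ (Nat.sub_le p i)]
    have := Finset.mem_range.mp hi
    split_ifs with h
    · rw [Finset.sum_eq_single_of_mem (p - i) (Finset.mem_Ico.mpr ⟨le_rfl, by omega⟩)]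
      exact fun j hj hne => hvan i j (by simp at hj; omega)
    · rw [show p - i = p by omega, Finset.Ico_self, Finset.sum_empty]
  rw [Finset.sum_congr rfl h3, ← Finset.sum_filter]
  refine Finset.sum_congr (by ext; simp; omega) fun t ht => ?_
  simp only [F, w, Nat.cast_mul, mul_inv, map_mul]
  ring

end Exp

/-- Truncated multiplicative cocycles. -/
structure IsTruncCocycle (p : ℕ) (h : MvPolynomial (Fin 2) R) : Prop where
  zero : aeval ![(X 0 : MvPolynomial (Fin 2) R), 0] h - 1 ∈ box p R 2
  symm : aeval ![(X 1 : MvPolynomial (Fin 2) R), X 0] h - h ∈ box p R 2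
  assoc : aeval ![(X 1 : MvPolynomial (Fin 3) R), X 2] h * aeval ![X 0, X 1 + X 2] h -
    aeval ![X 0 + X 1, X 2] h * aeval ![X 0, X 1] h ∈ box p R 3

theorem degree_e2 (i j : ℕ) : (e2 i j).degree = i + j := by
  simp [e2, Finsupp.degree_eq_sum, Fin.sum_univ_two]

theorem degree_e3 (i j k : ℕ) : (e3 i j k).degree = i + j + k := by
  simp [e3, Finsupp.degree_eq_sum, Fin.sum_univ_three]

theorem forall_e2 {i j : ℕ} (hi : i < p) (hj : j < p) : ∀ l, (e2 i j) l < p := fun l => by
  fin_cases l <;> simp [e2, hi, hj]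

theorem forall_e3 {i j k : ℕ} (hi : i < p) (hj : j < p) (hk : k < p) : ∀ l, (e3 i j k) l < p := fun l => by
  fin_cases l <;> simp [e3, hi, hj, hk]

section Step

variable [hp : Fact p.Prime] [CharP R p] (hF : Function.Surjective (frobenius R p))
include hp

theorem pow_add_mem_box {m : ℕ} (i j : Fin m) :
    ((X i + X j : MvPolynomial (Fin m) R)) ^ p ∈ box p R m := by
  have hp0 : (p : MvPolynomial (Fin m) R) = 0 := by rw [← map_natCast C, CharP.cast_eq_zero, map_zero]
  obtain ⟨r, hr⟩ := exists_add_pow_prime_eq hp.out (X i : MvPolynomial (Fin m) R) (X j)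
  rw [hr, hp0, zero_mul, zero_mul, zero_mul, add_zero]
  exact add_mem (Ideal.subset_span (Set.mem_range_self i)) (Ideal.subset_span (Set.mem_range_self j))

theorem X_pow_mem_box {m : ℕ} (i : Fin m) : (X i : MvPolynomial (Fin m) R) ^ p ∈ box p R m :=
  Ideal.subset_span (Set.mem_range_self i)

/-- The assoc relation on the leading coefficients. -/
theorem assoc_coeff {h : MvPolynomial (Fin 2) R} (hh : IsTruncCocycle p h) {n : ℕ} (hn : n ≠ 0)
    (hg : h - 1 ∈ trunc p R 2 n) (i j k : ℕ) (hi : i < p) (hj : j < p) (hk : k < p) (hi0 : i ≠ 0) (hk0 : k ≠ 0)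
    (hn' : i + j + k = n) :
    (((i + j).choose i : ℕ) : R) * coeff (e2 (i + j) k) (h - 1) =
      (((j + k).choose j : ℕ) : R) * coeff (e2 i (j + k)) (h - 1) := by
  have hX : ∀ l : Fin 3, (X l : MvPolynomial (Fin 3) R) ∈ idealOfVars (Fin 3) R := fun l =>
    Ideal.subset_span (Set.mem_range_self l)
  set g := h - 1 with hgdef
  have e : ∀ v : Fin 2 → MvPolynomial (Fin 3) R, aeval v h = 1 + aeval v g := fun v => by
    rw [hgdef, map_sub, map_one]; ring
  have m1 : aeval ![(X 1 : MvPolynomial (Fin 3) R), X 2] g ∈ trunc p R 3 n := aeval_mem_trunc _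
    (fun l => by fin_cases l <;> exact hX _) (fun l => by fin_cases l <;> exact X_pow_mem_box _) hg
  have m2 : aeval ![(X 0 : MvPolynomial (Fin 3) R), X 1 + X 2] g ∈ trunc p R 3 n := aeval_mem_trunc _
    (fun l => by fin_cases l; exacts [hX _, add_mem (hX _) (hX _)])
    (fun l => by fin_cases l; exacts [X_pow_mem_box _, pow_add_mem_box _ _]) hg
  have m3 : aeval ![(X 0 : MvPolynomial (Fin 3) R) + X 1, X 2] g ∈ trunc p R 3 n := aeval_mem_trunc _
    (fun l => by fin_cases l; exacts [add_mem (hX _) (hX _), hX _])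
    (fun l => by fin_cases l; exacts [pow_add_mem_box _ _, X_pow_mem_box _]) hg
  have m4 : aeval ![(X 0 : MvPolynomial (Fin 3) R), X 1] g ∈ trunc p R 3 n := aeval_mem_trunc _
    (fun l => by fin_cases l <;> exact hX _) (fun l => by fin_cases l <;> exact X_pow_mem_box _) hg
  have hA := hh.assoc
  simp only [e] at hA
  have key : aeval ![(X 1 : MvPolynomial (Fin 3) R), X 2] g + aeval ![(X 0 : MvPolynomial (Fin 3) R), X 1 + X 2] g -
      (aeval ![(X 0 : MvPolynomial (Fin 3) R) + X 1, X 2] g + aeval ![(X 0 : MvPolynomial (Fin 3) R), X 1] g) ∈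
      trunc p R 3 (n + 1) := by
    have h12 := mul_mem_trunc_succ m1 (trunc_le_vars 3 n hn m2)
    have h34 := mul_mem_trunc_succ m3 (trunc_le_vars 3 n hn m4)
    have := sub_mem (sub_mem (box_le_trunc 3 (n + 1) hA) h12) (neg_mem h34)
    convert this using 1
    ring
  have := (mem_trunc_iff _).1 key (e3 i j k) (forall_e3 hi hj hk) (by rw [degree_e3]; omega)
  rw [coeff_sub, coeff_add, coeff_add, coeff_last _ _ _ _ hi0, coeff_left, coeff_right,
    coeff_first _ _ _ _ hk0, zero_add, add_zero, sub_eq_zero] at this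
  exact this.symm

theorem coeff_edge {h : MvPolynomial (Fin 2) R} (hh : IsTruncCocycle p h) {i : ℕ} (hi : i < p) :
    coeff (e2 i 0) (h - 1) = 0 ∧ coeff (e2 0 i) (h - 1) = 0 := by
  have h1 := (mem_box_iff _).1 hh.zero (e2 i 0) (forall_e2 hi hp.out.pos)
  rw [coeff_sub, coeff_zeroSnd, ← coeff_sub] at h1
  have h2 := (mem_box_iff _).1 hh.symm (e2 i 0) (forall_e2 hi hp.out.pos)
  rw [coeff_sub, coeff_swap, sub_eq_zero] at h2
  refine ⟨h1, ?_⟩
  rw [coeff_sub] at h1 ⊢
  rw [h2]
  have : coeff (e2 0 i) (1 : MvPolynomial (Fin 2) R) = coeff (e2 i 0) (1 : MvPolynomial (Fin 2) R) := by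
    rcases Nat.eq_zero_or_pos i with rfl | hi0
    · rfl
    · rw [coeff_one, coeff_one, if_neg, if_neg] <;>
        · intro e
          have := congrArg Finsupp.degree e
          rw [degree_e2, map_zero] at this
          omega
  rw [this]
  exact h1

include hF in
theorem exists_step' {h : MvPolynomial (Fin 2) R} (hh : IsTruncCocycle p h) {n : ℕ} (hn : n ≠ 0)
    (hg : h - 1 ∈ trunc p R 2 n) :
    ∃ f : Polynomial R, f.eval 0 = 1 ∧
      h * Polynomial.aeval (X 0) f * Polynomial.aeval (X 1) f - Polynomial.aeval (X 0 + X 1) f ∈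
        trunc p R 2 (n + 1) := by
  classical
  let _ : Algebra (ZMod p) R := ZMod.algebra R p
  set g := h - 1 with hgdef
  have hh1 : h = 1 + g := by rw [hgdef]; ring
  rcases lt_or_ge p n with hpn | hnp
  · -- all coefficients vanish
    refine ⟨1, by simp, ?_⟩
    simp only [map_one, mul_one]
    show g ∈ _
    refine (mem_trunc_iff _).2 fun d hd hdn => ?_
    obtain ⟨i, j, rfl⟩ : ∃ i j, d = e2 i j := ⟨_, _, (e2_eta d).symm⟩
    have hi : i < p := by simpa [e2] using hd 0
    have hj : j < p := by simpa [e2] using hd 1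
    rw [degree_e2] at hdn
    rcases lt_or_ge (i + j) n with hlt | hge
    · exact (mem_trunc_iff _).1 hg _ hd (by rw [degree_e2]; exact hlt)
    have hij : i + j = n := by omega
    have hh' := assoc_coeff hh hn hg i (j - 1) 1 hi (by omega) hp.out.one_lt (by omega) one_ne_zero (by omega)
    have hz : (((i + (j - 1)).choose i : ℕ) : R) = 0 :=
      (CharP.cast_eq_zero_iff R p _).2 (hp.out.dvd_choose_add hi (by omega) (by omega))
    rw [hz, zero_mul, show j - 1 + 1 = j by omega, ← Nat.choose_symm (by omega : j - 1 ≤ j),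
      show j - (j - 1) = 1 by omega, Nat.choose_one_right] at hh'
    have hu : IsUnit ((j : ℕ) : R) := by
      have h0 : ((j : ℕ) : ZMod p) ≠ 0 := fun e =>
        absurd (Nat.le_of_dvd (by omega) ((ZMod.natCast_eq_zero_iff _ _).1 e)) (by omega)
      simpa using (isUnit_iff_ne_zero.2 h0).map (algebraMap (ZMod p) R)
    exact (hu.mul_right_eq_zero).1 hh'.symm
  -- the leading coefficients
  let a : ℕ → R := fun i => if 0 < i ∧ i < n then coeff (e2 i (n - i)) g else 0
  have hcoc : IsCocycle (p := p) n a := by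
    refine ⟨fun i hi => if_neg (by omega), fun i h0 hi => ?_, fun i j h1 hij => ?_⟩
    · simp only [a]
      rw [if_pos ⟨h0, hi⟩, if_pos ⟨by omega, by omega⟩, show n - (n - i) = i by omega]
      have h2 := (mem_box_iff _).1 hh.symm (e2 i (n - i)) (forall_e2 (by omega) (by omega))
      rw [coeff_sub, coeff_swap, sub_eq_zero] at h2
      simp only [hgdef, coeff_sub, coeff_one]
      rw [h2, if_neg, if_neg] <;>
        · intro e
          have := congrArg Finsupp.degree e
          rw [degree_e2, map_zero] at this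
          omega
    · obtain ⟨k, rfl⟩ : ∃ k, n = i + j + k := ⟨n - i - j, by omega⟩
      have hh' := assoc_coeff hh hn hg i j k (by omega) (by omega) (by omega) (by omega) (by omega) rfl
      simp only [a]
      rw [if_pos ⟨by omega, hij⟩, if_pos ⟨by omega, by omega⟩, show i + j + k - (i + j) = k by omega,
        show i + j + k - i = j + k by omega, Algebra.smul_def, Algebra.smul_def, map_natCast, map_natCast]
      exact hh'
  -- the leading form
  have hlead : g - ∑ i ∈ Finset.range (n + 1), monomial (e2 i (n - i)) (a i) ∈ trunc p R 2 (n + 1) := by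
    refine (mem_trunc_iff _).2 fun d hd hdn => ?_
    obtain ⟨i, j, rfl⟩ : ∃ i j, d = e2 i j := ⟨_, _, (e2_eta d).symm⟩
    rw [degree_e2] at hdn
    rw [coeff_sub, coeff_sum]
    simp only [coeff_monomial, e2_inj]
    rcases lt_or_ge (i + j) n with hlt | hge
    · rw [(mem_trunc_iff _).1 hg _ hd (by rw [degree_e2]; exact hlt), zero_sub, neg_eq_zero]
      refine Finset.sum_eq_zero fun x hx => if_neg ?_
      rintro ⟨rfl, e⟩
      simp at hx
      omega
    have hij : i + j = n := by omega
    rw [Finset.sum_eq_single i, if_pos ⟨rfl, by omega⟩]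
    · simp only [a]
      split_ifs with h'
      · rw [show n - i = j by omega, sub_self]
      · rw [sub_zero]
        have hi : i < p := by simpa [e2] using hd 0
        have hj : j < p := by simpa [e2] using hd 1
        rcases Nat.eq_zero_or_pos i with rfl | hi0
        · exact (coeff_edge hh hj).2
        · obtain rfl : j = 0 := by omega
          exact (coeff_edge hh hi).1
    · exact fun x _ hx => if_neg fun e => hx e.1
    · intro hi; simp at hi; omega
  let Q := MvPolynomial (Fin 2) R ⧸ trunc p R 2 (n + 1)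
  let π : MvPolynomial (Fin 2) R →ₐ[R] Q := Ideal.Quotient.mkₐ R (trunc p R 2 (n + 1))
  let U : Q := π (X 0)
  let V : Q := π (X 1)
  have hkill : ∀ {z y : MvPolynomial (Fin 2) R}, z ∈ trunc p R 2 n → y ∈ idealOfVars (Fin 2) R →
      π z * π y = 0 := fun hz hy => by
    rw [← map_mul]; exact Ideal.Quotient.eq_zero_iff_mem.2 (mul_mem_trunc_succ hz hy)
  have hG : π g = ∑ i ∈ Finset.range (n + 1), algebraMap R Q (a i) * U ^ i * V ^ (n - i) := by
    rw [← Ideal.Quotient.mk_eq_mk_iff_sub_mem] at hlead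
    refine (show π g = _ from hlead).trans ?_
    show π _ = _
    rw [map_sum]
    refine Finset.sum_congr rfl fun i _ => ?_
    rw [monomial_e2, map_mul, map_mul, map_pow, map_pow]
    rfl
  have hUV : U + V = π (X 0 + X 1) := (map_add π _ _).symm
  have hev : ∀ (x : MvPolynomial (Fin 2) R) (f : Polynomial R),
      π (Polynomial.aeval x f) = Polynomial.aeval (π x) f := fun x f =>
    (Polynomial.aeval_algHom_apply π x f).symm
  have hvar : ∀ i : Fin 2, (X i : MvPolynomial (Fin 2) R) ∈ idealOfVars (Fin 2) R := fun i =>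
    Ideal.subset_span (Set.mem_range_self i)
  have hdeg : ∀ {i j : ℕ}, n < i + j → U ^ i * V ^ j = 0 := fun {i j} hij => by
    rw [← map_pow, ← map_pow, ← map_mul]
    refine Ideal.Quotient.eq_zero_iff_mem.2 (Ideal.mem_sup_right ?_)
    refine Ideal.pow_le_pow_right (by omega : n + 1 ≤ i + j) ?_
    rw [pow_add]
    exact Ideal.mul_mem_mul (Ideal.pow_mem_pow (hvar 0) i) (Ideal.pow_mem_pow (hvar 1) j)
  suffices ∃ f : Polynomial R, f.eval 0 = 1 ∧
      (1 + π g) * Polynomial.aeval U f * Polynomial.aeval V f = Polynomial.aeval (U + V) f by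
    obtain ⟨f, hf0, hf⟩ := this
    refine ⟨f, hf0, Ideal.Quotient.eq_zero_iff_mem.1 ?_⟩
    show π _ = 0
    rw [map_sub, map_mul, map_mul, hev, hev, hev, hh1, map_add, map_one, ← hUV, hf, sub_self]
  have hgm : ∀ {y : MvPolynomial (Fin 2) R}, y ∈ idealOfVars (Fin 2) R → π g * π y = 0 := fun hy => hkill hg hy
  obtain ⟨l, -, hl | ⟨j, hj, hl⟩⟩ := exists_normal_form n a hcoc
  · have hG' : π g = algebraMap R Q l * ((U + V) ^ n - U ^ n - V ^ n) := by
      rw [hG, add_pow, mul_sub, mul_sub, Finset.mul_sum,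
        Finset.sum_range_succ _ n, Finset.sum_range_succ _ n, Finset.range_eq_Ico,
        Finset.sum_eq_sum_Ico_succ_bot (Nat.pos_of_ne_zero hn), Finset.sum_eq_sum_Ico_succ_bot (Nat.pos_of_ne_zero hn),
        hcoc.eq_zero 0 (Or.inl rfl), hcoc.eq_zero n (Or.inr le_rfl)]
      simp only [map_zero, zero_mul, Nat.choose_zero_right, Nat.choose_self, Nat.sub_self, Nat.sub_zero,
        Nat.cast_one, pow_zero, one_mul, mul_one, zero_add, add_zero]
      rw [add_assoc, add_comm (∑ x ∈ _, _) (algebraMap R Q l * U ^ n)]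
      refine (Eq.trans ?_ (by ring : ∑ x ∈ Finset.Ico 1 n, algebraMap R Q l * (U ^ x * V ^ (n - x) * ((n.choose x : ℕ) : Q)) = _))
      refine Finset.sum_congr rfl fun i hi => ?_
      have hi := Finset.mem_Ico.mp hi
      rw [hl i (by omega) hi.2, Algebra.smul_def, map_natCast, map_mul, map_natCast]
      ring
    refine ⟨1 + Polynomial.C l * Polynomial.X ^ n, by simp [zero_pow hn], ?_⟩
    simp only [map_add, map_one, map_mul, Polynomial.aeval_C, map_pow, Polynomial.aeval_X]
    have z1 : π g * U ^ n = 0 := by rw [← map_pow]; exact hgm (Ideal.pow_mem_of_mem _ (hvar 0) n (by omega))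
    have z2 : π g * V ^ n = 0 := by rw [← map_pow]; exact hgm (Ideal.pow_mem_of_mem _ (hvar 1) n (by omega))
    have z3 : U ^ n * V ^ n = 0 := hdeg (by omega)
    linear_combination hG' + (algebraMap R Q l) * z1 + (algebraMap R Q l) * z2 +
      ((1 + π g) * algebraMap R Q l ^ 2) * z3
  · have hnp' : n = p := by
      have hle : p ≤ p ^ (j + 1) := Nat.le_self_pow (by omega) p
      omega
    obtain rfl : j = 0 := by
      have h' : p ^ (j + 1) = p ^ 1 := by rw [pow_one, ← hj, hnp']
      have := Nat.pow_right_injective hp.out.two_le h'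
      omega
    subst hnp'
    obtain ⟨c, hc⟩ := hF (-l)
    rw [frobenius_def] at hc
    let _ : Algebra (ZMod n) Q := ((algebraMap R Q).comp (algebraMap (ZMod n) R)).toAlgebra
    have hmap : ∀ z : ZMod n, algebraMap (ZMod n) Q z = algebraMap R Q (algebraMap (ZMod n) R z) := fun _ => rfl
    set C' : Q := algebraMap R Q c
    have hG' : π g = algebraMap R Q l *
        ∑ t ∈ Finset.Ioo 0 n, algebraMap (ZMod n) Q (w n t) * (U ^ t * V ^ (n - t)) := by
      rw [hG, Finset.mul_sum, ← Finset.sum_subset (s₁ := Finset.Ioo 0 n)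
        (fun x hx => Finset.mem_range.2 (by have := Finset.mem_Ioo.1 hx; omega))
        (fun x hx hx' => by
          rw [hcoc.eq_zero x, map_zero, zero_mul, zero_mul]
          simp at hx hx'; omega)]
      refine Finset.sum_congr rfl fun t ht => ?_
      have e : a t = w n t • l := by
        rw [hl t, Finset.sum_eq_single_of_mem t ht (fun s _ hs => if_neg (by simpa using Ne.symm hs)),
          if_pos (by simp)]
      rw [e, Algebra.smul_def, map_mul, ← hmap]
      ring
    refine ⟨ex n (Polynomial.C c * Polynomial.X), ?_, ?_⟩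
    · simp only [ex, Polynomial.eval_finsetSum, Polynomial.eval_mul, Polynomial.eval_pow,
        Polynomial.eval_C, Polynomial.eval_X, mul_zero]
      rw [Finset.sum_eq_single_of_mem 0 (Finset.mem_range.mpr hp.out.pos) fun t _ ht => by simp [zero_pow ht]]
      simp
    · have hex : ∀ W : Q, Polynomial.aeval W (ex n (Polynomial.C c * Polynomial.X)) = ex n (C' * W) := fun W => by
        simp only [ex, map_sum, map_mul, map_pow, Polynomial.aeval_C, Polynomial.aeval_X, C']
        refine Finset.sum_congr rfl fun t _ => ?_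
        congr 1
        have : ((Polynomial.aeval W).toRingHom.comp (algebraMap (ZMod n) (Polynomial R))) =
          algebraMap (ZMod n) Q := Subsingleton.elim _ _
        exact congr($this _)
      rw [hex, hex, hex, mul_assoc, ex_mul_ex' (C' * U) (C' * V) fun i k hik => by
        rw [mul_pow, mul_pow, mul_mul_mul_comm, hdeg hik, mul_zero]]
      rw [← mul_add]
      have hcn : C' ^ n = -algebraMap R Q l := by rw [← map_pow, hc, map_neg]
      have hW' : ∑ t ∈ Finset.Ioo 0 n, algebraMap (ZMod n) Q (w n t) * ((C' * U) ^ t * (C' * V) ^ (n - t)) =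
          C' ^ n * ∑ t ∈ Finset.Ioo 0 n, algebraMap (ZMod n) Q (w n t) * (U ^ t * V ^ (n - t)) := by
        rw [Finset.mul_sum]
        refine Finset.sum_congr rfl fun t ht => ?_
        rw [mul_pow, mul_pow]
        have e : C' ^ n = C' ^ t * C' ^ (n - t) := by
          rw [← pow_add]; congr 1; have := Finset.mem_Ioo.1 ht; omega
        rw [e]; ring
      rw [hW', hcn]
      obtain ⟨r, hr⟩ : ∃ r, ex n (C' * (U + V)) = 1 + (U + V) * r := by
        refine ⟨∑ t ∈ Finset.range (n - 1), algebraMap (ZMod n) Q (((t + 1).factorial : ℕ) : ZMod n)⁻¹ *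
          (C' * (C' * (U + V)) ^ t), ?_⟩
        simp only [ex]
        have hrange : Finset.range n = Finset.range (n - 1 + 1) := by rw [Nat.sub_add_cancel hp.out.pos]
        rw [hrange, Finset.sum_range_succ', Finset.mul_sum, add_comm]
        congr 1
        · simp
        · exact Finset.sum_congr rfl fun t _ => by ring
      have z : π g * (U + V) = 0 := by rw [hUV]; exact hgm (add_mem (hvar 0) (hvar 1))
      have zg : π g * π g = 0 := hgm (trunc_le_vars 2 n hn hg)
      rw [hr]
      linear_combination r * z - zg + (1 + π g) * hG'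

include hF in
/-- Truncated cocycles are coboundaries. -/
theorem exists_trunc_splitting (h : MvPolynomial (Fin 2) R) (hh : IsTruncCocycle p h) :
    ∃ f : Polynomial R, f.eval 0 = 1 ∧
      Polynomial.aeval (X 0 + X 1) f - Polynomial.aeval (X 0) f * Polynomial.aeval (X 1) f * h ∈ box p R 2 := by
  classical
  suffices ∀ (m n : ℕ) (h : MvPolynomial (Fin 2) R), 2 * p ≤ n + m → n ≠ 0 → IsTruncCocycle p h →
      h - 1 ∈ trunc p R 2 n → ∃ f : Polynomial R, f.eval 0 = 1 ∧
        Polynomial.aeval (X 0 + X 1) f - Polynomial.aeval (X 0) f * Polynomial.aeval (X 1) f * h ∈ box p R 2 by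
    refine this (2 * p) 1 h (by omega) one_ne_zero hh ((mem_trunc_iff _).2 fun d hd hdn => ?_)
    obtain ⟨i, j, rfl⟩ : ∃ i j, d = e2 i j := ⟨_, _, (e2_eta d).symm⟩
    rw [degree_e2] at hdn
    obtain ⟨rfl, rfl⟩ : i = 0 ∧ j = 0 := by omega
    exact (coeff_edge hh hp.out.pos).1
  intro m
  induction m with
  | zero =>
    intro n h hle _ _ hg
    refine ⟨1, by simp, ?_⟩
    simp only [map_one, one_mul]
    rw [← neg_sub]
    refine neg_mem ((mem_box_iff _).2 fun d hd => (mem_trunc_iff _).1 hg d hd ?_)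
    have h0 := hd 0
    have h1 := hd 1
    rw [← e2_eta d, degree_e2]
    omega
  | succ m ih =>
    intro n h hle hn hh hg
    obtain ⟨f, hf0, hstep⟩ := exists_step' hF hh hn hg
    obtain ⟨u, hu0, hfu'⟩ := exists_trunc_inverse hf0 (p - 1)
    rw [Nat.sub_add_cancel hp.out.pos] at hfu'
    let h' := h * Polynomial.aeval (X 0) f * Polynomial.aeval (X 1) f * Polynomial.aeval (X 0 + X 1) u
    have hinv : ∀ {k : ℕ} (I : Ideal (MvPolynomial (Fin k) R)) (x : MvPolynomial (Fin k) R), x ^ p ∈ I →
        Ideal.Quotient.mk I (Polynomial.aeval x f) * Ideal.Quotient.mk I (Polynomial.aeval x u) = 1 := by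
      intro k I x hx
      let q := Ideal.Quotient.mkₐ R I
      show q _ * q _ = 1
      rw [← Polynomial.aeval_algHom_apply q, ← Polynomial.aeval_algHom_apply q]
      exact aeval_mul_eq_one' hfu' (by rw [← map_pow]; exact Ideal.Quotient.eq_zero_iff_mem.2 hx)
    have hev : ∀ {k : ℕ} (v : Fin 2 → MvPolynomial (Fin k) R), aeval v h' = aeval v h *
        Polynomial.aeval (v 0) f * Polynomial.aeval (v 1) f * Polynomial.aeval (v 0 + v 1) u := fun v => by
      simp [h', ← Polynomial.aeval_algHom_apply]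
    have hh' : IsTruncCocycle p h' := by
      refine ⟨?_, ?_, ?_⟩
      · rw [← Ideal.Quotient.mk_eq_mk_iff_sub_mem, hev]
        have e := (Ideal.Quotient.mk_eq_mk_iff_sub_mem _ _).2 hh.zero
        have e0 : Polynomial.aeval (0 : MvPolynomial (Fin 2) R) f = 1 := by
          rw [show (0 : MvPolynomial (Fin 2) R) = algebraMap R _ 0 by simp,
            Polynomial.aeval_algebraMap_apply_eq_algebraMap_eval, hf0, map_one]
        simp only [Matrix.cons_val_zero, Matrix.cons_val_one, add_zero, e0, map_mul, map_one]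
        rw [e, map_one, one_mul, mul_one]
        exact hinv _ _ (X_pow_mem_box 0)
      · rw [← Ideal.Quotient.mk_eq_mk_iff_sub_mem, hev]
        have e := (Ideal.Quotient.mk_eq_mk_iff_sub_mem _ _).2 hh.symm
        simp only [Matrix.cons_val_zero, Matrix.cons_val_one, h', map_mul, e, add_comm (X 1) (X 0 : MvPolynomial (Fin 2) R)]
        ring
      · rw [← Ideal.Quotient.mk_eq_mk_iff_sub_mem, hev, hev, hev, hev, map_mul, map_mul]
        have e := (Ideal.Quotient.mk_eq_mk_iff_sub_mem _ _).2 hh.assoc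
        simp only [Matrix.cons_val_zero, Matrix.cons_val_one, map_mul] at e ⊢
        have k1 := hinv (box p R 3) (X 1 + X 2) (pow_add_mem_box 1 2)
        have k2 := hinv (box p R 3) (X 0 + X 1) (pow_add_mem_box 0 1)
        rw [show (X 0 : MvPolynomial (Fin 3) R) + (X 1 + X 2) = X 0 + X 1 + X 2 from (add_assoc _ _ _).symm]
        set q := Ideal.Quotient.mk (box p R 3)
        set P1 := q (Polynomial.aeval (X 0 : MvPolynomial (Fin 3) R) f)
        set P2 := q (Polynomial.aeval (X 1 : MvPolynomial (Fin 3) R) f)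
        set P3 := q (Polynomial.aeval (X 2 : MvPolynomial (Fin 3) R) f)
        set W := q (Polynomial.aeval (X 0 + X 1 + X 2 : MvPolynomial (Fin 3) R) u)
        linear_combination (P1 * P2 * P3 * W) * e +
          (q (aeval ![(X 1 : MvPolynomial (Fin 3) R), X 2] h) * q (aeval ![(X 0 : MvPolynomial (Fin 3) R), X 1 + X 2] h) *
            (P1 * P2 * P3 * W)) * k1 -
          (q (aeval ![(X 0 : MvPolynomial (Fin 3) R) + X 1, X 2] h) * q (aeval ![(X 0 : MvPolynomial (Fin 3) R), X 1] h) *
            (P1 * P2 * P3 * W)) * k2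
    have hg' : h' - 1 ∈ trunc p R 2 (n + 1) := by
      rw [← Ideal.Quotient.mk_eq_mk_iff_sub_mem]
      have e := (Ideal.Quotient.mk_eq_mk_iff_sub_mem _ _).2 hstep
      show Ideal.Quotient.mk _ (_ * _) = _
      rw [map_mul, e, map_one]
      exact hinv _ _ (box_le_trunc 2 _ (pow_add_mem_box 0 1))
    obtain ⟨F, hF0, hFmem⟩ := ih (n + 1) h' (by omega) (by omega) hh' hg'
    refine ⟨F * f, by simp [hF0, hf0], ?_⟩
    rw [← Ideal.Quotient.mk_eq_mk_iff_sub_mem] at hFmem ⊢
    simp only [h', map_mul] at hFmem ⊢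
    have k := hinv (box p R 2) (X 0 + X 1) (pow_add_mem_box 0 1)
    set q := Ideal.Quotient.mk (box p R 2)
    linear_combination (q (Polynomial.aeval (X 0 + X 1 : MvPolynomial (Fin 2) R) f)) * hFmem +
      (q (Polynomial.aeval (X 0 : MvPolynomial (Fin 2) R) F) * q (Polynomial.aeval (X 1 : MvPolynomial (Fin 2) R) F) *
        q h * q (Polynomial.aeval (X 0 : MvPolynomial (Fin 2) R) f) * q (Polynomial.aeval (X 1 : MvPolynomial (Fin 2) R) f)) * k

end Step

end Groth.Agent.GaExt25
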