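import Groth.Agent.GaExt25.AlphaSeq
import Groth.Agent.GaExt25.TruncCocycle
import Groth.Agent.GaExt25.Lift
import Groth.Agent.GaExt25.ExtVanish
import Mathlib.Algebra.Homology.DerivedCategory.Ext.ExactSequences
import Mathlib.RingTheory.Jacobson.Ideal

/-!
Extensions of the Frobenius kernels of the additive group by the multiplicative group split.
-/

set_option autoImplicit false
universe u

open CategoryTheory CategoryTheory.Limits CategoryTheory.Abelian AlgebraicGeometry Opposite MonObj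
open Groth.Agent.Sga84 (sp spMap coA coM coM_comp coM_mul coM_injective coM_isUnit coM_surjective)

noncomputable section

namespace Groth.Agent.GaExt25

/-- A ring all whose elements are `p`-th powers up to nilpotents has the property `RootComb`. -/
theorem rootComb_of_roots {p : ℕ} [hp : Fact p.Prime] (S : Type u) [CommRing S] (hS : (p : S) = 0)
    (h : ∀ s : S, ∃ r, IsNilpotent (s - r ^ p)) : RootComb p S := by
  intro I q _ hspan
  choose r hr using h
  let ψ : I → S := fun a => r (q a)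
  have htop : Ideal.span (Set.range ψ) = ⊤ := by
    by_contra hne
    obtain ⟨P, hP, hle⟩ := Ideal.exists_le_maximal _ hne
    apply hP.ne_top
    rw [← top_le_iff, ← hspan, Ideal.span_le]
    rintro _ ⟨a, rfl⟩
    have h1 : q a - ψ a ^ p ∈ P := by
      obtain ⟨k, hk⟩ := hr (q a)
      exact hP.isPrime.mem_of_pow_mem k (hk ▸ P.zero_mem)
    have h2 : ψ a ^ p ∈ P := Ideal.pow_mem_of_mem _ (hle (Ideal.subset_span ⟨a, rfl⟩)) _ hp.out.pos
    simpa using add_mem h1 h2
  obtain ⟨c, hc⟩ := Finsupp.mem_span_range_iff_exists_finsupp.1 (show (1 : S) ∈ Ideal.span (Set.range ψ) by simp [htop])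
  simp only [smul_eq_mul] at hc
  refine ⟨c, ?_⟩
  have hnil : IsNilpotent ((c.sum fun a t => t ^ p * q a) - 1) := by
    have e : (c.sum fun a t => t ^ p * q a) - 1 = ∑ a ∈ c.support, c a ^ p * (q a - ψ a ^ p) := by
      conv_lhs => rw [← one_pow p, ← hc, Finsupp.sum, Finsupp.sum, sum_pow hS, ← Finset.sum_sub_distrib]
      exact Finset.sum_congr rfl fun a _ => by ring
    rw [e]
    exact isNilpotent_sum fun a _ => (Commute.all _ _).isNilpotent_mul_left (hr (q a))
  simpa using hnil.isUnit_add_one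

variable {R : Type u} [CommRing R]

/-- A section killed by `p` over an algebra with the property `RootComb` lifts. -/
theorem exists_lift_torsion {p : ℕ} [Fact p.Prime] {A : Type u} [CommRing A] [Algebra R A] (hA : (p : A) = 0)
    (hS : RootComb p A) {F : BigSite.Ab Scheme.fppfPrecoverage (base R)} (X : GmExt F)
    (x : F.obj.obj (op (spA R A))) (hx : p • x = 0) :
    ∃ e : X.E.obj.obj (op (spA R A)), X.proj e = x := by
  let k : Spec (CommRingCat.of A) ⟶ base R := (spA R A).hom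
  have hk : Spec.map (CommRingCat.ofHom (algebraMap A A)) = 𝟙 (Spec (CommRingCat.of A)) :=
    (congrArg Spec.map (rfl : CommRingCat.ofHom (algebraMap A A) = 𝟙 (CommRingCat.of A))).trans (Spec.map_id _)
  let τ : sp k A ⟶ spA R A := Over.homMk (𝟙 _) (by
    show 𝟙 _ ≫ k = Spec.map (CommRingCat.ofHom (algebraMap A A)) ≫ k
    rw [hk])
  let τ' : spA R A ⟶ sp k A := Over.homMk (𝟙 _) (by
    show 𝟙 _ ≫ Spec.map (CommRingCat.ofHom (algebraMap A A)) ≫ k = k
    rw [hk, Category.id_comp, Category.id_comp])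
  have hτ : τ' ≫ τ = 𝟙 _ := Over.OverMorphism.ext (Category.comp_id _)
  obtain ⟨e, he⟩ := X.exists_section_of_rootComb k hA hS (F.obj.map τ.op x) (by rw [← map_nsmul, hx, map_zero])
  refine ⟨X.E.obj.map τ'.op e, ?_⟩
  rw [X.proj_map, he, map_map, hτ, map_id']

variable {p : ℕ} [hp : Fact p.Prime] [CharP R p]

/-- The coordinate over an affine scheme. -/
def co {n : ℕ} {C : Type u} [CommRing C] [Algebra R C] (m : spA R C ⟶ Gn p n R) : C :=
  (Scheme.ΓSpecIso (CommRingCat.of C)).hom (fn m)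

theorem co_comp {n : ℕ} {C D : Type u} [CommRing C] [Algebra R C] [CommRing D] [Algebra R D] (φ : C →ₐ[R] D)
    (m : spA R C ⟶ Gn p n R) : co (spMap (𝟙 (base R)) φ ≫ m) = φ (co m) := by
  rw [co, fn_comp]
  exact congr($(Scheme.ΓSpecIso_naturality (CommRingCat.ofHom φ.toRingHom)) (fn m))

theorem co_injective {n : ℕ} {C : Type u} [CommRing C] [Algebra R C] {m m' : spA R C ⟶ Gn p n R}
    (h : co m = co m') : m = m' :=
  fn_injective ((Scheme.ΓSpecIso (CommRingCat.of C)).commRingCatIsoToRingEquiv.injective h)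

theorem co_one {n : ℕ} {C : Type u} [CommRing C] [Algebra R C] :
    co (1 : spA R C ⟶ Gn p n R) = 0 := by
  rw [co, fn_one, map_zero]

theorem co_mul {n : ℕ} {C : Type u} [CommRing C] [Algebra R C] (m m' : spA R C ⟶ Gn p n R) :
    co (m * m') = co m + co m' := by
  rw [co, fn_mul]; exact map_add _ _ _

theorem exists_co {n : ℕ} {C : Type u} [CommRing C] [Algebra R C] (c : C) (hc : c ^ p ^ n = 0) :
    ∃ m : spA R C ⟶ Gn p n R, co m = c := by
  obtain ⟨m, hm⟩ := exists_fn (p := p) (n := n) (T := spA R C) ((Scheme.ΓSpecIso (CommRingCat.of C)).inv c)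
    ((map_pow _ _ _).symm.trans ((congrArg _ hc).trans (map_zero _)))
  exact ⟨m, by rw [co, hm]; exact (Scheme.ΓSpecIso (CommRingCat.of C)).commRingCatIsoToRingEquiv.apply_symm_apply c⟩

/-- The universal truncated ring in `k` variables. -/
abbrev Qb (p : ℕ) (R : Type u) [CommRing R] (k : ℕ) : Type u := MvPolynomial (Fin k) R ⧸ box p R k

theorem mk_X_pow (k : ℕ) (i : Fin k) :
    (Ideal.Quotient.mk (box p R k) (MvPolynomial.X i)) ^ p ^ 1 = 0 := by
  rw [pow_one, ← map_pow, Ideal.Quotient.eq_zero_iff_mem]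
  exact X_pow_mem_box i

theorem A_roots (hF : Function.Surjective (frobenius R p)) (s : AlphaPn.A p 1 R) :
    ∃ r, IsNilpotent (s - r ^ p) := by
  obtain ⟨f, rfl⟩ := AlphaPn.mk_surjective p 1 R s
  obtain ⟨r, hr⟩ := hF (f.coeff 0)
  rw [frobenius_def] at hr
  refine ⟨algebraMap R _ r, ?_⟩
  obtain ⟨g, hg⟩ : Polynomial.X ∣ f - Polynomial.C (f.coeff 0) := Polynomial.X_dvd_iff.2 (by simp)
  have : AlphaPn.mk p 1 R f - algebraMap R _ r ^ p = AlphaPn.x p 1 R * AlphaPn.mk p 1 R g := by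
    rw [← map_pow, hr, ← (AlphaPn.mk p 1 R).commutes, ← map_sub, Polynomial.algebraMap_eq, hg, map_mul,
      AlphaPn.mk_X]
  rw [this]
  exact (Commute.all _ _).isNilpotent_mul_right ⟨p ^ 1, AlphaPn.x_pow p 1 R⟩

theorem nsmul_eq_zero {T : Over (base R)} (z : (PS p 1 R).obj.obj (op T)) : p • z = 0 := by
  refine val_injective ?_
  have e : ∀ k : ℕ, val (k • z) = k * val z := by
    intro k
    induction k with
    | zero => rw [zero_nsmul, val_zero, Nat.cast_zero, zero_mul]
    | succ k ih => rw [succ_nsmul, val_add, ih, Nat.cast_succ, add_one_mul]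
  rw [e, natCast_eq_zero', zero_mul, val_zero]

theorem exists_splitting_alpha (hF : Function.Surjective (frobenius R p)) (X : GmExt (PS p 1 R)) :
    ∃ σ : PS p 1 R ⟶ X.E, σ ≫ X.b = 𝟙 _ := by
  classical
  let P₁ : Over (base R) := spA R (AlphaPn.A p 1 R)
  let P₂ : Over (base R) := spA R (Qb p R 2)
  let P₃ : Over (base R) := spA R (Qb p R 3)
  let u₁ : P₁ ⟶ Gn p 1 R := (grpSpecIso R (AlphaPn.A p 1 R)).inv
  let cl : ∀ {T : Over (base R)}, (T ⟶ Gn p 1 R) → (T ⟶ P₁) := fun x => x ≫ (grpSpecIso R (AlphaPn.A p 1 R)).hom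
  have hcl : ∀ {T : Over (base R)} (x : T ⟶ Gn p 1 R), cl x ≫ u₁ = x := fun x => by
    simp [cl, u₁]
  have hcl' : ∀ {T T' : Over (base R)} (g : T' ⟶ T) (x : T ⟶ Gn p 1 R), cl (g ≫ x) = g ≫ cl x :=
    fun g x => Category.assoc _ _ _
  have hA : (p : AlphaPn.A p 1 R) = 0 := AlphaPn.natCast_eq_zero p R _
  obtain ⟨s₁, hs₁⟩ := exists_lift_torsion hA (rootComb_of_roots _ hA (A_roots hF)) X
    (ULift.up (Additive.ofMul u₁)) (nsmul_eq_zero _)
  let sec : ∀ {T : Over (base R)}, (T ⟶ Gn p 1 R) → X.E.obj.obj (op T) := fun {T} x =>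
    X.E.obj.map (cl x).op s₁ - X.E.obj.map (cl (1 : T ⟶ Gn p 1 R)).op s₁
  have sec_nat : ∀ {T T' : Over (base R)} (g : T' ⟶ T) (x : T ⟶ Gn p 1 R),
      X.E.obj.map g.op (sec x) = sec (g ≫ x) := by
    intro T T' g x
    show _ = X.E.obj.map (cl (g ≫ x)).op s₁ - X.E.obj.map (cl (1 : T' ⟶ Gn p 1 R)).op s₁
    have e := hcl' g (1 : T ⟶ Gn p 1 R)
    rw [MonObj.comp_one] at e
    rw [map_sub, map_map, map_map, hcl', e]
  have sec_one : ∀ (T : Over (base R)), sec (1 : T ⟶ Gn p 1 R) = 0 := fun T => sub_self _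
  have sec_proj : ∀ {T : Over (base R)} (x : T ⟶ Gn p 1 R),
      X.proj (sec x) = ULift.up (Additive.ofMul x) := by
    intro T x
    rw [X.proj_sub, X.proj_map, X.proj_map, hs₁]
    apply ULift.ext
    show Additive.ofMul (cl x ≫ u₁) - Additive.ofMul (cl 1 ≫ u₁) = _
    rw [hcl, hcl, ofMul_one]
    exact sub_zero (G := Additive (T ⟶ Gn p 1 R)) _
  have hd : ∀ {T : Over (base R)} (x y : T ⟶ Gn p 1 R),
      ∃ t : T ⟶ Red.Gm (base R), X.incl t = sec (x * y) - sec x - sec y := fun {T} x y => X.exists_incl (by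
    rw [X.proj_sub, X.proj_sub, sec_proj, sec_proj, sec_proj]
    apply ULift.ext
    show Additive.ofMul (x * y) - Additive.ofMul x - Additive.ofMul y = 0
    rw [ofMul_mul]
    exact sub_eq_zero.2 (add_sub_cancel_left (G := Additive (T ⟶ Gn p 1 R)) _ _))
  choose d hd using @hd
  have g_comm : ∀ {T : Over (base R)} (x y : T ⟶ Gn p 1 R), x * y = y * x := fun x y =>
    fn_injective (by rw [fn_mul, fn_mul, add_comm])
  have d_nat : ∀ {T T' : Over (base R)} (g : T' ⟶ T) (x y : T ⟶ Gn p 1 R),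
      g ≫ d x y = d (g ≫ x) (g ≫ y) := fun g x y => X.incl_injective _ (by
    rw [← X.incl_comp, hd, hd, map_sub, map_sub, sec_nat, sec_nat, sec_nat, MonObj.comp_mul])
  have d_one : ∀ {T : Over (base R)} (x : T ⟶ Gn p 1 R), d x 1 = 1 := fun x => X.incl_injective _ (by
    rw [hd, show x * 1 = x from _root_.mul_one x, sec_one, sub_self, sub_zero, X.incl_one])
  have d_comm : ∀ {T : Over (base R)} (x y : T ⟶ Gn p 1 R), d x y = d y x := fun x y => X.incl_injective _ (by
    rw [hd, hd, g_comm x y]; abel)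
  have d_coc : ∀ {T : Over (base R)} (a b c : T ⟶ Gn p 1 R),
      d b c * d a (b * c) = d (a * b) c * d a b := fun a b c => X.incl_injective _ (by
    rw [X.incl_mul, X.incl_mul, hd, hd, hd, hd, show a * b * c = a * (b * c) from _root_.mul_assoc a b c]; abel)
  let q₂ : MvPolynomial (Fin 2) R →ₐ[R] Qb p R 2 := Ideal.Quotient.mkₐ R _
  let q₃ : MvPolynomial (Fin 3) R →ₐ[R] Qb p R 3 := Ideal.Quotient.mkₐ R _
  obtain ⟨x₀, hx₀⟩ := exists_co (R := R) (p := p) (n := 1) _ (mk_X_pow (p := p) (R := R) 2 0)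
  obtain ⟨x₁, hx₁⟩ := exists_co (R := R) (p := p) (n := 1) _ (mk_X_pow (p := p) (R := R) 2 1)
  obtain ⟨H, hH₀⟩ := Ideal.Quotient.mk_surjective (I := box p R 2) (coM (d (T := P₂) x₀ x₁))
  have hco : ∀ {C : Type u} [CommRing C] [Algebra R C] (x : spA R C ⟶ Gn p 1 R), co x ^ p = 0 := by
    intro C _ _ x
    rw [co, ← map_pow]
    have := fn_pow x
    rw [pow_one] at this
    rw [this, map_zero]
  have hH : ∀ {C : Type u} [CommRing C] [Algebra R C] (x y : spA R C ⟶ Gn p 1 R),
      coM (d x y) = MvPolynomial.aeval ![co x, co y] H := by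
    intro C _ _ x y
    have hker : ∀ a ∈ box p R 2, MvPolynomial.aeval (R := R) ![co x, co y] a = 0 := by
      intro a ha
      have : box p R 2 ≤ RingHom.ker (MvPolynomial.aeval (R := R) ![co x, co y]) := Ideal.span_le.2 (by
        rintro _ ⟨i, rfl⟩
        rw [SetLike.mem_coe, RingHom.mem_ker, map_pow, MvPolynomial.aeval_X]
        fin_cases i <;> exact hco _)
      exact this ha
    let φ : Qb p R 2 →ₐ[R] C := Ideal.Quotient.liftₐ _ (MvPolynomial.aeval ![co x, co y]) hker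
    have hφ : ∀ a, φ (Ideal.Quotient.mk _ a) = MvPolynomial.aeval ![co x, co y] a := fun a => rfl
    have hx : spMap (𝟙 (base R)) φ ≫ x₀ = x := co_injective (by rw [co_comp, hx₀, hφ]; simp)
    have hy : spMap (𝟙 (base R)) φ ≫ x₁ = y := co_injective (by rw [co_comp, hx₁, hφ]; simp)
    rw [← hx, ← hy, ← d_nat, coM_comp _ φ.toRingHom rfl, hx, hy]
    exact (congrArg φ hH₀.symm).trans (hφ H)
  have hpush : ∀ {k : ℕ} (v : Fin 2 → MvPolynomial (Fin k) R) (a b : Qb p R k),
      a = Ideal.Quotient.mk _ (v 0) → b = Ideal.Quotient.mk _ (v 1) →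
      MvPolynomial.aeval ![a, b] H = Ideal.Quotient.mk (box p R k) (MvPolynomial.aeval v H) := by
    intro k v a b ha hb
    subst ha hb
    show _ = Ideal.Quotient.mkₐ R (box p R k) (MvPolynomial.aeval v H)
    rw [MvPolynomial.comp_aeval_apply]
    congr 2
    funext i
    fin_cases i <;> rfl
  have hcoc : IsTruncCocycle p H := by
    refine ⟨?_, ?_, ?_⟩
    · rw [← Ideal.Quotient.mk_eq_mk_iff_sub_mem, map_one, ← hpush ![MvPolynomial.X 0, 0] (co x₀)
        (co (1 : P₂ ⟶ Gn p 1 R)) hx₀ (by rw [co_one]; exact (map_zero _).symm), ← hH, d_one,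
        coM, Groth.Agent.RedPts82.gmFn_one, map_one]
    · rw [← Ideal.Quotient.mk_eq_mk_iff_sub_mem, ← hpush ![MvPolynomial.X 1, MvPolynomial.X 0] (co x₁)
        (co x₀) hx₁ hx₀, ← hH, d_comm, ← hH₀]
    · obtain ⟨a, ha⟩ := exists_co (R := R) (p := p) (n := 1) _ (mk_X_pow (p := p) (R := R) 3 0)
      obtain ⟨b, hb⟩ := exists_co (R := R) (p := p) (n := 1) _ (mk_X_pow (p := p) (R := R) 3 1)
      obtain ⟨c, hc⟩ := exists_co (R := R) (p := p) (n := 1) _ (mk_X_pow (p := p) (R := R) 3 2)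
      rw [← Ideal.Quotient.mk_eq_mk_iff_sub_mem, map_mul, map_mul,
        ← hpush ![MvPolynomial.X 1, MvPolynomial.X 2] (co b) (co c) hb hc,
        ← hpush ![MvPolynomial.X 0, MvPolynomial.X 1 + MvPolynomial.X 2] (co a) (co (b * c)) ha
          (by rw [co_mul, hb, hc]; exact (map_add _ _ _).symm),
        ← hpush ![MvPolynomial.X 0 + MvPolynomial.X 1, MvPolynomial.X 2] (co (a * b)) (co c)
          (by rw [co_mul, ha, hb]; exact (map_add _ _ _).symm) hc,
        ← hpush ![MvPolynomial.X 0, MvPolynomial.X 1] (co a) (co b) ha hb,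
        ← hH, ← hH, ← hH, ← hH, ← coM_mul, ← coM_mul, d_coc]
  obtain ⟨f, hf0, hf⟩ := exists_trunc_splitting hF H hcoc
  have hfu : IsUnit (Polynomial.aeval (AlphaPn.x p 1 R) f) := by
    obtain ⟨g, hg⟩ : Polynomial.X ∣ f - 1 := Polynomial.X_dvd_iff.2 (by
      rw [Polynomial.coeff_sub, Polynomial.coeff_zero_eq_eval_zero, hf0, Polynomial.coeff_one_zero, sub_self])
    rw [eq_add_of_sub_eq hg, map_add, map_one, map_mul, Polynomial.aeval_X, add_comm]
    exact IsNilpotent.isUnit_one_add ((Commute.all _ _).isNilpotent_mul_right ⟨p ^ 1, AlphaPn.x_pow p 1 R⟩)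
  obtain ⟨tf, htf⟩ := coM_surjective (S := base R)
    (k := Spec.map (CommRingCat.ofHom (algebraMap R (AlphaPn.A p 1 R))) ≫ 𝟙 (base R)) hfu
  let σ₀ : ∀ {T : Over (base R)}, (T ⟶ Gn p 1 R) → X.E.obj.obj (op T) := fun {T} x =>
    sec x - X.incl (cl x ≫ tf)
  have σ_nat : ∀ {T T' : Over (base R)} (g : T' ⟶ T) (x : T ⟶ Gn p 1 R),
      X.E.obj.map g.op (σ₀ x) = σ₀ (g ≫ x) := by
    intro T T' g x
    show _ = sec (g ≫ x) - X.incl (cl (g ≫ x) ≫ tf)
    rw [map_sub, sec_nat, X.incl_comp, hcl']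
    simp [cl]
  have hev : ∀ (x : P₂ ⟶ Gn p 1 R), coM (cl x ≫ tf) = Polynomial.aeval (co x) f := by
    intro x
    let φ : AlphaPn.A p 1 R →ₐ[R] Qb p R 2 := AlphaPn.lift p 1 R (co x) (by rw [pow_one]; exact hco x)
    have e : cl x = spMap (𝟙 (base R)) φ := by
      have : spMap (𝟙 (base R)) φ ≫ u₁ = x := co_injective (by
        rw [co_comp]
        have hu : co u₁ = AlphaPn.x p 1 R := by
          rw [co, fn, appG, show u₁ ≫ (grpSpecIso R (AlphaPn.A p 1 R)).hom = 𝟙 _ from Iso.inv_hom_id _]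
          refine (congrArg _ ?_).trans
            ((Scheme.ΓSpecIso (CommRingCat.of (AlphaPn.A p 1 R))).commRingCatIsoToRingEquiv.apply_symm_apply _)
          show (𝟙 P₁ : P₁ ⟶ P₁).left.appTop ((Scheme.ΓSpecIso _).inv _) = _
          simp
          rfl
        rw [hu]
        exact AlphaPn.lift_x _ _)
      rw [← this]
      simp [cl, u₁]
    rw [e, coM_comp _ φ.toRingHom rfl, htf]
    show φ _ = _
    rw [← Polynomial.aeval_algHom_apply, AlphaPn.lift_x]
  have σ_univ : σ₀ (T := P₂) (x₀ * x₁) = σ₀ x₀ + σ₀ x₁ := by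
    have key : cl (x₀ * x₁) ≫ tf = (cl x₀ ≫ tf) * (cl x₁ ≫ tf) * d x₀ x₁ := by
      apply coM_injective
      rw [coM_mul, coM_mul, hev, hev, hev, co_mul, hx₀, hx₁, ← hH₀]
      show Polynomial.aeval (q₂ _ + q₂ _) f = Polynomial.aeval (q₂ _) f * Polynomial.aeval (q₂ _) f * q₂ H
      rw [← map_add, Polynomial.aeval_algHom_apply, Polynomial.aeval_algHom_apply, Polynomial.aeval_algHom_apply,
        ← map_mul, ← map_mul]
      exact (Ideal.Quotient.mk_eq_mk_iff_sub_mem _ _).2 hf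
    show sec (x₀ * x₁) - X.incl (cl (x₀ * x₁) ≫ tf) =
      (sec x₀ - X.incl (cl x₀ ≫ tf)) + (sec x₁ - X.incl (cl x₁ ≫ tf))
    rw [key, X.incl_mul, X.incl_mul, hd]
    abel
  have σ_add : ∀ {T : Over (base R)} (x y : T ⟶ Gn p 1 R), σ₀ (x * y) = σ₀ x + σ₀ y := by
    intro T x y
    letI := algΓ T
    have hker : ∀ a ∈ box p R 2, MvPolynomial.aeval (R := R) ![fn x, fn y] a = 0 := by
      intro a ha
      have : box p R 2 ≤ RingHom.ker (MvPolynomial.aeval (R := R) ![fn x, fn y]) := Ideal.span_le.2 (by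
        rintro _ ⟨i, rfl⟩
        rw [SetLike.mem_coe, RingHom.mem_ker, map_pow, MvPolynomial.aeval_X]
        fin_cases i
        · have := fn_pow x
          rwa [pow_one] at this
        · have := fn_pow y
          rwa [pow_one] at this)
      exact this ha
    let φ : Qb p R 2 →ₐ[R] Γ(T.left, ⊤) := Ideal.Quotient.liftₐ _ (MvPolynomial.aeval ![fn x, fn y]) hker
    obtain ⟨m, hm⟩ := exists_pt (A := Qb p R 2) (T := T) φ.toRingHom φ.commutes
    have hval : ∀ (z : P₂ ⟶ Gn p 1 R), fn (m ≫ z) = φ (co z) := by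
      intro z
      rw [fn_comp, co]
      refine Eq.trans ?_ congr($hm ((Scheme.ΓSpecIso (CommRingCat.of (Qb p R 2))).hom (fn z)))
      exact congrArg m.left.appTop.hom
        ((Scheme.ΓSpecIso (CommRingCat.of (Qb p R 2))).commRingCatIsoToRingEquiv.symm_apply_apply _).symm
    have h0 : m ≫ x₀ = x := fn_injective (by
      rw [hval, hx₀]
      exact (MvPolynomial.aeval_X _ _).trans rfl)
    have h1 : m ≫ x₁ = y := fn_injective (by
      rw [hval, hx₁]
      exact (MvPolynomial.aeval_X _ _).trans rfl)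
    have := congrArg (X.E.obj.map m.op ·) σ_univ
    simp only [map_add, σ_nat, MonObj.comp_mul, h0, h1] at this
    exact this
  let σ : PS p 1 R ⟶ X.E :=
    ⟨{ app := fun T => AddCommGrpCat.ofHom (AddMonoidHom.mk' (fun z => σ₀ z.down.toMul)
        fun z z' => σ_add z.down.toMul z'.down.toMul)
       naturality := fun T T' g => AddCommGrpCat.ext fun z => (σ_nat g.unop z.down.toMul).symm }⟩
  refine ⟨σ, Sheaf.hom_ext (NatTrans.ext (funext fun T => AddCommGrpCat.ext fun z => ?_))⟩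
  show X.proj (σ₀ z.down.toMul) = z
  rw [show σ₀ z.down.toMul = sec z.down.toMul - X.incl (cl z.down.toMul ≫ tf) from rfl, X.proj_sub,
    X.proj_incl, sub_zero, sec_proj]
  rfl

theorem ext_one_alpha_subsingleton (hF : Function.Surjective (frobenius R p)) :
    ∀ n : ℕ, Subsingleton (Ext (PS p n R) (CGrpSh.pts Scheme.fppfPrecoverage (Red.Gm (base R))) 1) := by
  intro n
  induction n with
  | zero =>
    refine subsingleton_of_forall_eq 0 fun e => ?_
    rw [← Ext.mk₀_id_comp e, (isZero_zero (p := p) (R := R)).eq_of_src (𝟙 _) 0, Ext.mk₀_zero, Ext.zero_comp]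
  | succ n ih =>
    have h1 : Subsingleton (Ext (PS p 1 R) (CGrpSh.pts Scheme.fppfPrecoverage (Red.Gm (base R))) 1) :=
      ext_one_subsingleton_of_split fun E a b w h => exists_splitting_alpha hF ⟨E, a, b, w, h⟩
    refine subsingleton_of_forall_eq 0 fun e => ?_
    obtain ⟨x, hx⟩ := Ext.contravariant_sequence_exact₂ (shortExact_seq (p := p) (n := n) (R := R)) _ e
      (Subsingleton.elim _ _)
    rw [← hx, Subsingleton.elim x 0, Ext.comp_zero]

end Groth.Agent.GaExt25
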