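import Groth.Agent.Sga84.TorsorGaGm
import Mathlib.RingTheory.Adjoin.Basic
import Mathlib.RingTheory.MvPolynomial.Basic

/-!
Points with values in the spectrum of an algebra over the base.
-/

set_option autoImplicit false
universe u

open CategoryTheory AlgebraicGeometry MonObj CartesianMonoidalCategory
open Groth.Agent.Sga84 (sp spMap coA coM)

noncomputable section

namespace Groth.Agent.GaExt25

variable (R : Type u) [CommRing R]

/-- The base. -/
abbrev base : Scheme.{u} := Spec (CommRingCat.of R)

/-- The spectrum of an algebra over the base. -/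
abbrev spA (A : Type u) [CommRing A] [Algebra R A] : Over (base R) := sp (𝟙 (base R)) A

variable {R}
variable {A : Type u} [CommRing A] [Algebra R A] {T : Over (base R)}

instance isAffine_spA : IsAffine (spA R A).left := inferInstanceAs (IsAffine (Spec (CommRingCat.of A)))

/-- The structure map on functions. -/
def strFn (T : Over (base R)) : R →+* Γ(T.left, ⊤) :=
  T.hom.appTop.hom.comp (Scheme.ΓSpecIso (CommRingCat.of R)).inv.hom

/-- The comorphism of a point. -/
def app (m : T ⟶ spA R A) : A →+* Γ(T.left, ⊤) :=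
  m.left.appTop.hom.comp (Scheme.ΓSpecIso (CommRingCat.of A)).inv.hom

theorem app_algebraMap (m : T ⟶ spA R A) (r : R) : app m (algebraMap R A r) = strFn T r := by
  have h := Over.w m
  show m.left.appTop ((Scheme.ΓSpecIso (CommRingCat.of A)).inv (algebraMap R A r)) = T.hom.appTop _
  rw [← h]
  rw [Scheme.Hom.comp_appTop, ConcreteCategory.comp_apply]
  congr 1
  show _ = (Spec.map (CommRingCat.ofHom (algebraMap R A)) ≫ 𝟙 _).appTop _
  rw [Category.comp_id]
  exact congr($(Scheme.ΓSpecIso_inv_naturality (CommRingCat.ofHom (algebraMap R A))) r)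

theorem gaFn_comp (m : T ⟶ spA R A) (x : spA R A ⟶ Red.Ga (base R)) :
    Red.gaFn (m ≫ x) = app m (coA x) := by
  rw [RedPts82.gaFn_comp]
  exact congrArg (m.left.appTop ·) ((Scheme.ΓSpecIso (CommRingCat.of A)).commRingCatIsoToRingEquiv.symm_apply_apply _).symm

theorem pt_ext {m m' : T ⟶ spA R A} (s : Set A) (hs : Algebra.adjoin R s = ⊤)
    (h : ∀ a ∈ s, app m a = app m' a) : m = m' := by
  apply Over.OverMorphism.ext
  apply ext_of_isAffine
  ext z
  obtain ⟨a, rfl⟩ := (Scheme.ΓSpecIso (CommRingCat.of A)).commRingCatIsoToRingEquiv.symm.surjective z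
  show app m a = app m' a
  induction (hs ▸ Algebra.mem_top : a ∈ Algebra.adjoin R s) using Algebra.adjoin_induction with
  | mem x hx => exact h x hx
  | algebraMap r => rw [app_algebraMap, app_algebraMap]
  | add x y _ _ hx hy => rw [map_add, map_add, hx, hy]
  | mul x y _ _ hx hy => rw [map_mul, map_mul, hx, hy]

theorem exists_pt (φ : A →+* Γ(T.left, ⊤)) (hφ : ∀ r, φ (algebraMap R A r) = strFn T r) :
    ∃ m : T ⟶ spA R A, app m = φ := by
  let l : T.left ⟶ Spec (CommRingCat.of A) := T.left.toSpecΓ ≫ Spec.map (CommRingCat.ofHom φ)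
  have hl : ∀ a, l.appTop ((Scheme.ΓSpecIso (CommRingCat.of A)).inv a) = φ a := by
    intro a
    have e : (Scheme.ΓSpecIso (CommRingCat.of A)).inv ≫ l.appTop = CommRingCat.ofHom φ := by
      rw [Scheme.Hom.comp_appTop, ← Scheme.ΓSpecIso_inv_naturality_assoc, Scheme.toSpecΓ_appTop,
        Iso.inv_hom_id]
      exact Category.comp_id _
    exact congr($e a)
  refine ⟨Over.homMk l ?_, RingHom.ext hl⟩
  show l ≫ Spec.map (CommRingCat.ofHom (algebraMap R A)) ≫ 𝟙 _ = T.hom
  rw [Category.comp_id]
  apply ext_of_isAffine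
  ext z
  obtain ⟨r, rfl⟩ := (Scheme.ΓSpecIso (CommRingCat.of R)).commRingCatIsoToRingEquiv.symm.surjective z
  rw [Scheme.Hom.comp_appTop]
  show l.appTop ((Spec.map _).appTop ((Scheme.ΓSpecIso (CommRingCat.of R)).inv r)) = strFn T r
  refine (congrArg (fun q => l.appTop q) (congr($(Scheme.ΓSpecIso_inv_naturality (CommRingCat.ofHom (algebraMap R A))) r)).symm).trans ?_
  exact (hl _).trans (hφ r)

/-- The base point of the final object. -/
theorem exists_toBasePt (T : Over (base R)) : ∃ m : T ⟶ spA R R, app m = strFn T :=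
  exists_pt (strFn T) fun _ => rfl

end Groth.Agent.GaExt25
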