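import Groth.Agent.GaExt25.Lift
import Groth.Agent.GaExt25.Points
import Groth.Agent.GaExt25.ExtVanish
import Groth.Agent.S13380

/-!
Extensions of the additive group by the multiplicative group over a semiperfect ring split.
-/

set_option autoImplicit false
universe u

open CategoryTheory CategoryTheory.Limits AlgebraicGeometry Opposite MonObj CartesianMonoidalCategory
open Groth.Agent.Sga84 (sp spMap spMap_comp coA coA_comp coA_mul coA_injective coA_surjective coM coM_comp
  coM_mul coM_injective coM_isUnit coM_surjective)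

noncomputable section

namespace Groth.Agent.GaExt25

variable {R : Type u} [CommRing R]

/-- The points of a group scheme as sections of its sheaf. -/
def gaPt {S T : Scheme.{u}} {X : Over S} (x : X ⟶ Red.Ga S) :
    (CGrpSh.pts Scheme.fppfPrecoverage (Red.Ga S)).obj.obj (op X) :=
  ULift.up (Additive.ofMul x)

theorem coA_one {A : Type u} [CommRing A] [Algebra R A] : coA (1 : spA R A ⟶ Red.Ga (base R)) = 0 := by
  simp only [coA, RedPts82.gaFn_one, map_zero]

theorem coA_pow {A : Type u} [CommRing A] [Algebra R A] (x : spA R A ⟶ Red.Ga (base R)) (n : ℕ) :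
    coA (x ^ n) = n * coA x := by
  induction n with
  | zero => rw [pow_zero, coA_one, Nat.cast_zero, zero_mul]
  | succ n ih => rw [pow_succ, coA_mul, ih, Nat.cast_succ, add_one_mul]

theorem coM_one {A : Type u} [CommRing A] [Algebra R A] : coM (1 : spA R A ⟶ Red.Gm (base R)) = 1 := by
  simp only [coM, RedPts82.gmFn_one, map_one]

/-- A point of the additive group with values in an algebra with the property `RootComb` lifts. -/
theorem exists_lift_point {p : ℕ} [Fact p.Prime] {A : Type u} [CommRing A] [Algebra R A] (hA : (p : A) = 0)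
    (hS : RootComb p A) (X : GmExt (CGrpSh.pts Scheme.fppfPrecoverage (Red.Ga (base R))))
    (x : spA R A ⟶ Red.Ga (base R)) :
    ∃ e : X.E.obj.obj (op (spA R A)), X.proj e = ULift.up (Additive.ofMul x) := by
  let k : Spec (CommRingCat.of A) ⟶ base R := (spA R A).hom
  have hk : Spec.map (CommRingCat.ofHom (algebraMap A A)) = 𝟙 (Spec (CommRingCat.of A)) :=
    (congrArg Spec.map (rfl : CommRingCat.ofHom (algebraMap A A) = 𝟙 (CommRingCat.of A))).trans (Spec.map_id _)
  let τ : sp k A ⟶ spA R A := Over.homMk (𝟙 _) (by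
    show 𝟙 _ ≫ k = Spec.map (CommRingCat.ofHom (algebraMap A A)) ≫ k
    rw [hk])
  let τ' : spA R A ⟶ sp k A := Over.homMk (𝟙 _) (by
    show 𝟙 _ ≫ Spec.map (CommRingCat.ofHom (algebraMap A A)) ≫ k = k
    rw [hk, Category.id_comp, Category.id_comp])
  have hτ : τ' ≫ τ = 𝟙 _ := Over.OverMorphism.ext (Category.comp_id _)
  have hpow : p • (ULift.up (Additive.ofMul (τ ≫ x)) :
      (CGrpSh.pts Scheme.fppfPrecoverage (Red.Ga (base R))).obj.obj (op (sp k A))) = 0 := by
    apply ULift.ext
    show Additive.ofMul ((τ ≫ x) ^ p) = Additive.ofMul 1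
    congr 1
    apply coA_injective
    rw [coA, coA, RedPts82.gaFn_one, map_zero]
    have : ∀ (n : ℕ), Red.gaFn ((τ ≫ x) ^ n) = n * Red.gaFn (τ ≫ x) := by
      intro n
      induction n with
      | zero => rw [pow_zero, RedPts82.gaFn_one, Nat.cast_zero, zero_mul]
      | succ n ih => rw [pow_succ, RedPts82.gaFn_mul, ih, Nat.cast_succ, add_one_mul]
    rw [this, map_mul, map_natCast, hA, zero_mul]
  obtain ⟨e, he⟩ := X.exists_section_of_rootComb k hA hS _ hpow
  refine ⟨X.E.obj.map τ'.op e, ?_⟩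
  rw [X.proj_map, he]
  apply ULift.ext
  show Additive.ofMul (τ' ≫ τ ≫ x) = Additive.ofMul x
  rw [← Category.assoc, hτ, Category.id_comp]

/-- Extensions of the additive by the multiplicative group split. -/
theorem exists_splitting {p : ℕ} [Fact p.Prime] [CharP R p] (hF : Function.Surjective (frobenius R p))
    (X : GmExt (CGrpSh.pts Scheme.fppfPrecoverage (Red.Ga (base R)))) :
    ∃ σ : CGrpSh.pts Scheme.fppfPrecoverage (Red.Ga (base R)) ⟶ X.E, σ ≫ X.b = 𝟙 _ := by
  let P₁ := spA R (Polynomial R)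
  let P₂ := spA R (MvPolynomial (Fin 2) R)
  let P₃ := spA R (MvPolynomial (Fin 3) R)
  -- a lift of the universal point
  obtain ⟨xX, hxX⟩ := coA_surjective (S := base R)
    (k := Spec.map (CommRingCat.ofHom (algebraMap R (Polynomial R))) ≫ 𝟙 (base R)) (Polynomial.X : Polynomial R)
  have hF' : ∀ x : R, ∃ y : R, y ^ p = x := fun x => hF x
  obtain ⟨s₁, hs₁⟩ := exists_lift_point (p := p) (CharP.cast_eq_zero (Polynomial R) p)
    (rootComb_polynomial R (CharP.cast_eq_zero R p) hF') X xX
  -- the classifying maps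
  have hex : ∀ (T : Over (base R)) (x : T ⟶ Red.Ga (base R)), ∃ m : T ⟶ P₁, m ≫ xX = x := by
    intro T x
    obtain ⟨m, hm⟩ := exists_pt (A := Polynomial R) (Polynomial.eval₂RingHom (strFn T) (Red.gaFn x))
      (fun r => Polynomial.eval₂_C _ _)
    refine ⟨m, RedPts82.gaFn_injective ?_⟩
    rw [gaFn_comp, hm, hxX]
    exact Polynomial.eval₂_X _ _
  have huniq : ∀ (T : Over (base R)) (m m' : T ⟶ P₁), m ≫ xX = m' ≫ xX → m = m' := by
    intro T m m' h
    refine pt_ext {Polynomial.X} Polynomial.adjoin_X ?_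
    rintro a rfl
    have := congrArg Red.gaFn h
    rwa [gaFn_comp, gaFn_comp, hxX] at this
  choose cl hcl using hex
  have hcl' : ∀ {T T' : Over (base R)} (g : T' ⟶ T) (x : T ⟶ Red.Ga (base R)),
      cl T' (g ≫ x) = g ≫ cl T x := fun g x => huniq _ _ _ (by rw [Category.assoc, hcl, hcl])
  let sec : ∀ {T : Over (base R)}, (T ⟶ Red.Ga (base R)) → X.E.obj.obj (op T) := fun {T} x =>
    X.E.obj.map (cl T x).op s₁ - X.E.obj.map (cl T 1).op s₁
  have sec_nat : ∀ {T T' : Over (base R)} (g : T' ⟶ T) (x : T ⟶ Red.Ga (base R)),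
      X.E.obj.map g.op (sec x) = sec (g ≫ x) := by
    intro T T' g x
    show _ = X.E.obj.map (cl T' (g ≫ x)).op s₁ - X.E.obj.map (cl T' 1).op s₁
    have e := hcl' g (1 : T ⟶ Red.Ga (base R))
    rw [MonObj.comp_one] at e
    rw [map_sub, map_map, map_map, hcl', e]
  have sec_one : ∀ (T : Over (base R)), sec (1 : T ⟶ Red.Ga (base R)) = 0 := fun T => sub_self _
  have sec_proj : ∀ {T : Over (base R)} (x : T ⟶ Red.Ga (base R)),
      X.proj (sec x) = ULift.up (Additive.ofMul x) := by
    intro T x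
    rw [X.proj_sub, X.proj_map, X.proj_map, hs₁]
    apply ULift.ext
    show Additive.ofMul (cl T x ≫ xX) - Additive.ofMul (cl T 1 ≫ xX) = _
    rw [hcl, hcl, ofMul_one]
    exact sub_zero (G := Additive (T ⟶ Red.Ga (base R))) _
  -- the cocycle
  have hd : ∀ {T : Over (base R)} (x y : T ⟶ Red.Ga (base R)),
      ∃ t : T ⟶ Red.Gm (base R), X.incl t = sec (x * y) - sec x - sec y := fun {T} x y => X.exists_incl (by
    rw [X.proj_sub, X.proj_sub, sec_proj, sec_proj, sec_proj]
    apply ULift.ext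
    show Additive.ofMul (x * y) - Additive.ofMul x - Additive.ofMul y = 0
    rw [ofMul_mul]
    exact sub_eq_zero.2 (add_sub_cancel_left (G := Additive (T ⟶ Red.Ga (base R))) _ _))
  choose d hd using @hd
  have d_nat : ∀ {T T' : Over (base R)} (g : T' ⟶ T) (x y : T ⟶ Red.Ga (base R)),
      g ≫ d x y = d (g ≫ x) (g ≫ y) := fun g x y => X.incl_injective _ (by
    rw [← X.incl_comp, hd, hd, map_sub, map_sub, sec_nat, sec_nat, sec_nat, MonObj.comp_mul])
  obtain ⟨x₀, hx₀⟩ := coA_surjective (S := base R)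
    (k := Spec.map (CommRingCat.ofHom (algebraMap R (MvPolynomial (Fin 2) R))) ≫ 𝟙 (base R))
    (MvPolynomial.X 0 : MvPolynomial (Fin 2) R)
  obtain ⟨x₁, hx₁⟩ := coA_surjective (S := base R)
    (k := Spec.map (CommRingCat.ofHom (algebraMap R (MvPolynomial (Fin 2) R))) ≫ 𝟙 (base R))
    (MvPolynomial.X 1 : MvPolynomial (Fin 2) R)
  let H : MvPolynomial (Fin 2) R := coM (d (T := P₂) x₀ x₁)
  have hH : ∀ {A : Type u} [CommRing A] [Algebra R A] (x y : spA R A ⟶ Red.Ga (base R)),
      coM (d x y) = MvPolynomial.aeval ![coA x, coA y] H := by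
    intro A _ _ x y
    let φ := MvPolynomial.aeval (R := R) ![coA x, coA y]
    have hx : spMap (𝟙 (base R)) φ ≫ x₀ = x := coA_injective (by
      rw [coA_comp _ φ.toRingHom rfl, hx₀]; simp [φ])
    have hy : spMap (𝟙 (base R)) φ ≫ x₁ = y := coA_injective (by
      rw [coA_comp _ φ.toRingHom rfl, hx₁]; simp [φ])
    rw [← hx, ← hy, ← d_nat, coM_comp _ φ.toRingHom rfl, hx, hy]
    rfl
  have d_one : ∀ {T : Over (base R)} (x : T ⟶ Red.Ga (base R)), d x 1 = 1 := fun x => X.incl_injective _ (by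
    rw [hd, show x * 1 = x from _root_.mul_one x, sec_one, sub_self, sub_zero, X.incl_one])
  have d_comm : ∀ {T : Over (base R)} (x y : T ⟶ Red.Ga (base R)), d x y = d y x := fun x y => X.incl_injective _ (by
    rw [hd, hd, show x * y = y * x from RedPts82.ga_comm x y]; abel)
  have d_coc : ∀ {T : Over (base R)} (a b c : T ⟶ Red.Ga (base R)),
      d b c * d a (b * c) = d (a * b) c * d a b := fun a b c => X.incl_injective _ (by
    rw [X.incl_mul, X.incl_mul, hd, hd, hd, hd, show a * b * c = a * (b * c) from _root_.mul_assoc a b c]; abel)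
  have hx0 : ![coA x₀, coA x₁] = MvPolynomial.X := by
    funext i
    fin_cases i
    · exact hx₀
    · exact hx₁
  obtain ⟨f, hfu, hf⟩ := Groth.Agent.S13380.result p R hF H (coM_isUnit _) (by
      have := congrArg coM (d_one (T := P₂) x₀)
      rw [hH, coM_one, coA_one, hx₀] at this
      exact this) (by
      have := congrArg coM (d_comm (T := P₂) x₁ x₀)
      rw [hH, hH, hx0, hx₀, hx₁, MvPolynomial.aeval_X_left, AlgHom.id_apply] at this
      exact this) (by
      obtain ⟨a, ha⟩ := coA_surjective (S := base R)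
        (k := Spec.map (CommRingCat.ofHom (algebraMap R (MvPolynomial (Fin 3) R))) ≫ 𝟙 (base R))
        (MvPolynomial.X 0 : MvPolynomial (Fin 3) R)
      obtain ⟨b, hb⟩ := coA_surjective (S := base R)
        (k := Spec.map (CommRingCat.ofHom (algebraMap R (MvPolynomial (Fin 3) R))) ≫ 𝟙 (base R))
        (MvPolynomial.X 1 : MvPolynomial (Fin 3) R)
      obtain ⟨c, hc⟩ := coA_surjective (S := base R)
        (k := Spec.map (CommRingCat.ofHom (algebraMap R (MvPolynomial (Fin 3) R))) ≫ 𝟙 (base R))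
        (MvPolynomial.X 2 : MvPolynomial (Fin 3) R)
      have := congrArg coM (d_coc (T := P₃) a b c)
      rw [coM_mul, coM_mul, hH, hH, hH, hH, coA_mul, coA_mul, ha, hb, hc] at this
      exact this)
  obtain ⟨tf, htf⟩ := coM_surjective (S := base R)
    (k := Spec.map (CommRingCat.ofHom (algebraMap R (Polynomial R))) ≫ 𝟙 (base R)) hfu
  -- the splitting
  let σ₀ : ∀ {T : Over (base R)}, (T ⟶ Red.Ga (base R)) → X.E.obj.obj (op T) := fun {T} x =>
    sec x - X.incl (cl T x ≫ tf)
  have σ_nat : ∀ {T T' : Over (base R)} (g : T' ⟶ T) (x : T ⟶ Red.Ga (base R)),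
      X.E.obj.map g.op (σ₀ x) = σ₀ (g ≫ x) := by
    intro T T' g x
    show _ = sec (g ≫ x) - X.incl (cl T' (g ≫ x) ≫ tf)
    rw [map_sub, sec_nat, X.incl_comp, hcl', Category.assoc]
  have σ_univ : σ₀ (T := P₂) (x₀ * x₁) = σ₀ x₀ + σ₀ x₁ := by
    have key : cl P₂ (x₀ * x₁) ≫ tf = (cl P₂ x₀ ≫ tf) * (cl P₂ x₁ ≫ tf) * d x₀ x₁ := by
      apply coM_injective
      have hev : ∀ (x : P₂ ⟶ Red.Ga (base R)), coM (cl P₂ x ≫ tf) = Polynomial.aeval (coA x) f := by
        intro x
        have : cl P₂ x = spMap (𝟙 (base R)) (Polynomial.aeval (R := R) (coA x)) := huniq _ _ _ (by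
          rw [hcl]
          apply coA_injective
          rw [coA_comp _ (Polynomial.aeval (R := R) (coA x)).toRingHom rfl, hxX]
          simp)
        rw [this, coM_comp _ (Polynomial.aeval (R := R) (coA x)).toRingHom rfl, htf]
        rfl
      rw [coM_mul, coM_mul, hev, hev, hev, coA_mul, hx₀, hx₁]
      exact hf
    show sec (x₀ * x₁) - X.incl (cl P₂ (x₀ * x₁) ≫ tf) =
      (sec x₀ - X.incl (cl P₂ x₀ ≫ tf)) + (sec x₁ - X.incl (cl P₂ x₁ ≫ tf))
    rw [key, X.incl_mul, X.incl_mul, hd]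
    abel
  have σ_add : ∀ {T : Over (base R)} (x y : T ⟶ Red.Ga (base R)), σ₀ (x * y) = σ₀ x + σ₀ y := by
    intro T x y
    obtain ⟨m, hm⟩ := exists_pt (A := MvPolynomial (Fin 2) R)
      (MvPolynomial.eval₂Hom (strFn T) ![Red.gaFn x, Red.gaFn y]) (fun r => MvPolynomial.eval₂_C _ _ _)
    have h0 : m ≫ x₀ = x := RedPts82.gaFn_injective (by rw [gaFn_comp, hm, hx₀]; simp)
    have h1 : m ≫ x₁ = y := RedPts82.gaFn_injective (by rw [gaFn_comp, hm, hx₁]; simp)
    have := congrArg (X.E.obj.map m.op ·) σ_univ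
    simp only [map_add, σ_nat, MonObj.comp_mul, h0, h1] at this
    exact this
  let σ : CGrpSh.pts Scheme.fppfPrecoverage (Red.Ga (base R)) ⟶ X.E :=
    ⟨{ app := fun T => AddCommGrpCat.ofHom (AddMonoidHom.mk' (fun z => σ₀ z.down.toMul)
        fun z z' => σ_add z.down.toMul z'.down.toMul)
       naturality := fun T T' g => AddCommGrpCat.ext fun z => (σ_nat g.unop z.down.toMul).symm }⟩
  refine ⟨σ, Sheaf.hom_ext (NatTrans.ext (funext fun T => AddCommGrpCat.ext fun z => ?_))⟩
  show X.proj (σ₀ z.down.toMul) = z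
  rw [show σ₀ z.down.toMul = sec z.down.toMul - X.incl (cl T.unop z.down.toMul ≫ tf) from rfl, X.proj_sub,
    X.proj_incl, sub_zero, sec_proj]
  rfl

theorem ext_one_Ga_Gm_subsingleton {p : ℕ} [Fact p.Prime] [CharP R p] (hF : Function.Surjective (frobenius R p)) :
    Subsingleton (CGrpSh.ExtS Scheme.fppfPrecoverage (Red.Ga (base R)) (Red.Gm (base R)) 1) :=
  ext_one_subsingleton_of_split fun E a b w h => exists_splitting hF ⟨E, a, b, w, h⟩

end Groth.Agent.GaExt25
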