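import Groth.Agent.GaExt25.Zariski
import Groth.Agent.GaExt25.Split
import Mathlib.AlgebraicGeometry.Properties
import Mathlib.RingTheory.MvPolynomial.Basic
import Mathlib.RingTheory.Polynomial.Nilpotent

/-!
Extensions of the additive group by the multiplicative group over a reduced scheme with trivial invertible modules on
the affine line split.
-/

set_option autoImplicit false
universe u

open CategoryTheory CategoryTheory.Limits AlgebraicGeometry Opposite MonObj CartesianMonoidalCategory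
open Groth.Agent.Sga84 (sp spMap spMap_comp coA coA_injective coA_surjective coM coM_comp coM_surjective coM_isUnit)

noncomputable section

namespace Groth.Agent.GaExt25

variable {S : Scheme.{u}}

theorem gaFn_appj {R : Type u} [CommRing R] {j : Spec (CommRingCat.of R) ⟶ S} {A : Type u} [CommRing A]
    [Algebra R A] {Z : Over S} (m : Z ⟶ sp j A) (x : sp j A ⟶ Red.Ga S) :
    Red.gaFn (m ≫ x) = appj m (coA x) := by
  rw [RedPts82.gaFn_comp]
  exact congrArg (m.left.appTop ·) ((Scheme.ΓSpecIso (CommRingCat.of A)).commRingCatIsoToRingEquiv.symm_apply_apply _).symm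

theorem exists_ptj {R : Type u} [CommRing R] {j : Spec (CommRingCat.of R) ⟶ S} {A : Type u} [CommRing A]
    [Algebra R A] {Z : Over S} (m₀ : Z ⟶ sp j R) (φ : A →+* Γ(Z.left, ⊤))
    (hφ : ∀ r, φ (algebraMap R A r) = appj m₀ r) : ∃ m : Z ⟶ sp j A, appj m = φ := by
  let l : Z.left ⟶ Spec (CommRingCat.of A) := Z.left.toSpecΓ ≫ Spec.map (CommRingCat.ofHom φ)
  have hl : ∀ a, l.appTop ((Scheme.ΓSpecIso (CommRingCat.of A)).inv a) = φ a := by
    intro a
    have e : (Scheme.ΓSpecIso (CommRingCat.of A)).inv ≫ l.appTop = CommRingCat.ofHom φ := by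
      rw [Scheme.Hom.comp_appTop, ← Scheme.ΓSpecIso_inv_naturality_assoc, Scheme.toSpecΓ_appTop, Iso.inv_hom_id]
      exact Category.comp_id _
    exact congr($e a)
  have hlm : l ≫ Spec.map (CommRingCat.ofHom (algebraMap R A)) = m₀.left := by
    have : IsAffine (Spec (CommRingCat.of R)) := inferInstance
    refine @ext_of_isAffine _ _ this _ _ ?_
    ext z
    obtain ⟨r, rfl⟩ := (Scheme.ΓSpecIso (CommRingCat.of R)).commRingCatIsoToRingEquiv.symm.surjective z
    rw [Scheme.Hom.comp_appTop, ConcreteCategory.comp_apply]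
    refine (congrArg (fun q => l.appTop q)
      (congr($(Scheme.ΓSpecIso_inv_naturality (CommRingCat.ofHom (algebraMap R A))) r)).symm).trans ?_
    exact (hl _).trans (hφ r)
  refine ⟨Over.homMk l ?_, RingHom.ext hl⟩
  have halg : Spec.map (CommRingCat.ofHom (algebraMap R R)) = 𝟙 (Spec (CommRingCat.of R)) :=
    (congrArg Spec.map (rfl : CommRingCat.ofHom (algebraMap R R) = 𝟙 (CommRingCat.of R))).trans (Spec.map_id _)
  have hw := Over.w m₀
  show l ≫ Spec.map (CommRingCat.ofHom (algebraMap R A)) ≫ j = Z.hom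
  rw [← Category.assoc, hlm]
  show m₀.left ≫ j = Z.hom
  rw [← hw]
  show _ = m₀.left ≫ Spec.map (CommRingCat.ofHom (algebraMap R R)) ≫ j
  rw [halg]
  exact (congrArg (m₀.left ≫ ·) (Category.id_comp j)).symm

/-- A natural normalised function of two points of the additive group over a reduced scheme is trivial. -/
theorem biFun_eq_one [IsReduced S] (d : ∀ {T : Over S}, (T ⟶ Red.Ga S) → (T ⟶ Red.Ga S) → (T ⟶ Red.Gm S))
    (hnat : ∀ {T T' : Over S} (g : T' ⟶ T) (x y : T ⟶ Red.Ga S), g ≫ d x y = d (g ≫ x) (g ≫ y))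
    (h1 : ∀ (T : Over S), d (1 : T ⟶ Red.Ga S) 1 = 1)
    {T : Over S} (x y : T ⟶ Red.Ga S) : d x y = 1 := by
  refine hom_ext_of_locally fun t => ?_
  obtain ⟨V, hV, htV, -⟩ := exists_isAffineOpen_mem_and_subset (U := (⊤ : S.Opens)) (x := T.hom t) trivial
  refine ⟨T.hom ⁻¹ᵁ V, htV, ?_⟩
  let Z := opn T (T.hom ⁻¹ᵁ V)
  rw [hnat, MonObj.comp_one]
  generalize incO T (T.hom ⁻¹ᵁ V) ≫ x = a
  generalize incO T (T.hom ⁻¹ᵁ V) ≫ y = b
  let R := Γ(S, V)
  let j : Spec (CommRingCat.of R) ⟶ S := hV.fromSpec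
  have : IsReduced (V : Scheme.{u}) := isReduced_of_isOpenImmersion V.ι
  have hRred : _root_.IsReduced R := IsReduced.component_reduced V
  have halg : Spec.map (CommRingCat.ofHom (algebraMap R R)) = 𝟙 (Spec (CommRingCat.of R)) :=
    (congrArg Spec.map (rfl : CommRingCat.ofHom (algebraMap R R) = 𝟙 (CommRingCat.of R))).trans (Spec.map_id _)
  obtain ⟨m₀⟩ : Nonempty (Z ⟶ sp j R) := by
    have : IsOpenImmersion j := hV.isOpenImmersion_fromSpec
    have hr : Set.range Z.hom ⊆ Set.range j := by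
      rintro _ ⟨z, rfl⟩
      show _ ∈ Set.range hV.fromSpec
      rw [hV.range_fromSpec]
      exact z.2
    refine ⟨Over.homMk (IsOpenImmersion.lift j Z.hom hr) ?_⟩
    show _ ≫ Spec.map (CommRingCat.ofHom (algebraMap R R)) ≫ j = _
    rw [halg, Category.id_comp]
    exact IsOpenImmersion.lift_fac _ _ _
  obtain ⟨x₀, hx₀⟩ := coA_surjective (S := S)
    (k := Spec.map (CommRingCat.ofHom (algebraMap R (MvPolynomial (Fin 2) R))) ≫ j)
    (MvPolynomial.X 0 : MvPolynomial (Fin 2) R)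
  obtain ⟨x₁, hx₁⟩ := coA_surjective (S := S)
    (k := Spec.map (CommRingCat.ofHom (algebraMap R (MvPolynomial (Fin 2) R))) ≫ j)
    (MvPolynomial.X 1 : MvPolynomial (Fin 2) R)
  -- the universal value is a constant
  obtain ⟨r, hr⟩ : ∃ r : R, coM (d x₀ x₁) = MvPolynomial.C r := by
    obtain ⟨-, hnil⟩ := MvPolynomial.isUnit_iff.mp (coM_isUnit (d x₀ x₁))
    refine ⟨(coM (d x₀ x₁)).coeff 0, ?_⟩
    classical
    ext m
    rw [MvPolynomial.coeff_C]
    split_ifs with hm
    · rw [hm]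
    · exact (hnil m (Ne.symm hm)).eq_zero
  obtain ⟨m, hm⟩ := exists_ptj (A := MvPolynomial (Fin 2) R) m₀
    (MvPolynomial.eval₂Hom (appj m₀) ![Red.gaFn a, Red.gaFn b]) (fun r => MvPolynomial.eval₂_C _ _ _)
  have ha : m ≫ x₀ = a := RedPts82.gaFn_injective (by rw [gaFn_appj, hm, hx₀]; simp)
  have hb : m ≫ x₁ = b := RedPts82.gaFn_injective (by rw [gaFn_appj, hm, hx₁]; simp)
  obtain ⟨n, hn⟩ := exists_ptj (A := MvPolynomial (Fin 2) R) m₀
    (MvPolynomial.eval₂Hom (appj m₀) ![0, 0]) (fun r => MvPolynomial.eval₂_C _ _ _)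
  have ha' : n ≫ x₀ = 1 := RedPts82.gaFn_injective (by rw [gaFn_appj, hn, hx₀, RedPts82.gaFn_one]; simp)
  have hb' : n ≫ x₁ = 1 := RedPts82.gaFn_injective (by rw [gaFn_appj, hn, hx₁, RedPts82.gaFn_one]; simp)
  have e1 : Red.gmFn (d a b) = appj m₀ r := by
    rw [← ha, ← hb, ← hnat, gmFn_appj, hm, hr]
    exact MvPolynomial.eval₂_C _ _ _
  have e2 : Red.gmFn (d (1 : Z ⟶ Red.Ga S) 1) = appj m₀ r := by
    have e := hnat n x₀ x₁
    rw [ha', hb'] at e
    rw [← e, gmFn_appj, hn, hr]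
    exact MvPolynomial.eval₂_C _ _ _
  exact RedPts82.gmFn_injective (e1.trans (e2.symm.trans (congrArg Red.gmFn (h1 Z))))
where
  hom_ext_of_locally {T P : Over S} {f g : T ⟶ P}
      (h : ∀ t : T.left, ∃ (U : T.left.Opens) (_ : t ∈ U), incO T U ≫ f = incO T U ≫ g) : f = g := by
    choose U hU he using h
    apply Over.OverMorphism.ext
    refine (T.left.openCoverOfIsOpenCover U ?_).hom_ext _ _ fun t => congrArg CommaMorphism.left (he t)
    rw [TopologicalSpace.IsOpenCover, eq_top_iff]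
    exact fun t _ => TopologicalSpace.Opens.mem_iSup.2 ⟨t, hU t⟩

/-- Extensions of the additive by the multiplicative group split. -/
theorem exists_splitting_reduced [IsReduced S]
    (hPic : ∀ L : (Red.Ga S).left.Modules, PicF.IsInvertible L →
      Nonempty (L ≅ Coh.structureModule (Red.Ga S).left))
    (X : GmExt (CGrpSh.pts Scheme.fppfPrecoverage (Red.Ga S))) :
    ∃ σ : CGrpSh.pts Scheme.fppfPrecoverage (Red.Ga S) ⟶ X.E, σ ≫ X.b = 𝟙 _ := by
  obtain ⟨s, hs⟩ := X.exists_lift_of_pic_trivial (Red.Ga S) hPic (ULift.up (Additive.ofMul (𝟙 (Red.Ga S))))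
  let sec : ∀ {T : Over S}, (T ⟶ Red.Ga S) → X.E.obj.obj (op T) := fun {T} x =>
    X.E.obj.map x.op s - X.E.obj.map (1 : T ⟶ Red.Ga S).op s
  have sec_nat : ∀ {T T' : Over S} (g : T' ⟶ T) (x : T ⟶ Red.Ga S),
      X.E.obj.map g.op (sec x) = sec (g ≫ x) := by
    intro T T' g x
    show _ = X.E.obj.map (g ≫ x).op s - X.E.obj.map (1 : T' ⟶ Red.Ga S).op s
    rw [map_sub, map_map, map_map, MonObj.comp_one]
  have sec_proj : ∀ {T : Over S} (x : T ⟶ Red.Ga S), X.proj (sec x) = ULift.up (Additive.ofMul x) := by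
    intro T x
    rw [X.proj_sub, X.proj_map, X.proj_map, hs]
    apply ULift.ext
    show Additive.ofMul (x ≫ 𝟙 _) - Additive.ofMul ((1 : T ⟶ Red.Ga S) ≫ 𝟙 _) = _
    rw [Category.comp_id, Category.comp_id, ofMul_one]
    exact sub_zero (G := Additive (T ⟶ Red.Ga S)) _
  have hd : ∀ {T : Over S} (x y : T ⟶ Red.Ga S),
      ∃ t : T ⟶ Red.Gm S, X.incl t = sec (x * y) - sec x - sec y := fun {T} x y => X.exists_incl (by
    rw [X.proj_sub, X.proj_sub, sec_proj, sec_proj, sec_proj]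
    apply ULift.ext
    show Additive.ofMul (x * y) - Additive.ofMul x - Additive.ofMul y = 0
    rw [ofMul_mul]
    exact sub_eq_zero.2 (add_sub_cancel_left (G := Additive (T ⟶ Red.Ga S)) _ _))
  choose d hd using @hd
  have d_nat : ∀ {T T' : Over S} (g : T' ⟶ T) (x y : T ⟶ Red.Ga S),
      g ≫ d x y = d (g ≫ x) (g ≫ y) := fun g x y => X.incl_injective _ (by
    rw [← X.incl_comp, hd, hd, map_sub, map_sub, sec_nat, sec_nat, sec_nat, MonObj.comp_mul])
  have d_one : ∀ T : Over S, d (1 : T ⟶ Red.Ga S) 1 = 1 := fun T => X.incl_injective _ (by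
    rw [hd, show (1 : T ⟶ Red.Ga S) * 1 = 1 from _root_.mul_one (1 : T ⟶ Red.Ga S), X.incl_one,
      show sec (1 : T ⟶ Red.Ga S) = 0 from sub_self _, sub_self, sub_self])
  have sec_add : ∀ {T : Over S} (x y : T ⟶ Red.Ga S), sec (x * y) = sec x + sec y := by
    intro T x y
    have h := hd x y
    rw [biFun_eq_one @d @d_nat d_one x y, X.incl_one, sub_sub] at h
    exact sub_eq_zero.1 h.symm
  let σ : CGrpSh.pts Scheme.fppfPrecoverage (Red.Ga S) ⟶ X.E :=
    ⟨{ app := fun T => AddCommGrpCat.ofHom (AddMonoidHom.mk' (fun z => sec z.down.toMul)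
        fun z z' => sec_add z.down.toMul z'.down.toMul)
       naturality := fun T T' g => AddCommGrpCat.ext fun z => (sec_nat g.unop z.down.toMul).symm }⟩
  refine ⟨σ, Sheaf.hom_ext (NatTrans.ext (funext fun T => AddCommGrpCat.ext fun z => ?_))⟩
  show X.proj (sec z.down.toMul) = z
  rw [sec_proj]
  rfl

theorem ext_one_Ga_Gm_subsingleton_reduced [IsReduced S]
    (hPic : ∀ L : (Red.Ga S).left.Modules, PicF.IsInvertible L →
      Nonempty (L ≅ Coh.structureModule (Red.Ga S).left)) :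
    Subsingleton (CGrpSh.ExtS Scheme.fppfPrecoverage (Red.Ga S) (Red.Gm S) 1) :=
  ext_one_subsingleton_of_split fun E a b w h => exists_splitting_reduced hPic ⟨E, a, b, w, h⟩

end Groth.Agent.GaExt25
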