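import Groth.Agent.GaExt25.LiftAlong
import Groth.Agent.GaExt25.HomCalc
import Groth.Agent.GaExt25.Reduced
import Groth.Prelude.Def_CGrpSh2

/-!
Homomorphisms out of the additive group lift along extensions by the multiplicative group after an fppf base change,
in characteristic `p`.
-/

set_option autoImplicit false
universe u

open CategoryTheory CategoryTheory.Limits AlgebraicGeometry Opposite MonObj
open Groth.Agent.Sga84 (sp spMap coA coA_injective coA_surjective coM coM_comp coM_surjective coM_isUnit)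

noncomputable section

namespace Groth.Agent.GaExt25

variable {S : Scheme.{u}}

theorem ptj_ext {R : Type u} [CommRing R] {j : Spec (CommRingCat.of R) ⟶ S} {A : Type u} [CommRing A] [Algebra R A]
    {Z : Over S} {m m' : Z ⟶ sp j A} (h : appj m = appj m') : m = m' := by
  apply Over.OverMorphism.ext
  have : IsAffine (Spec (CommRingCat.of A)) := inferInstance
  refine @ext_of_isAffine _ _ this _ _ ?_
  ext z
  obtain ⟨a, rfl⟩ := (Scheme.ΓSpecIso (CommRingCat.of A)).commRingCatIsoToRingEquiv.symm.surjective z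
  exact congr($h a)

theorem appj_nat {R : Type u} [CommRing R] {j : Spec (CommRingCat.of R) ⟶ S} {A : Type u} [CommRing A]
    [Algebra R A] {Z Z' : Over S} (g : Z' ⟶ Z) (m : Z ⟶ sp j A) :
    appj (g ≫ m) = g.left.appTop.hom.comp (appj m) := rfl

/-- The base map of a change of base ring. -/
def baseTo {A A' : Type u} [CommRing A] [CommRing A'] [Algebra A A'] (j : Spec (CommRingCat.of A) ⟶ S) :
    sp (relBase j A') A' ⟶ sp j A :=
  selfOver j A' ≫ GmExt.toBase j A'

theorem baseTo_left {A A' : Type u} [CommRing A] [CommRing A'] [Algebra A A'] (j : Spec (CommRingCat.of A) ⟶ S) :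
    (baseTo (A' := A') j).left = Spec.map (CommRingCat.ofHom (algebraMap A A')) := by
  show 𝟙 (Spec (CommRingCat.of A')) ≫ Spec.map (CommRingCat.ofHom (Algebra.ofId A A').toRingHom) = _
  rw [Category.id_comp]
  rfl

theorem isRootExt_props {A A' : Type u} [CommRing A] [CommRing A'] [Algebra A A'] (h : IsRootExt A A')
    (j : Spec (CommRingCat.of A) ⟶ S) :
    Flat (baseTo (A' := A') j).left ∧ LocallyOfFinitePresentation (baseTo (A' := A') j).left ∧
      Surjective (baseTo (A' := A') j).left := by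
  rw [baseTo_left]
  have hff : (algebraMap A A').FaithfullyFlat := RingHom.faithfullyFlat_algebraMap_iff.2 h.ff
  obtain ⟨hfl, hsj⟩ := (flat_and_surjective_SpecMap_iff (CommRingCat.ofHom (algebraMap A A'))).2 hff
  refine ⟨hfl, ?_, hsj⟩
  rw [HasRingHomProperty.Spec_iff (P := @LocallyOfFinitePresentation)]
  exact RingHom.finitePresentation_algebraMap.2 h.fp

/-- Move of an algebra over the new base. -/
def rebase {A A' D : Type u} [CommRing A] [CommRing A'] [Algebra A A'] [CommRing D] [Algebra A' D] [Algebra A D]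
    [IsScalarTower A A' D] (j : Spec (CommRingCat.of A) ⟶ S) : sp (relBase j A') D ⟶ sp j D :=
  Over.homMk (show (sp (relBase j A') D).left ⟶ (sp j D).left from 𝟙 (Spec (CommRingCat.of D))) (by
    show 𝟙 (Spec (CommRingCat.of D)) ≫ Spec.map (CommRingCat.ofHom (algebraMap A D)) ≫ j =
      Spec.map (CommRingCat.ofHom (algebraMap A' D)) ≫ Spec.map (CommRingCat.ofHom (algebraMap A A')) ≫ j
    rw [Category.id_comp, ← Category.assoc (Spec.map (CommRingCat.ofHom (algebraMap A' D))), ← Spec.map_comp,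
      ← CommRingCat.ofHom_comp, ← IsScalarTower.algebraMap_eq])

theorem rebase_comp {A A' : Type u} [CommRing A] [CommRing A'] [Algebra A A']
    (j : Spec (CommRingCat.of A) ⟶ S) :
    (rebase (A' := A') (D := Polynomial A') j ≫ spMap j (polMap (A := A) (A' := A'))) ≫
        spMap j (Algebra.ofId A (Polynomial A)) =
      spMap (relBase j A') (Algebra.ofId A' (Polynomial A')) ≫ baseTo j := by
  apply Over.OverMorphism.ext
  show (𝟙 (Spec (CommRingCat.of (Polynomial A'))) ≫ Spec.map (CommRingCat.ofHom (polMap (A := A) (A' := A')).toRingHom)) ≫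
      Spec.map (CommRingCat.ofHom (Algebra.ofId A (Polynomial A)).toRingHom) =
    Spec.map (CommRingCat.ofHom (Algebra.ofId A' (Polynomial A')).toRingHom) ≫ (baseTo (A' := A') j).left
  rw [baseTo_left, Category.id_comp, ← Spec.map_comp, ← Spec.map_comp]
  congr 1
  apply CommRingCat.hom_ext
  exact RingHom.ext fun a => Polynomial.map_C (algebraMap A A')

variable {Q : BigSite.Ab Scheme.fppfPrecoverage S}

/-- The class of a point of the additive group. -/
abbrev gaEl {U : Over S} (x : U ⟶ Red.Ga S) : (CGrpSh2.Ga Scheme.fppfPrecoverage S).obj.obj (op U) :=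
  ULift.up (Additive.ofMul x)

theorem gaEl_mul {U : Over S} (x y : U ⟶ Red.Ga S) : gaEl (x * y) = gaEl x + gaEl y := rfl

theorem gaEl_one {U : Over S} : gaEl (1 : U ⟶ Red.Ga S) = 0 := rfl

theorem exists_hom_lift_along {p : ℕ} [hp : Fact p.Prime] {A : Type u} [CommRing A] (hA : (p : A) = 0)
    (j : Spec (CommRingCat.of A) ⟶ S) (X : GmExt Q)
    (φ : (CGrpSh2.Ga Scheme.fppfPrecoverage S).over (sp j A) ⟶ Q.over (sp j A)) :
    ∃ (T' : Over S) (q : T' ⟶ sp j A), Flat q.left ∧ LocallyOfFinitePresentation q.left ∧ Surjective q.left ∧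
      ∃ ψ : (CGrpSh2.Ga Scheme.fppfPrecoverage S).over T' ⟶ X.E.over T',
        ∀ (U : Over S) (f : U ⟶ T') (x : (CGrpSh2.Ga Scheme.fppfPrecoverage S).obj.obj (op U)),
          X.proj (comp' ψ f x) = comp' φ (f ≫ q) x := by
  classical
  obtain ⟨tX, htX⟩ := coA_surjective (S := S)
    (k := Spec.map (CommRingCat.ofHom (algebraMap A (Polynomial A))) ≫ j) (Polynomial.X : Polynomial A)
  obtain ⟨A₁, _, _, hA₁, e₀, he₀⟩ := X.exists_lift_along (p := p) hA j
    (comp' φ (spMap j (Algebra.ofId A (Polynomial A))) (gaEl tX)) (by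
    rw [← map_nsmul]
    have : p • gaEl tX = 0 := by
      apply ULift.ext
      show Additive.ofMul (tX ^ p) = Additive.ofMul (1 : _ ⟶ Red.Ga S)
      congr 1
      apply coA_injective
      rw [coA, coA, RedPts82.gaFn_one, map_zero]
      have : ∀ (n : ℕ), Red.gaFn (tX ^ n) = n * Red.gaFn tX := by
        intro n
        induction n with
        | zero => rw [pow_zero, RedPts82.gaFn_one, Nat.cast_zero, zero_mul]
        | succ n ih => rw [pow_succ, RedPts82.gaFn_mul, ih, Nat.cast_succ, add_one_mul]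
      rw [this, map_mul, map_natCast, ← map_natCast (algebraMap A (Polynomial A)), hA, map_zero, zero_mul]
    rw [this, map_zero])
  let j₁ : Spec (CommRingCat.of A₁) ⟶ S := relBase j A₁
  let π : sp j₁ (Polynomial A₁) ⟶ sp j (Polynomial A) :=
    rebase (A' := A₁) (D := Polynomial A₁) j ≫ spMap j (polMap (A := A) (A' := A₁))
  obtain ⟨s₁, hs₁⟩ : ∃ s : X.E.obj.obj (op (sp j₁ (Polynomial A₁))),
      X.proj s = Q.obj.map π.op (comp' φ (spMap j (Algebra.ofId A (Polynomial A))) (gaEl tX)) :=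
    ⟨X.E.obj.map (rebase (A' := A₁) (D := Polynomial A₁) j).op e₀, by rw [X.proj_map, he₀, map_map]⟩
  let q₁ : sp j₁ A₁ ⟶ sp j A := baseTo j
  let t₁ : sp j₁ (Polynomial A₁) ⟶ Red.Ga S := π ≫ tX
  have ht₁ : coA t₁ = Polynomial.X := by
    have hl : π.left = Spec.map (CommRingCat.ofHom (polMap (A := A) (A' := A₁)).toRingHom) := by
      show 𝟙 (Spec (CommRingCat.of (Polynomial A₁))) ≫ _ = _
      rw [Category.id_comp]
      rfl
    show coA (π ≫ tX) = _
    rw [Sga84.coA_comp π _ hl, htX]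
    exact Polynomial.map_X _
  -- classifying maps
  have hex : ∀ {U : Over S} (f : U ⟶ sp j₁ A₁) (x : U ⟶ Red.Ga S),
      ∃ m : U ⟶ sp j₁ (Polynomial A₁), m ≫ spMap j₁ (Algebra.ofId A₁ (Polynomial A₁)) = f ∧ m ≫ t₁ = x := by
    intro U f x
    obtain ⟨m, hm⟩ := exists_ptj (A := Polynomial A₁) f (Polynomial.eval₂RingHom (appj f) (Red.gaFn x))
      (fun r => Polynomial.eval₂_C _ _)
    refine ⟨m, ptj_ext (RingHom.ext fun r => ?_), RedPts82.gaFn_injective ?_⟩
    · rw [appj_spMap, hm]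
      exact Polynomial.eval₂_C _ _
    · rw [gaFn_appj, hm, ht₁]
      exact Polynomial.eval₂_X _ _
  have huniq : ∀ {U : Over S} (m m' : U ⟶ sp j₁ (Polynomial A₁)),
      m ≫ spMap j₁ (Algebra.ofId A₁ (Polynomial A₁)) = m' ≫ spMap j₁ (Algebra.ofId A₁ (Polynomial A₁)) →
      m ≫ t₁ = m' ≫ t₁ → m = m' := by
    intro U m m' h1 h2
    refine ptj_ext (Polynomial.ringHom_ext (fun r => ?_) ?_)
    · have := congr($(congrArg appj h1) r)
      rwa [appj_spMap, appj_spMap] at this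
    · have := congrArg Red.gaFn h2
      rwa [gaFn_appj, gaFn_appj, ht₁] at this
  choose cl hcl₁ hcl₂ using @hex
  have hcl' : ∀ {U U' : Over S} (g : U' ⟶ U) (f : U ⟶ sp j₁ A₁) (x : U ⟶ Red.Ga S),
      cl (g ≫ f) (g ≫ x) = g ≫ cl f x := fun g f x =>
    huniq _ _ (by rw [hcl₁, Category.assoc, hcl₁]) (by rw [hcl₂, Category.assoc, hcl₂])
  let sec : ∀ {U : Over S}, (U ⟶ sp j₁ A₁) → (U ⟶ Red.Ga S) → X.E.obj.obj (op U) := fun {U} f x =>
    X.E.obj.map (cl f x).op s₁ - X.E.obj.map (cl f (1 : U ⟶ Red.Ga S)).op s₁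
  have sec_nat : ∀ {U U' : Over S} (g : U' ⟶ U) (f : U ⟶ sp j₁ A₁) (x : U ⟶ Red.Ga S),
      X.E.obj.map g.op (sec f x) = sec (g ≫ f) (g ≫ x) := by
    intro U U' g f x
    show _ = X.E.obj.map (cl (g ≫ f) (g ≫ x)).op s₁ - X.E.obj.map (cl (g ≫ f) (1 : U' ⟶ Red.Ga S)).op s₁
    have e := hcl' g f (1 : U ⟶ Red.Ga S)
    rw [MonObj.comp_one] at e
    rw [map_sub, map_map, map_map, hcl', e]
  have hbase : π ≫ spMap j (Algebra.ofId A (Polynomial A)) =
      spMap j₁ (Algebra.ofId A₁ (Polynomial A₁)) ≫ q₁ := rebase_comp j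
  have hproj : ∀ {U : Over S} (f : U ⟶ sp j₁ A₁) (x : U ⟶ Red.Ga S),
      X.proj (X.E.obj.map (cl f x).op s₁) = comp' φ (f ≫ q₁) (gaEl x) := by
    intro U f x
    rw [X.proj_map, hs₁, map_map, comp'_natural, Category.assoc, hbase, ← Category.assoc, hcl₁]
    congr 1
    apply ULift.ext
    show Additive.ofMul ((cl f x ≫ π) ≫ tX) = Additive.ofMul x
    rw [Category.assoc, hcl₂]
  have sec_proj : ∀ {U : Over S} (f : U ⟶ sp j₁ A₁) (x : U ⟶ Red.Ga S),
      X.proj (sec f x) = comp' φ (f ≫ q₁) (gaEl x) := by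
    intro U f x
    rw [X.proj_sub, hproj, hproj, gaEl_one, map_zero, sub_zero]
  have sec_one : ∀ {U : Over S} (f : U ⟶ sp j₁ A₁), sec f (1 : U ⟶ Red.Ga S) = 0 := fun f => sub_self _
  have hd : ∀ {U : Over S} (f : U ⟶ sp j₁ A₁) (x y : U ⟶ Red.Ga S),
      ∃ t : U ⟶ Red.Gm S, X.incl t = sec f (x * y) - sec f x - sec f y := fun {U} f x y => X.exists_incl (by
    rw [X.proj_sub, X.proj_sub, sec_proj, sec_proj, sec_proj, gaEl_mul, map_add]
    abel)
  choose d hd using @hd
  have d_nat : ∀ {U U' : Over S} (g : U' ⟶ U) (f : U ⟶ sp j₁ A₁) (x y : U ⟶ Red.Ga S),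
      g ≫ d f x y = d (g ≫ f) (g ≫ x) (g ≫ y) := fun g f x y => X.incl_injective _ (by
    rw [← X.incl_comp, hd, hd, map_sub, map_sub, sec_nat, sec_nat, sec_nat, MonObj.comp_mul])
  have d_one : ∀ {U : Over S} (f : U ⟶ sp j₁ A₁) (x : U ⟶ Red.Ga S), d f x 1 = 1 := fun f x =>
    X.incl_injective _ (by
      rw [hd, show x * 1 = x from _root_.mul_one x, sec_one, sub_self, sub_zero, X.incl_one])
  have d_comm : ∀ {U : Over S} (f : U ⟶ sp j₁ A₁) (x y : U ⟶ Red.Ga S), d f x y = d f y x := fun f x y =>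
    X.incl_injective _ (by rw [hd, hd, show x * y = y * x from RedPts82.ga_comm x y]; abel)
  have d_coc : ∀ {U : Over S} (f : U ⟶ sp j₁ A₁) (a b c : U ⟶ Red.Ga S),
      d f b c * d f a (b * c) = d f (a * b) c * d f a b := fun f a b c => X.incl_injective _ (by
    rw [X.incl_mul, X.incl_mul, hd, hd, hd, hd, show a * b * c = a * (b * c) from _root_.mul_assoc a b c]; abel)
  obtain ⟨x₀, hx₀⟩ := coA_surjective (S := S)
    (k := Spec.map (CommRingCat.ofHom (algebraMap A₁ (MvPolynomial (Fin 2) A₁))) ≫ j₁)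
    (MvPolynomial.X 0 : MvPolynomial (Fin 2) A₁)
  obtain ⟨x₁, hx₁⟩ := coA_surjective (S := S)
    (k := Spec.map (CommRingCat.ofHom (algebraMap A₁ (MvPolynomial (Fin 2) A₁))) ≫ j₁)
    (MvPolynomial.X 1 : MvPolynomial (Fin 2) A₁)
  let H : MvPolynomial (Fin 2) A₁ := coM (d (spMap j₁ (Algebra.ofId A₁ (MvPolynomial (Fin 2) A₁))) x₀ x₁)
  have hH : ∀ {U : Over S} (f : U ⟶ sp j₁ A₁) (x y : U ⟶ Red.Ga S),
      Red.gmFn (d f x y) = MvPolynomial.eval₂ (appj f) ![Red.gaFn x, Red.gaFn y] H := by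
    intro U f x y
    obtain ⟨m, hm⟩ := exists_ptj (A := MvPolynomial (Fin 2) A₁) f
      (MvPolynomial.eval₂Hom (appj f) ![Red.gaFn x, Red.gaFn y]) (fun r => MvPolynomial.eval₂_C _ _ _)
    have h0 : m ≫ spMap j₁ (Algebra.ofId A₁ (MvPolynomial (Fin 2) A₁)) = f := ptj_ext (RingHom.ext fun r => by
      rw [appj_spMap, hm]
      exact MvPolynomial.eval₂_C _ _ _)
    have h1 : m ≫ x₀ = x := RedPts82.gaFn_injective (by rw [gaFn_appj, hm, hx₀]; simp)
    have h2 : m ≫ x₁ = y := RedPts82.gaFn_injective (by rw [gaFn_appj, hm, hx₁]; simp)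
    rw [← h0, ← h1, ← h2, ← d_nat, gmFn_appj, hm, h0, h1, h2]
    rfl
  have hHc : ∀ {D : Type u} [CommRing D] [Algebra A₁ D] (x y : sp j₁ D ⟶ Red.Ga S),
      coM (d (spMap j₁ (Algebra.ofId A₁ D)) x y) = MvPolynomial.aeval ![coA x, coA y] H := by
    intro D _ _ x y
    rw [coM, hH, MvPolynomial.aeval_def, ← RingHom.coe_coe, MvPolynomial.eval₂_comp_left]
    congr 1
    · refine RingHom.ext fun r => ?_
      show (Scheme.ΓSpecIso (CommRingCat.of D)).hom _ = _
      have e : appj (spMap j₁ (Algebra.ofId A₁ D)) r = (Scheme.ΓSpecIso (CommRingCat.of D)).inv (algebraMap A₁ D r) := by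
        have := appj_spMap (𝟙 (sp j₁ D)) (Algebra.ofId A₁ D) r
        rw [Category.id_comp] at this
        rw [this]
        show (𝟙 (Spec (CommRingCat.of D)) : _ ⟶ _).appTop _ = _
        simp
      rw [e]
      exact (Scheme.ΓSpecIso (CommRingCat.of D)).commRingCatIsoToRingEquiv.apply_symm_apply _
    · funext i
      fin_cases i <;> rfl
  have hcoc : GaSplit95.IsMulCocycle H := by
    refine ⟨coM_isUnit _, ?_, ?_, ?_⟩
    · have := congrArg coM (d_one (spMap j₁ (Algebra.ofId A₁ (MvPolynomial (Fin 2) A₁))) x₀)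
      have c0 : coA (1 : sp j₁ (MvPolynomial (Fin 2) A₁) ⟶ Red.Ga S) = 0 := by
        rw [coA, RedPts82.gaFn_one, map_zero]
      have c1 : coM (1 : sp j₁ (MvPolynomial (Fin 2) A₁) ⟶ Red.Gm S) = 1 := by
        rw [coM, RedPts82.gmFn_one, map_one]
      rw [hHc, hx₀, c0, c1] at this
      exact this
    · have := congrArg coM (d_comm (spMap j₁ (Algebra.ofId A₁ (MvPolynomial (Fin 2) A₁))) x₁ x₀)
      rw [hHc, hHc, hx₀, hx₁] at this
      rw [this, show ![(MvPolynomial.X 0 : MvPolynomial (Fin 2) A₁), MvPolynomial.X 1] = MvPolynomial.X by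
        funext i; fin_cases i <;> rfl, MvPolynomial.aeval_X_left, AlgHom.id_apply]
    · obtain ⟨a, ha⟩ := coA_surjective (S := S)
        (k := Spec.map (CommRingCat.ofHom (algebraMap A₁ (MvPolynomial (Fin 3) A₁))) ≫ j₁)
        (MvPolynomial.X 0 : MvPolynomial (Fin 3) A₁)
      obtain ⟨b, hb⟩ := coA_surjective (S := S)
        (k := Spec.map (CommRingCat.ofHom (algebraMap A₁ (MvPolynomial (Fin 3) A₁))) ≫ j₁)
        (MvPolynomial.X 1 : MvPolynomial (Fin 3) A₁)
      obtain ⟨c, hc⟩ := coA_surjective (S := S)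
        (k := Spec.map (CommRingCat.ofHom (algebraMap A₁ (MvPolynomial (Fin 3) A₁))) ≫ j₁)
        (MvPolynomial.X 2 : MvPolynomial (Fin 3) A₁)
      have := congrArg coM (d_coc (spMap j₁ (Algebra.ofId A₁ (MvPolynomial (Fin 3) A₁))) a b c)
      rw [Sga84.coM_mul, Sga84.coM_mul, hHc, hHc, hHc, hHc, Sga84.coA_mul, Sga84.coA_mul, ha, hb, hc] at this
      exact this
  have hA₁p : (p : A₁) = 0 := natCast_zero_of p hA
  obtain ⟨A₂, _, _, hA₂, F, hFu, hF⟩ := exists_splitting_along p hA₁p H hcoc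
  let j₂ : Spec (CommRingCat.of A₂) ⟶ S := relBase j₁ A₂
  let q₂ : sp j₂ A₂ ⟶ sp j₁ A₁ := baseTo j₁
  have hq₂ : ∀ {U : Over S} (f : U ⟶ sp j₂ A₂) (r : A₁), appj (f ≫ q₂) r = appj f (algebraMap A₁ A₂ r) :=
    fun f r => appj_comp_of_left f q₂ _ (baseTo_left j₁) r
  have htf : ∀ {U : Over S} (f : U ⟶ sp j₂ A₂) (x : U ⟶ Red.Ga S),
      ∃ t : U ⟶ Red.Gm S, Red.gmFn t = Polynomial.eval₂ (appj f) (Red.gaFn x) F := fun f x =>
    RedPts82.gmFn_surjective (hFu.map (Polynomial.eval₂RingHom (appj f) (Red.gaFn x)))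
  choose tf htf using @htf
  let σ : ∀ {U : Over S}, (U ⟶ sp j₂ A₂) → (U ⟶ Red.Ga S) → X.E.obj.obj (op U) := fun {U} f x =>
    sec (f ≫ q₂) x - X.incl (tf f x)
  have tf_nat : ∀ {U U' : Over S} (g : U' ⟶ U) (f : U ⟶ sp j₂ A₂) (x : U ⟶ Red.Ga S),
      g ≫ tf f x = tf (g ≫ f) (g ≫ x) := fun g f x => RedPts82.gmFn_injective (by
    rw [RedPts82.gmFn_comp, htf, htf, RedPts82.gaFn_comp, appj_nat]
    exact Polynomial.hom_eval₂ _ _ _ _)
  have σ_nat : ∀ {U U' : Over S} (g : U' ⟶ U) (f : U ⟶ sp j₂ A₂) (x : U ⟶ Red.Ga S),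
      X.E.obj.map g.op (σ f x) = σ (g ≫ f) (g ≫ x) := by
    intro U U' g f x
    show _ = sec ((g ≫ f) ≫ q₂) (g ≫ x) - X.incl (tf (g ≫ f) (g ≫ x))
    rw [map_sub, sec_nat, X.incl_comp, tf_nat, Category.assoc]
  have σ_add : ∀ {U : Over S} (f : U ⟶ sp j₂ A₂) (x y : U ⟶ Red.Ga S), σ f (x * y) = σ f x + σ f y := by
    intro U f x y
    have key : tf f (x * y) = tf f x * tf f y * d (f ≫ q₂) x y := by
      apply RedPts82.gmFn_injective
      rw [RedPts82.gmFn_mul, RedPts82.gmFn_mul, htf, htf, htf, hH, RedPts82.gaFn_mul]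
      let Ev : MvPolynomial (Fin 2) A₂ →+* Γ(U.left, ⊤) :=
        MvPolynomial.eval₂Hom (appj f) ![Red.gaFn x, Red.gaFn y]
      have hev : ∀ (v : MvPolynomial (Fin 2) A₂),
          Ev (Polynomial.aeval v F) = Polynomial.eval₂ (appj f) (Ev v) F := by
        intro v
        rw [Polynomial.aeval_def, Polynomial.hom_eval₂]
        congr 1
        exact RingHom.ext fun r => MvPolynomial.eval₂_C _ _ _
      have hmap : Ev (MvPolynomial.map (algebraMap A₁ A₂) H) =
          MvPolynomial.eval₂ (appj (f ≫ q₂)) ![Red.gaFn x, Red.gaFn y] H := by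
        show MvPolynomial.eval₂ (appj f) _ (MvPolynomial.map (algebraMap A₁ A₂) H) = _
        rw [MvPolynomial.eval₂_map]
        congr 1
        exact RingHom.ext fun r => (hq₂ f r).symm
      have := congrArg Ev hF
      rw [map_mul, map_mul, hev, hev, hev, hmap, map_add] at this
      simpa [Ev] using this
    show sec (f ≫ q₂) (x * y) - X.incl (tf f (x * y)) =
      (sec (f ≫ q₂) x - X.incl (tf f x)) + (sec (f ≫ q₂) y - X.incl (tf f y))
    rw [key, X.incl_mul, X.incl_mul, hd]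
    abel
  obtain ⟨hfl₁, hfp₁, hsj₁⟩ := isRootExt_props hA₁ j
  obtain ⟨hfl₂, hfp₂, hsj₂⟩ := isRootExt_props hA₂ j₁
  refine ⟨sp j₂ A₂, q₂ ≫ q₁, ?_, ?_, ?_,
    mkComp (fun U f => AddMonoidHom.mk' (fun z => σ f z.down.toMul) fun z z' => σ_add f z.down.toMul z'.down.toMul)
      (fun U V g f z => σ_nat g f z.down.toMul), ?_⟩
  · exact MorphismProperty.comp_mem (W := @Flat) _ _ hfl₂ hfl₁
  · exact MorphismProperty.comp_mem (W := @LocallyOfFinitePresentation) _ _ hfp₂ hfp₁
  · exact MorphismProperty.comp_mem (W := @Surjective) _ _ hsj₂ hsj₁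
  intro U f z
  show X.proj (sec (f ≫ q₂) z.down.toMul - X.incl (tf f z.down.toMul)) = _
  rw [X.proj_sub, X.proj_incl, sub_zero, sec_proj, Category.assoc]
  rfl

end Groth.Agent.GaExt25
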