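import Groth.Agent.GaExt25.TruncExp
import Groth.Agent.GaExt25.HomLiftAlong
import Groth.Agent.GaD36.Chars

/-!
The basic characters `exp_p(a X^(p^n))` of the additive group as sections of the dual sheaf, and the decomposition of
every character over an affine base.
-/

set_option autoImplicit false
universe u

open CategoryTheory CategoryTheory.Limits AlgebraicGeometry Opposite MonObj
open Groth.Agent.Sga84 (sp spMap coA coA_injective coA_surjective coM)

noncomputable section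

namespace Groth.Agent.GaExt25

variable {p : ℕ} [hp : Fact p.Prime] {S : Scheme.{u}}

/-- The dual of the additive group. -/
abbrev DGa (S : Scheme.{u}) : BigSite.Ab Scheme.fppfPrecoverage S :=
  CGrpSh2.dualSh Scheme.fppfPrecoverage (CGrpSh2.Ga Scheme.fppfPrecoverage S)

/-- A character over `U`. -/
abbrev Chr (U : Over S) : Type (u + 1) :=
  (CGrpSh2.Ga Scheme.fppfPrecoverage S).over U ⟶ (CGrpSh2.Gm Scheme.fppfPrecoverage S).over U

variable {U V : Over S}

/-- The value of a character at a point, as a function. -/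
def gv (ψ : Chr U) (g : V ⟶ U) (x : V ⟶ Red.Ga S) : Γ(V.left, ⊤) :=
  Red.gmFn (comp' ψ g (gaEl x)).down.toMul

theorem dual_ext {ψ ψ' : Chr U} (h : ∀ (V : Over S) (g : V ⟶ U) (x : V ⟶ Red.Ga S), gv ψ g x = gv ψ' g x) :
    ψ = ψ' :=
  comp'_ext fun V g z => ULift.ext _ _ (congrArg Additive.ofMul (RedPts82.gmFn_injective (h V g z.down.toMul)))

theorem gv_add (ψ ψ' : Chr U) (g : V ⟶ U) (x : V ⟶ Red.Ga S) : gv (ψ + ψ') g x = gv ψ g x * gv ψ' g x :=
  RedPts82.gmFn_mul (comp' ψ g (gaEl x)).down.toMul (comp' ψ' g (gaEl x)).down.toMul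

theorem gv_zero (g : V ⟶ U) (x : V ⟶ Red.Ga S) : gv (0 : Chr U) g x = 1 := RedPts82.gmFn_one

theorem gv_nat (ψ : Chr U) {W : Over S} (h : W ⟶ V) (g : V ⟶ U) (x : V ⟶ Red.Ga S) :
    h.left.appTop (gv ψ g x) = gv ψ (h ≫ g) (h ≫ x) := by
  rw [gv, ← RedPts82.gmFn_comp]
  exact congrArg (fun z : (CGrpSh2.Gm Scheme.fppfPrecoverage S).obj.obj (op W) => Red.gmFn z.down.toMul)
    (comp'_natural ψ h g (gaEl x))

theorem gv_mul (ψ : Chr U) (g : V ⟶ U) (x y : V ⟶ Red.Ga S) : gv ψ g (x * y) = gv ψ g x * gv ψ g y := by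
  rw [gv, gaEl_mul, map_add]
  exact RedPts82.gmFn_mul (comp' ψ g (gaEl x)).down.toMul (comp' ψ g (gaEl y)).down.toMul

theorem gv_one (ψ : Chr U) (g : V ⟶ U) : gv ψ g 1 = 1 := by
  rw [gv, gaEl_one, map_zero]
  exact RedPts82.gmFn_one

theorem gv_map {U' : Over S} (h : U' ⟶ U) (ψ : Chr U) {W : Over S} (g : W ⟶ U') (x : W ⟶ Red.Ga S) :
    gv (U := U') ((DGa S).obj.map h.op (homSect ψ)) g x = gv ψ (g ≫ h) x := rfl

theorem gv_sum {I : Type*} (s : Finset I) (ψ : I → Chr U) (g : V ⟶ U) (x : V ⟶ Red.Ga S) :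
    gv (∑ i ∈ s, ψ i) g x = ∏ i ∈ s, gv (ψ i) g x := by
  classical
  induction s using Finset.induction with
  | empty => rw [Finset.sum_empty, Finset.prod_empty, gv_zero]
  | insert i s hi ih => rw [Finset.sum_insert hi, Finset.prod_insert hi, gv_add, ih]

theorem natCast_zero_left (hU : (p : Γ(U.left, ⊤)) = 0) (g : V ⟶ U) : (p : Γ(V.left, ⊤)) = 0 := by
  rw [← map_natCast g.left.appTop.hom, hU, map_zero]

theorem add_pow_q {R : Type*} [CommRing R] (hR : (p : R) = 0) (a b : R) (n : ℕ) :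
    (a + b) ^ p ^ n = a ^ p ^ n + b ^ p ^ n := by
  obtain ⟨r, hr⟩ := exists_add_pow_prime_pow_eq hp.out a b n
  rw [hr, hR, zero_mul, zero_mul, zero_mul, add_zero]

theorem exists_chiPt (hU : (p : Γ(U.left, ⊤)) = 0) {a : Γ(U.left, ⊤)} (ha : a ^ p = 0) (n : ℕ) (g : V ⟶ U)
    (x : V ⟶ Red.Ga S) :
    ∃ t : V ⟶ Red.Gm S, Red.gmFn t = exi p (g.left.appTop a * Red.gaFn x ^ p ^ n) :=
  RedPts82.gmFn_surjective (isUnit_exi (natCast_zero_left hU g) ⟨p, by rw [mul_pow, ← map_pow, ha, map_zero, zero_mul]⟩)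

/-- The character `exp_p(a X^(p^n))`. -/
def chi (hU : (p : Γ(U.left, ⊤)) = 0) (n : ℕ) (a : Γ(U.left, ⊤)) (ha : a ^ p = 0) : Chr U :=
  mkComp (fun _ g => AddMonoidHom.mk' (fun z => ULift.up (Additive.ofMul (exists_chiPt hU ha n g z.down.toMul).choose))
    fun z z' => ULift.ext _ _ (congrArg Additive.ofMul (RedPts82.gmFn_injective
      ((exists_chiPt hU ha n g (z.down.toMul * z'.down.toMul)).choose_spec.trans (by
        refine Eq.trans ?_ (RedPts82.gmFn_mul _ _).symm
        refine Eq.trans ?_ (congrArg₂ (· * ·) (exists_chiPt hU ha n g z.down.toMul).choose_spec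
          (exists_chiPt hU ha n g z'.down.toMul).choose_spec).symm
        rw [RedPts82.gaFn_mul, add_pow_q (natCast_zero_left hU g), mul_add]
        refine (exi_mul_of_zero (natCast_zero_left hU g) _ _ fun i j hij => ?_).symm
        obtain ⟨r, hr⟩ := Nat.le.dest hij
        have h0 : g.left.appTop a ^ (i + j) = 0 := by rw [← hr, pow_add, ← map_pow, ha, map_zero, zero_mul]
        rw [mul_pow, mul_pow, _root_.mul_mul_mul_comm, ← pow_add, h0, zero_mul])))))
    fun _ _ h g z => ULift.ext _ _ (congrArg Additive.ofMul (RedPts82.gmFn_injective (by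
      refine (RedPts82.gmFn_comp h _).trans ?_
      refine ((congrArg h.left.appTop.hom (exists_chiPt hU ha n g z.down.toMul).choose_spec).trans ?_).trans
        (exists_chiPt hU ha n (h ≫ g) (h ≫ z.down.toMul)).choose_spec.symm
      rw [map_exi (natCast_zero_left hU g), map_mul, map_pow, RedPts82.gaFn_comp]
      rfl)))

theorem gv_chi (hU : (p : Γ(U.left, ⊤)) = 0) (n : ℕ) (a : Γ(U.left, ⊤)) (ha : a ^ p = 0) (g : V ⟶ U)
    (x : V ⟶ Red.Ga S) : gv (chi hU n a ha) g x = exi p (g.left.appTop a * Red.gaFn x ^ p ^ n) :=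
  (exists_chiPt hU ha n g x).choose_spec

theorem chi_zero (hU : (p : Γ(U.left, ⊤)) = 0) (n : ℕ) (h : (0 : Γ(U.left, ⊤)) ^ p = 0) :
    chi hU n 0 h = 0 :=
  dual_ext fun W g x => by
    rw [gv_chi, map_zero, zero_mul, exi_zero (natCast_zero_left hU g), gv_zero]

theorem chi_map (hU : (p : Γ(U.left, ⊤)) = 0) (n : ℕ) (a : Γ(U.left, ⊤)) (ha : a ^ p = 0) {U' : Over S}
    (h : U' ⟶ U) (hU' : (p : Γ(U'.left, ⊤)) = 0) (a' : Γ(U'.left, ⊤)) (e : h.left.appTop a = a')
    (ha' : a' ^ p = 0) :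
    (DGa S).obj.map h.op (homSect (chi hU n a ha)) = homSect (chi hU' n a' ha') :=
  dual_ext fun W g x => by
    rw [gv_map, gv_chi, gv_chi, ← e]
    rfl

theorem chi_add_carry (hU : (p : Γ(U.left, ⊤)) = 0) (n : ℕ) (a b : Γ(U.left, ⊤)) (ha : a ^ p = 0) (hb : b ^ p = 0)
    (hab : ∀ i j, p < i + j → a ^ i * b ^ j = 0) :
    chi hU n a ha + chi hU n b hb =
      chi hU n (a + b) (by have := add_pow_q hU a b 1; rw [pow_one, ha, hb, add_zero] at this; exact this) +
        chi hU (n + 1) (carry p a b) (carry_pow hU a b hab) :=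
  dual_ext fun W g x => by
    rw [gv_add, gv_add, gv_chi, gv_chi, gv_chi, gv_chi, map_add, map_carry hU, pow_succ, pow_mul]
    refine exi_mul_carry (natCast_zero_left hU g) _ _ _ fun i j h => ?_
    rw [← map_pow, ← map_pow, ← map_mul, hab i j h, map_zero]

section Affine

variable {A : Type u} [CommRing A] {j : Spec (CommRingCat.of A) ⟶ S}

/-- A function on the spectrum. -/
abbrev ι₀ {D : Type u} [CommRing D] [Algebra A D] (a : D) : Γ((sp j D).left, ⊤) :=
  (Scheme.ΓSpecIso (CommRingCat.of D)).inv a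

theorem ι₀_injective {D : Type u} [CommRing D] [Algebra A D] :
    Function.Injective (ι₀ (j := j) : D → Γ((sp j D).left, ⊤)) :=
  (Scheme.ΓSpecIso (CommRingCat.of D)).commRingCatIsoToRingEquiv.symm.injective

theorem natCast_zero_sp (hA : (p : A) = 0) {D : Type u} [CommRing D] [Algebra A D] :
    (p : Γ((sp j D).left, ⊤)) = 0 := by
  rw [← map_natCast (Scheme.ΓSpecIso (CommRingCat.of D)).inv.hom, ← map_natCast (algebraMap A D), hA, map_zero]
  exact map_zero _

theorem appj_spMap_ofId {D : Type u} [CommRing D] [Algebra A D] (a : A) :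
    appj (spMap j (Algebra.ofId A D)) a = ι₀ (j := j) (algebraMap A D a) := by
  have := appj_spMap (𝟙 (sp j D)) (Algebra.ofId A D) a
  rw [Category.id_comp] at this
  rw [this]
  show (𝟙 (Spec (CommRingCat.of D)) : _ ⟶ _).appTop _ = _
  simp

theorem gaFn_eq_ι₀ {D : Type u} [CommRing D] [Algebra A D] (x : sp j D ⟶ Red.Ga S) :
    Red.gaFn x = ι₀ (j := j) (coA x) :=
  ((Scheme.ΓSpecIso (CommRingCat.of D)).commRingCatIsoToRingEquiv.symm_apply_apply _).symm

theorem eval₂_ι₀ {D : Type u} [CommRing D] [Algebra A D] (z : D) (f : Polynomial A) :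
    Polynomial.eval₂ (appj (spMap j (Algebra.ofId A D))) (ι₀ (j := j) z) f = ι₀ (j := j) (Polynomial.aeval z f) := by
  show _ = (Scheme.ΓSpecIso (CommRingCat.of D)).inv.hom _
  rw [Polynomial.aeval_def, Polynomial.hom_eval₂]
  congr 1
  exact RingHom.ext fun a => appj_spMap_ofId a

/-- Every character over an affine base is a sum of basic characters. -/
theorem exists_decomp (hA : (p : A) = 0) (ψ : Chr (sp j A)) :
    ∃ (N : ℕ) (a : ℕ → A) (ha : ∀ n, ι₀ (j := j) (a n) ^ p = 0),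
      ψ = ∑ n ∈ Finset.range N, chi (natCast_zero_sp hA) n (ι₀ (j := j) (a n)) (ha n) := by
  classical
  rcases subsingleton_or_nontrivial A with hsub | hnt
  · refine ⟨0, 0, fun n => by simp [ι₀, zero_pow hp.out.ne_zero], dual_ext fun W g x => ?_⟩
    have : Subsingleton Γ(W.left, ⊤) := subsingleton_of_zero_eq_one (by
      rw [← map_zero (appj g), ← map_one (appj g), Subsingleton.elim (0 : A) 1])
    exact Subsingleton.elim _ _
  haveI : CharP A p := charP_of hA
  obtain ⟨tX, htX⟩ := coA_surjective (S := S)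
    (k := Spec.map (CommRingCat.ofHom (algebraMap A (Polynomial A))) ≫ j) (Polynomial.X : Polynomial A)
  let F : Polynomial A := coM (comp' ψ (spMap j (Algebra.ofId A (Polynomial A))) (gaEl tX)).down.toMul
  have hgv : ∀ {W : Over S} (g : W ⟶ sp j A) (x : W ⟶ Red.Ga S),
      gv ψ g x = Polynomial.eval₂ (appj g) (Red.gaFn x) F := by
    intro W g x
    obtain ⟨m, hm⟩ := exists_ptj (A := Polynomial A) g (Polynomial.eval₂RingHom (appj g) (Red.gaFn x))
      (fun r => Polynomial.eval₂_C _ _)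
    have h1 : m ≫ spMap j (Algebra.ofId A (Polynomial A)) = g := ptj_ext (RingHom.ext fun r => by
      rw [appj_spMap, hm]
      exact Polynomial.eval₂_C _ _)
    have h2 : m ≫ tX = x := RedPts82.gaFn_injective (by
      rw [gaFn_appj, hm, htX]
      exact Polynomial.eval₂_X _ _)
    rw [← h1, ← h2, ← gv_nat, h1, h2]
    show m.left.appTop (Red.gmFn _) = _
    rw [← RedPts82.gmFn_comp, gmFn_appj, hm]
    rfl
  have hchar : GaD36.IsChar F := by
    refine ⟨?_, ?_⟩
    · apply ι₀_injective (j := j)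
      have h := (gv_one ψ (spMap j (Algebra.ofId A A))).symm.trans (hgv _ 1)
      rw [RedPts82.gaFn_one, show (0 : Γ((sp j A).left, ⊤)) = ι₀ (j := j) (0 : A) from (map_zero _).symm,
        eval₂_ι₀, Polynomial.aeval_def, Algebra.algebraMap_self] at h
      exact h.symm.trans (map_one _).symm
    · apply ι₀_injective (j := j)
      obtain ⟨x₀, hx₀⟩ := coA_surjective (S := S)
        (k := Spec.map (CommRingCat.ofHom (algebraMap A (MvPolynomial (Fin 2) A))) ≫ j)
        (MvPolynomial.X 0 : MvPolynomial (Fin 2) A)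
      obtain ⟨x₁, hx₁⟩ := coA_surjective (S := S)
        (k := Spec.map (CommRingCat.ofHom (algebraMap A (MvPolynomial (Fin 2) A))) ≫ j)
        (MvPolynomial.X 1 : MvPolynomial (Fin 2) A)
      have h := gv_mul ψ (spMap j (Algebra.ofId A (MvPolynomial (Fin 2) A))) x₀ x₁
      rw [hgv, hgv, hgv, RedPts82.gaFn_mul, gaFn_eq_ι₀, gaFn_eq_ι₀, hx₀, hx₁] at h
      rw [show ι₀ (j := j) (MvPolynomial.X 0 : MvPolynomial (Fin 2) A) + ι₀ (j := j) (MvPolynomial.X 1) =
        ι₀ (j := j) (MvPolynomial.X 0 + MvPolynomial.X 1) from (map_add _ _ _).symm, eval₂_ι₀, eval₂_ι₀, eval₂_ι₀] at h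
      exact h.trans (map_mul _ _ _).symm
  obtain ⟨N, a, ha, hF⟩ := (GaD36.char_iff F).1 hchar
  have ha' : ∀ n, ι₀ (j := j) (a n) ^ p = 0 := fun n =>
    (map_pow _ _ _).symm.trans ((congrArg _ (ha n)).trans (map_zero _))
  refine ⟨N, a, ha', dual_ext fun W g x => ?_⟩
  rw [hgv, gv_sum, hF, Polynomial.eval₂_finsetProd]
  refine Finset.prod_congr rfl fun n _ => ?_
  rw [gv_chi, GaD36.tExp, Polynomial.eval₂_finsetSum]
  have hg : g.left.appTop (ι₀ (j := j) (a n)) = appj g (a n) := rfl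
  rw [hg, exi]
  refine Finset.sum_congr rfl fun t ht => ?_
  have hu := isUnit_fact' (p := p) hA (Finset.mem_range.1 ht)
  rw [Polynomial.eval₂_mul, Polynomial.eval₂_C, Polynomial.eval₂_pow, Polynomial.eval₂_X, map_mul, map_pow,
    mul_pow, ← pow_mul, mul_comm (p ^ n) t, _root_.mul_assoc]
  congr 2
  refine (hu.map (appj g)).mul_left_cancel ?_
  rw [← map_mul, Ring.mul_inverse_cancel _ hu, map_one, map_natCast]
  exact (Ring.mul_inverse_cancel _ (by simpa using hu.map (appj g))).symm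

end Affine

end Groth.Agent.GaExt25
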