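import Groth.Agent.GaExt25.Chi
import Groth.Prelude.Def_AlphaPn

/-!
The additive group is its own double dual in characteristic `p`.
-/

set_option autoImplicit false
universe u

open CategoryTheory CategoryTheory.Limits AlgebraicGeometry Opposite MonObj
open Groth.Agent.Sga84 (sp spMap coA coA_injective coA_surjective)
open Groth.Agent.GaSplit95 (e2 e2_inj e2_eta monomial_e2)

noncomputable section

namespace Groth.Agent.GaExt25

variable {p : ℕ} [hp : Fact p.Prime]

section Coeff

variable {A : Type u} [CommRing A]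

theorem coeff_prod_e2 (f g : Polynomial A) (i k : ℕ) :
    MvPolynomial.coeff (e2 i k) (Polynomial.aeval (MvPolynomial.X 0 : MvPolynomial (Fin 2) A) f *
      Polynomial.aeval (MvPolynomial.X 1 : MvPolynomial (Fin 2) A) g) = f.coeff i * g.coeff k := by
  classical
  induction f using Polynomial.induction_on' with
  | add f₁ f₂ h₁ h₂ => simp only [map_add, add_mul, MvPolynomial.coeff_add, h₁, h₂, Polynomial.coeff_add]
  | monomial m r =>
    induction g using Polynomial.induction_on' with
    | add g₁ g₂ h₁ h₂ => simp only [map_add, mul_add, MvPolynomial.coeff_add, h₁, h₂, Polynomial.coeff_add]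
    | monomial l s =>
      rw [Polynomial.aeval_monomial, Polynomial.aeval_monomial, MvPolynomial.algebraMap_eq,
        show MvPolynomial.C r * MvPolynomial.X (0 : Fin 2) ^ m * (MvPolynomial.C s * MvPolynomial.X 1 ^ l) =
          MvPolynomial.monomial (e2 m l) (r * s) by rw [monomial_e2, map_mul]; ring,
        MvPolynomial.coeff_monomial, Polynomial.coeff_monomial, Polynomial.coeff_monomial]
      simp only [e2_inj]
      split_ifs <;> simp_all

theorem coeff_aeval_add (f : Polynomial A) (i k : ℕ) :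
    MvPolynomial.coeff (e2 i k)
      (Polynomial.aeval (MvPolynomial.X 0 + MvPolynomial.X 1 : MvPolynomial (Fin 2) A) f) =
      ((i + k).choose i : A) * f.coeff (i + k) := by
  classical
  induction f using Polynomial.induction_on' with
  | add f₁ f₂ h₁ h₂ => simp only [map_add, MvPolynomial.coeff_add, h₁, h₂, Polynomial.coeff_add, mul_add]
  | monomial m r =>
    rw [Polynomial.aeval_monomial, MvPolynomial.algebraMap_eq, add_pow, Finset.mul_sum, MvPolynomial.coeff_sum,
      Polynomial.coeff_monomial]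
    have e : ∀ x, MvPolynomial.coeff (e2 i k) (MvPolynomial.C r * (MvPolynomial.X (0 : Fin 2) ^ x *
        MvPolynomial.X 1 ^ (m - x) * ((m.choose x : ℕ) : MvPolynomial (Fin 2) A))) =
        if x = i ∧ m - x = k then r * (m.choose x : A) else 0 := by
      intro x
      rw [show MvPolynomial.C r * (MvPolynomial.X (0 : Fin 2) ^ x * MvPolynomial.X 1 ^ (m - x) *
          ((m.choose x : ℕ) : MvPolynomial (Fin 2) A)) = MvPolynomial.monomial (e2 x (m - x)) (r * (m.choose x : A)) by
          rw [monomial_e2, map_mul, map_natCast]; ring, MvPolynomial.coeff_monomial]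
      simp only [e2_inj]
    simp only [e]
    split_ifs with h
    · subst h
      rw [Finset.sum_eq_single i, if_pos ⟨rfl, by omega⟩, mul_comm]
      · exact fun x _ hx => if_neg fun hh => hx hh.1
      · intro hx; simp at hx
    · rw [mul_zero]
      refine Finset.sum_eq_zero fun x hx => if_neg fun hh => h ?_
      simp at hx
      omega

theorem coeff_carry (hA : (p : A) = 0) {i k : ℕ} (hi : i < p) (hk : k < p) :
    MvPolynomial.coeff (e2 i k)
      (carry p (MvPolynomial.X 0 : MvPolynomial (Fin 2) A) (MvPolynomial.X 1)) =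
      if i + k = p then wR p A i else 0 := by
  classical
  rw [carry, MvPolynomial.coeff_sum]
  have e : ∀ t ∈ Finset.Ioo 0 p, MvPolynomial.coeff (e2 i k) (wR p (MvPolynomial (Fin 2) A) t *
      (MvPolynomial.X 0 ^ t * MvPolynomial.X 1 ^ (p - t))) = if t = i ∧ p - t = k then wR p A t else 0 := by
    intro t ht
    rw [← map_wR hA MvPolynomial.C ht, ← _root_.mul_assoc, ← monomial_e2, MvPolynomial.coeff_monomial]
    simp only [e2_inj]
  rw [Finset.sum_congr rfl e]
  split_ifs with h
  · rw [Finset.sum_eq_single i, if_pos ⟨rfl, by omega⟩]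
    · exact fun x _ hx => if_neg fun hh => hx hh.1
    · intro hx
      simp only [Finset.mem_Ioo, not_and, not_lt] at hx
      omega
  · refine Finset.sum_eq_zero fun x hx => if_neg fun hh => h ?_
    simp at hx
    omega

/-- The coefficients forced by the addition law. -/
theorem coeff_forced (hA : (p : A) = 0) (e e' : Polynomial A) (h0 : e.coeff 0 = 1)
    (h : Polynomial.aeval (MvPolynomial.X 0 : MvPolynomial (Fin 2) A) e *
        Polynomial.aeval (MvPolynomial.X 1 : MvPolynomial (Fin 2) A) e -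
      (Polynomial.aeval (MvPolynomial.X 0 + MvPolynomial.X 1 : MvPolynomial (Fin 2) A) e +
        MvPolynomial.C (e'.coeff 1) * carry p (MvPolynomial.X 0 : MvPolynomial (Fin 2) A) (MvPolynomial.X 1)) ∈
      trunc p A 2 (p + 1)) :
    (∀ i, i < p → e.coeff i = Ring.inverse (i.factorial : A) * e.coeff 1 ^ i) ∧
      e'.coeff 1 = e.coeff 1 ^ p := by
  have key : ∀ i k, i < p → k < p → i + k ≤ p → e.coeff i * e.coeff k =
      ((i + k).choose i : A) * e.coeff (i + k) + e'.coeff 1 * if i + k = p then wR p A i else 0 := by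
    intro i k hi hk hik
    have := (mem_trunc_iff _).1 h (e2 i k) (forall_e2 hi hk) (by rw [degree_e2]; omega)
    rw [MvPolynomial.coeff_sub, MvPolynomial.coeff_add, MvPolynomial.coeff_C_mul, coeff_prod_e2, coeff_aeval_add,
      coeff_carry hA hi hk, sub_eq_zero] at this
    exact this
  have hinv : ∀ i, i + 1 < p → Ring.inverse ((i + 1).factorial : A) * ((i + 1 : ℕ) : A) =
      Ring.inverse (i.factorial : A) := by
    intro i hi
    refine (isUnit_fact' (p := p) hA (Nat.lt_of_succ_lt hi)).mul_left_cancel ?_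
    rw [Ring.mul_inverse_cancel _ (isUnit_fact' (p := p) hA (Nat.lt_of_succ_lt hi))]
    refine Eq.trans ?_ (Ring.mul_inverse_cancel _ (isUnit_fact' (p := p) hA hi))
    rw [Nat.factorial_succ, Nat.cast_mul]
    ring
  have hstep : ∀ i, i < p → e.coeff i = Ring.inverse (i.factorial : A) * e.coeff 1 ^ i := by
    intro i
    induction i with
    | zero => intro _; simp [h0]
    | succ i ih =>
      intro hi
      have h' := key i 1 (by omega) hp.out.one_lt (by omega)
      rw [if_neg (by omega), mul_zero, add_zero, Nat.choose_succ_self_right, ih (by omega)] at h'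
      have hu : IsUnit ((i + 1 : ℕ) : A) := isUnit_natCast hA (fun hd => by
        have := Nat.le_of_dvd (by omega) hd
        omega)
      refine hu.mul_left_cancel ?_
      linear_combination -h' - e.coeff 1 ^ (i + 1) * hinv i hi
  refine ⟨hstep, ?_⟩
  have h' := key 1 (p - 1) hp.out.one_lt (by have := hp.out.pos; omega) (by have := hp.out.pos; omega)
  rw [show 1 + (p - 1) = p by have := hp.out.pos; omega, Nat.choose_one_right, hA, zero_mul, zero_add, if_pos rfl,
    hstep (p - 1) (by have := hp.out.pos; omega)] at h'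
  have hw : wR p A 1 = Ring.inverse (((p - 1).factorial : ℕ) : A) := by
    rw [wR, Nat.factorial_one, Nat.cast_one, Ring.inverse_one, _root_.one_mul]
  rw [hw] at h'
  have hu := isUnit_fact' (p := p) hA (show p - 1 < p by have := hp.out.pos; omega)
  have h'' := congrArg (fun z => ((p - 1).factorial : A) * z) h'
  rw [show ((p - 1).factorial : A) * (e.coeff 1 * (Ring.inverse ((p - 1).factorial : A) * e.coeff 1 ^ (p - 1))) =
      (((p - 1).factorial : A) * Ring.inverse ((p - 1).factorial : A)) * (e.coeff 1 * e.coeff 1 ^ (p - 1)) by ring,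
    show ((p - 1).factorial : A) * (e'.coeff 1 * Ring.inverse ((p - 1).factorial : A)) =
      (((p - 1).factorial : A) * Ring.inverse ((p - 1).factorial : A)) * e'.coeff 1 by ring,
    Ring.mul_inverse_cancel _ hu, _root_.one_mul, _root_.one_mul, ← pow_succ', Nat.sub_add_cancel hp.out.one_le] at h''
  exact h''.symm

theorem eval₂_eq_low {R : Type*} [CommRing R] (φ : A →+* R) {a : R} (ha : a ^ p = 0) (e : Polynomial A) :
    Polynomial.eval₂ φ a e = ∑ t ∈ Finset.range p, φ (e.coeff t) * a ^ t := by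
  rw [Polynomial.eval₂_eq_sum_range' φ (show e.natDegree < max p (e.natDegree + 1) by omega)]
  refine (Finset.sum_subset (Finset.range_mono (le_max_left _ _)) fun t _ ht => ?_).symm
  obtain ⟨r, rfl⟩ := Nat.le.dest (not_lt.1 fun h => ht (Finset.mem_range.2 h))
  rw [pow_add, ha, zero_mul, mul_zero]

end Coeff

variable {S : Scheme.{u}}

/-- A functional on characters over `T`. -/
abbrev Fnl (T : Over S) : Type (u + 1) :=
  (DGa S).over T ⟶ (CGrpSh2.Gm Scheme.fppfPrecoverage S).over T

/-- The value of a functional at a character, as a function. -/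
def vv {T : Over S} (φ : Fnl T) {U : Over S} (f : U ⟶ T) (ψ : Chr U) : Γ(U.left, ⊤) :=
  Red.gmFn (comp' φ f (homSect ψ)).down.toMul

theorem vv_nat {T : Over S} (φ : Fnl T) {U V : Over S} (g : V ⟶ U) (f : U ⟶ T) (ψ : Chr U) :
    g.left.appTop (vv φ f ψ) = vv φ (g ≫ f) ((DGa S).obj.map g.op (homSect ψ)) := by
  rw [vv, ← RedPts82.gmFn_comp]
  exact congrArg (fun z : (CGrpSh2.Gm Scheme.fppfPrecoverage S).obj.obj (op V) => Red.gmFn z.down.toMul)
    (comp'_natural φ g f (homSect ψ))

theorem vv_add {T : Over S} (φ : Fnl T) {U : Over S} (f : U ⟶ T) (ψ ψ' : Chr U) :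
    vv φ f (ψ + ψ') = vv φ f ψ * vv φ f ψ' :=
  (congrArg (fun z : (CGrpSh2.Gm Scheme.fppfPrecoverage S).obj.obj (op U) => Red.gmFn z.down.toMul)
    ((comp' φ f).map_add (homSect ψ) (homSect ψ'))).trans
    (RedPts82.gmFn_mul (comp' φ f (homSect ψ)).down.toMul (comp' φ f (homSect ψ')).down.toMul)

theorem vv_zero {T : Over S} (φ : Fnl T) {U : Over S} (f : U ⟶ T) : vv φ f (0 : Chr U) = 1 :=
  (congrArg (fun z : (CGrpSh2.Gm Scheme.fppfPrecoverage S).obj.obj (op U) => Red.gmFn z.down.toMul)
    (comp' φ f).map_zero).trans RedPts82.gmFn_one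

/-- Evaluation at a point. -/
abbrev evPt {T : Over S} (x : T ⟶ Red.Ga S) : Fnl T :=
  (CGrpSh2.toDoubleDual Scheme.fppfPrecoverage (CGrpSh2.Ga Scheme.fppfPrecoverage S)).hom.app (op T) (gaEl x)

theorem vv_evPt {T : Over S} (x : T ⟶ Red.Ga S) {U : Over S} (f : U ⟶ T) (ψ : Chr U) :
    vv (evPt x) f ψ = gv ψ (𝟙 U) (f ≫ x) := rfl

theorem fnl_ext {T : Over S} {φ φ' : Fnl T} (h : ∀ (U : Over S) (f : U ⟶ T) (ψ : Chr U), vv φ f ψ = vv φ' f ψ) :
    φ = φ' :=
  comp'_ext fun U f ψ => ULift.ext _ _ (congrArg Additive.ofMul (RedPts82.gmFn_injective (h U f ψ)))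

theorem affine_opens_cover (T : Over S) :
    ∀ t : T.left, ∃ V : T.left.affineOpens, t ∈ (V : T.left.Opens) := fun t => by
  obtain ⟨V, hV, htV, -⟩ := exists_isAffineOpen_mem_and_subset (U := (⊤ : T.left.Opens)) (x := t) trivial
  exact ⟨⟨V, hV⟩, htV⟩

/-- An affine open as an object with an affine base. -/
def affPiece {T : Over S} (V : T.left.affineOpens) :
    sp (V.2.fromSpec ≫ T.hom) Γ(T.left, V) ⟶ T :=
  Over.homMk (show (sp (V.2.fromSpec ≫ T.hom) Γ(T.left, V)).left ⟶ T.left from V.2.fromSpec) (by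
    show V.2.fromSpec ≫ T.hom =
      Spec.map (CommRingCat.ofHom (algebraMap Γ(T.left, V) Γ(T.left, V))) ≫ V.2.fromSpec ≫ T.hom
    rw [(congrArg Spec.map (rfl : CommRingCat.ofHom (algebraMap Γ(T.left, V) Γ(T.left, V)) =
      𝟙 (CommRingCat.of Γ(T.left, V)))).trans (Spec.map_id _)]
    exact (Category.id_comp _).symm)

theorem affPiece_props (T : Over S) :
    (∀ V : T.left.affineOpens, Flat (affPiece V).left) ∧
      (∀ V : T.left.affineOpens, LocallyOfFinitePresentation (affPiece V).left) ∧
      ∀ t : T.left, ∃ V : T.left.affineOpens, t ∈ Set.range (affPiece V).left := by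
  refine ⟨fun V => ?_, fun V => ?_, fun t => ?_⟩
  · have := V.2.isOpenImmersion_fromSpec
    exact inferInstanceAs (Flat V.2.fromSpec)
  · have := V.2.isOpenImmersion_fromSpec
    exact inferInstanceAs (LocallyOfFinitePresentation V.2.fromSpec)
  · obtain ⟨V, hV⟩ := affine_opens_cover T t
    exact ⟨V, by rw [show Set.range (affPiece V).left = _ from V.2.range_fromSpec]; exact hV⟩

theorem natCast_zero_obj {T : Over S} (hS : (p : Γ(S, ⊤)) = 0) : (p : Γ(T.left, ⊤)) = 0 := by
  rw [← map_natCast T.hom.appTop.hom, hS, map_zero]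

theorem natCast_zero_affine {T : Over S} (hS : (p : Γ(S, ⊤)) = 0) (V : T.left.affineOpens) :
    (p : Γ(T.left, V)) = 0 := by
  rw [← map_natCast (T.left.presheaf.map (homOfLE (le_top : (V : T.left.Opens) ≤ ⊤)).op).hom,
    natCast_zero_obj (T := T) hS, map_zero]

theorem fnl_ext_chi (hS : (p : Γ(S, ⊤)) = 0) {T : Over S} {φ φ' : Fnl T}
    (h : ∀ (U : Over S) (f : U ⟶ T) (hU : (p : Γ(U.left, ⊤)) = 0) (n : ℕ) (a : Γ(U.left, ⊤)) (ha : a ^ p = 0),
      vv φ f (chi hU n a ha) = vv φ' f (chi hU n a ha)) : φ = φ' := by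
  refine comp'_ext fun U f ψ => ?_
  obtain ⟨h1, h2, h3⟩ := affPiece_props U
  refine section_ext _ (fun V : U.left.affineOpens => affPiece V) h1 h2 h3 fun V => ?_
  rw [comp'_natural, comp'_natural]
  apply ULift.ext
  apply congrArg Additive.ofMul
  apply RedPts82.gmFn_injective
  show vv φ (affPiece V ≫ f) ((DGa S).obj.map (affPiece V).op ψ) =
    vv φ' (affPiece V ≫ f) ((DGa S).obj.map (affPiece V).op ψ)
  obtain ⟨N, a, ha, hd⟩ := exists_decomp (p := p) (natCast_zero_affine hS V) ((DGa S).obj.map (affPiece V).op ψ)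
  rw [hd]
  induction N with
  | zero => rw [Finset.sum_range_zero, vv_zero, vv_zero]
  | succ N ih => 
    clear hd
    have hsum : ∀ M, vv φ (affPiece V ≫ f) (∑ n ∈ Finset.range M,
        chi (natCast_zero_sp (natCast_zero_affine hS V)) n (ι₀ (a n)) (ha n)) =
      vv φ' (affPiece V ≫ f) (∑ n ∈ Finset.range M,
        chi (natCast_zero_sp (natCast_zero_affine hS V)) n (ι₀ (a n)) (ha n)) := by
      intro M
      induction M with
      | zero => rw [Finset.sum_range_zero, vv_zero, vv_zero]
      | succ M ihM => rw [Finset.sum_range_succ, vv_add, vv_add, ihM, h]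
    exact hsum _

theorem exists_evPt_affine (hS : (p : Γ(S, ⊤)) = 0) {A : Type u} [CommRing A] (hA : (p : A) = 0)
    (j : Spec (CommRingCat.of A) ⟶ S) (φ : Fnl (sp j A)) : ∃ x : sp j A ⟶ Red.Ga S, evPt x = φ := by
  let B := AlphaPn.A p 1 A
  have hBp : ι₀ (j := j) (AlphaPn.x p 1 A) ^ p = 0 :=
    (map_pow _ _ _).symm.trans ((congrArg _ (AlphaPn.x_pow_of_le p 1 A (pow_one p).le)).trans (map_zero _))
  choose e he using fun n : ℕ => AlphaPn.mk_surjective p 1 A
    ((Scheme.ΓSpecIso (CommRingCat.of B)).hom (vv φ (spMap j (Algebra.ofId A B))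
      (chi (natCast_zero_sp hA) n (ι₀ (j := j) (AlphaPn.x p 1 A)) hBp)))
  have hval : ∀ {U : Over S} (f : U ⟶ sp j A) (hU : (p : Γ(U.left, ⊤)) = 0) (n : ℕ) (a : Γ(U.left, ⊤))
      (ha : a ^ p = 0), vv φ f (chi hU n a ha) = Polynomial.eval₂ (appj f) a (e n) := by
    intro U f hU n a ha
    letI := (appj f).toAlgebra
    let φB : B →ₐ[A] Γ(U.left, ⊤) := AlphaPn.lift p 1 A a (by rw [pow_one]; exact ha)
    obtain ⟨m, hm⟩ := exists_ptj (A := B) f φB.toRingHom φB.commutes
    have h1 : m ≫ spMap j (Algebra.ofId A B) = f := ptj_ext (RingHom.ext fun r => by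
      rw [appj_spMap, hm]
      exact φB.commutes r)
    have h2 : m.left.appTop (ι₀ (j := j) (AlphaPn.x p 1 A)) = a :=
      (congr($hm (AlphaPn.x p 1 A))).trans (AlphaPn.lift_x _ _)
    have h3 := vv_nat φ m (spMap j (Algebra.ofId A B))
      (chi (natCast_zero_sp hA) n (ι₀ (j := j) (AlphaPn.x p 1 A)) hBp)
    rw [chi_map (natCast_zero_sp hA) n _ hBp m hU a h2 ha, h1] at h3
    rw [← h3]
    have h4 : vv φ (spMap j (Algebra.ofId A B)) (chi (natCast_zero_sp hA) n (ι₀ (j := j) (AlphaPn.x p 1 A)) hBp) =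
        ι₀ (j := j) (AlphaPn.mk p 1 A (e n)) := by
      rw [he n]
      exact ((Scheme.ΓSpecIso (CommRingCat.of B)).commRingCatIsoToRingEquiv.symm_apply_apply _).symm
    rw [h4]
    refine (congr($hm (AlphaPn.mk p 1 A (e n)))).trans ?_
    show φB (AlphaPn.mk p 1 A (e n)) = _
    rw [← AlphaPn.aeval_x, ← Polynomial.aeval_algHom_apply, AlphaPn.lift_x]
    rfl
  have h0 : ∀ n, (e n).coeff 0 = 1 := by
    intro n
    apply ι₀_injective (j := j) (D := A)
    have hz : (0 : Γ((sp j A).left, ⊤)) ^ p = 0 := zero_pow hp.out.ne_zero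
    have h := (hval (spMap j (Algebra.ofId A A)) (natCast_zero_sp hA) n 0 hz)
    rw [chi_zero, vv_zero, Polynomial.eval₂_at_zero, appj_spMap_ofId] at h
    exact h.symm.trans (map_one _).symm
  have hrel : ∀ n, (∀ i, i < p → (e n).coeff i = Ring.inverse (i.factorial : A) * (e n).coeff 1 ^ i) ∧
      (e (n + 1)).coeff 1 = (e n).coeff 1 ^ p := by
    intro n
    rcases subsingleton_or_nontrivial A with hsub | hnt
    · exact ⟨fun i _ => Subsingleton.elim _ _, Subsingleton.elim _ _⟩
    haveI : CharP A p := charP_of hA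
    refine coeff_forced hA (e n) (e (n + 1)) (h0 n) (Ideal.Quotient.eq.1 ?_)
    let P2 := MvPolynomial (Fin 2) A
    let R' := P2 ⧸ trunc p A 2 (p + 1)
    let π : P2 →ₐ[A] R' := Ideal.Quotient.mkₐ A (trunc p A 2 (p + 1))
    let a := π (MvPolynomial.X 0)
    let b := π (MvPolynomial.X 1)
    have hR : (p : R') = 0 := by rw [← map_natCast (algebraMap A R'), hA, map_zero]
    have hab : ∀ i k, p < i + k → a ^ i * b ^ k = 0 := by
      intro i k hik
      rw [← map_pow, ← map_pow, ← map_mul]
      refine Ideal.Quotient.eq_zero_iff_mem.2 (Ideal.mem_sup_right ?_)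
      refine Ideal.pow_le_pow_right (show p + 1 ≤ i + k by omega) ?_
      rw [pow_add]
      exact Ideal.mul_mem_mul (Ideal.pow_mem_pow (Ideal.subset_span (Set.mem_range_self 0)) i)
        (Ideal.pow_mem_pow (Ideal.subset_span (Set.mem_range_self 1)) k)
    have hXp : ∀ l : Fin 2, π (MvPolynomial.X l) ^ p = 0 := fun l => by
      rw [← map_pow]; exact Ideal.Quotient.eq_zero_iff_mem.2 (box_le_trunc 2 _ (X_pow_mem_box l))
    let U := sp j R'
    let f : U ⟶ sp j A := spMap j (Algebra.ofId A R')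
    have hab' : ∀ i k, p < i + k → ι₀ (j := j) a ^ i * ι₀ (j := j) b ^ k = 0 := fun i k h =>
      ((congrArg₂ (· * ·) (map_pow _ _ _).symm (map_pow _ _ _).symm).trans (map_mul _ _ _).symm).trans
        ((congrArg _ (hab i k h)).trans (map_zero _))
    have ha' : ι₀ (j := j) a ^ p = 0 := (map_pow _ _ _).symm.trans ((congrArg _ (hXp 0)).trans (map_zero _))
    have hb' : ι₀ (j := j) b ^ p = 0 := (map_pow _ _ _).symm.trans ((congrArg _ (hXp 1)).trans (map_zero _))
    have h := congrArg (vv φ f) (chi_add_carry (natCast_zero_sp hA (D := R')) n _ _ ha' hb' hab')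
    rw [vv_add, vv_add, hval, hval, hval, hval] at h
    have hc : carry p (ι₀ (j := j) a) (ι₀ (j := j) b) = ι₀ (j := j) (carry p a b) :=
      (map_carry hR (Scheme.ΓSpecIso (CommRingCat.of R')).inv.hom a b).symm
    rw [hc, show ι₀ (j := j) a + ι₀ (j := j) b = ι₀ (j := j) (a + b) from (map_add _ _ _).symm, eval₂_ι₀, eval₂_ι₀,
      eval₂_ι₀, eval₂_ι₀] at h
    have h' : Polynomial.aeval a (e n) * Polynomial.aeval b (e n) =
        Polynomial.aeval (a + b) (e n) * Polynomial.aeval (carry p a b) (e (n + 1)) :=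
      ι₀_injective (j := j) ((map_mul _ _ _).trans (h.trans (map_mul _ _ _).symm))
    have hcc := carry_mul_self hR a b hab
    have hlin : ∀ (z : R') (_ : z * z = 0) (q : Polynomial A),
        Polynomial.aeval z q = algebraMap A R' (q.coeff 0) + algebraMap A R' (q.coeff 1) * z := by
      intro z hz q
      rw [Polynomial.aeval_eq_sum_range' (show q.natDegree < q.natDegree + 2 by omega),
        Finset.sum_range_succ', Finset.sum_range_succ']
      rw [Finset.sum_eq_zero fun t _ => by rw [show t + 1 + 1 = 2 + t by omega, pow_add, pow_two, hz, zero_mul, smul_zero]]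
      simp [Algebra.smul_def]
      ring
    have hcs : carry p a b * Polynomial.aeval (a + b) (e n) = carry p a b := by
      obtain ⟨r, hr⟩ := Polynomial.X_dvd_iff.2 (show (e n - 1).coeff 0 = 0 by simp [h0 n])
      rw [eq_add_of_sub_eq hr, map_add, map_mul, Polynomial.aeval_X, map_one]
      linear_combination (Polynomial.aeval (a + b) r) * carry_mul_add hR a b hab
    rw [hlin _ hcc, h0 (n + 1), map_one] at h'
    show π _ = π _
    rw [map_mul, map_add, map_mul, ← Polynomial.aeval_algHom_apply, ← Polynomial.aeval_algHom_apply,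
      ← Polynomial.aeval_algHom_apply, map_add]
    have hπc : π (carry p (MvPolynomial.X 0 : P2) (MvPolynomial.X 1)) = carry p a b :=
      map_carry (by rw [← map_natCast MvPolynomial.C, hA, map_zero]) π.toRingHom _ _
    rw [hπc, show π (MvPolynomial.C ((e (n + 1)).coeff 1)) = algebraMap A R' ((e (n + 1)).coeff 1) from π.commutes _]
    linear_combination h' + (algebraMap A R' ((e (n + 1)).coeff 1)) * hcs
  have hpow : ∀ n, (e n).coeff 1 = (e 0).coeff 1 ^ p ^ n := by
    intro n
    induction n with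
    | zero => simp
    | succ n ih => rw [(hrel n).2, ih, ← pow_mul, pow_succ]
  obtain ⟨x, hx⟩ := coA_surjective (S := S)
    (k := Spec.map (CommRingCat.ofHom (algebraMap A A)) ≫ j) ((e 0).coeff 1)
  refine ⟨x, fnl_ext_chi hS fun U f hU n a ha => ?_⟩
  rw [vv_evPt, gv_chi, hval, gaFn_appj, hx, eval₂_eq_low _ ha, exi, show (𝟙 U : U ⟶ U).left.appTop a = a by simp]
  refine Finset.sum_congr rfl fun t ht => ?_
  have ht' := Finset.mem_range.1 ht
  rw [(hrel n).1 t ht', hpow n, map_mul, map_pow, map_pow]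
  have hu := isUnit_fact' (p := p) hA ht'
  have hinv : appj f (Ring.inverse (t.factorial : A)) = Ring.inverse (t.factorial : Γ(U.left, ⊤)) := by
    refine (hu.map (appj f)).mul_left_cancel ?_
    rw [← map_mul, Ring.mul_inverse_cancel _ hu, map_one, map_natCast]
    exact (Ring.mul_inverse_cancel _ (by simpa using hu.map (appj f))).symm
  rw [hinv]
  ring

theorem evPt_injective (hS : (p : Γ(S, ⊤)) = 0) {T : Over S} {x y : T ⟶ Red.Ga S} (h : evPt x = evPt y) :
    x = y := by
  suffices gaEl x = gaEl y from congrArg (fun z => z.down.toMul) this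
  obtain ⟨h1, h2, h3⟩ := affPiece_props T
  refine section_ext _ (fun V : T.left.affineOpens => affPiece V) h1 h2 h3 fun V => ?_
  let A := Γ(T.left, V)
  let j : Spec (CommRingCat.of A) ⟶ S := V.2.fromSpec ≫ T.hom
  have hA : (p : A) = 0 := natCast_zero_affine hS V
  apply ULift.ext
  apply congrArg Additive.ofMul
  show affPiece V ≫ x = affPiece V ≫ y
  apply coA_injective
  let B := AlphaPn.A p 1 A
  let q : sp j B ⟶ sp j A := spMap j (Algebra.ofId A B)
  have hBp : ι₀ (j := j) (AlphaPn.x p 1 A) ^ p = 0 :=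
    (map_pow _ _ _).symm.trans ((congrArg _ (AlphaPn.x_pow_of_le p 1 A (pow_one p).le)).trans (map_zero _))
  have hv := congrArg (fun φ => vv φ (q ≫ affPiece V)
    (chi (natCast_zero_sp hA) 0 (ι₀ (j := j) (AlphaPn.x p 1 A)) hBp)) h
  simp only [vv_evPt, gv_chi, Category.assoc, gaFn_appj, pow_zero, pow_one] at hv
  have hk : ∀ z : A, exi p ((𝟙 (sp j B) : sp j B ⟶ sp j B).left.appTop (ι₀ (j := j) (AlphaPn.x p 1 A)) *
      appj q z) = ι₀ (j := j) (AlphaPn.mk p 1 A (∑ t ∈ Finset.range p,
        Polynomial.C (Ring.inverse (t.factorial : A) * z ^ t) * Polynomial.X ^ t)) := by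
    intro z
    show _ = (Scheme.ΓSpecIso (CommRingCat.of B)).inv.hom _
    rw [show appj q z = ι₀ (j := j) (algebraMap A B z) from appj_spMap_ofId z, exi, map_sum, map_sum,
      show (𝟙 (sp j B) : sp j B ⟶ sp j B).left.appTop (ι₀ (j := j) (AlphaPn.x p 1 A)) =
        ι₀ (j := j) (AlphaPn.x p 1 A) by simp; rfl]
    refine Finset.sum_congr rfl fun t ht => ?_
    rw [map_mul, map_pow, AlphaPn.mk_X, show AlphaPn.mk p 1 A (Polynomial.C (Ring.inverse (t.factorial : A) * z ^ t)) =
      algebraMap A B (Ring.inverse (t.factorial : A) * z ^ t) from (AlphaPn.mk p 1 A).commutes _, map_mul, map_pow]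
    simp only [map_mul, map_pow, ι₀]
    rw [mul_pow, show Ring.inverse (t.factorial : Γ((sp j B).left, ⊤)) =
      (Scheme.ΓSpecIso (CommRingCat.of B)).inv (algebraMap A B (Ring.inverse (t.factorial : A))) from ?_]
    · ring
    · have hu := isUnit_fact' (p := p) hA (Finset.mem_range.1 ht)
      have hu' := (hu.map (algebraMap A B)).map (Scheme.ΓSpecIso (CommRingCat.of B)).inv.hom
      simp only [map_natCast] at hu'
      refine hu'.mul_left_cancel ?_
      rw [Ring.mul_inverse_cancel _ hu', ← map_natCast ((Scheme.ΓSpecIso (CommRingCat.of B)).inv.hom.comp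
        (algebraMap A B)), RingHom.comp_apply]
      simp only [← map_mul]
      rw [Ring.mul_inverse_cancel _ hu, map_one, map_one]
  rw [hk, hk] at hv
  obtain ⟨r, hr⟩ := AdjoinRoot.mk_eq_mk.1
    (show (AdjoinRoot.mk _) _ = (AdjoinRoot.mk _) _ from (ι₀_injective (j := j) (D := B) hv :))
  have h1 := congrArg (fun f => Polynomial.coeff f 1) hr
  simp only [Polynomial.coeff_sub, Polynomial.finsetSum_coeff, Polynomial.coeff_C_mul_X_pow, pow_one,
    Polynomial.coeff_X_pow_mul'] at h1
  rw [Finset.sum_ite_eq, Finset.sum_ite_eq, if_pos (Finset.mem_range.2 hp.out.one_lt),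
    if_pos (Finset.mem_range.2 hp.out.one_lt), if_neg (by have := hp.out.one_lt; omega)] at h1
  simpa [sub_eq_zero] using h1

theorem exists_evPt (hS : (p : Γ(S, ⊤)) = 0) {T : Over S} (φ : Fnl T) :
    ∃ x : T ⟶ Red.Ga S, evPt x = φ := by
  obtain ⟨h1, h2, h3⟩ := affPiece_props T
  let D2 := CGrpSh2.dualSh Scheme.fppfPrecoverage (DGa S)
  let β := CGrpSh2.toDoubleDual Scheme.fppfPrecoverage (CGrpSh2.Ga Scheme.fppfPrecoverage S)
  have hx : ∀ V : T.left.affineOpens, ∃ z : (CGrpSh2.Ga Scheme.fppfPrecoverage S).obj.obj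
      (op (sp (V.2.fromSpec ≫ T.hom) Γ(T.left, V))),
      β.hom.app _ z = D2.obj.map (affPiece V).op (homSect φ) := fun V => by
    obtain ⟨x, hx⟩ := exists_evPt_affine hS (natCast_zero_affine hS V) _
      (D2.obj.map (affPiece V).op (homSect φ))
    exact ⟨gaEl x, hx⟩
  choose z hz using hx
  obtain ⟨y, hy⟩ := section_glue _ (fun V : T.left.affineOpens => affPiece V) h1 h2 h3 z (fun i k Z g g' e => by
    have hi : β.hom.app (op Z) ((CGrpSh2.Ga Scheme.fppfPrecoverage S).obj.map g.op (z i)) =
        β.hom.app (op Z) ((CGrpSh2.Ga Scheme.fppfPrecoverage S).obj.map g'.op (z k)) := by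
      rw [hom_app_map, hom_app_map, hz, hz, map_map, map_map, e]
    exact ULift.ext _ _ (congrArg Additive.ofMul (evPt_injective hS hi)))
  refine ⟨y.down.toMul, ?_⟩
  show β.hom.app (op T) y = homSect φ
  refine section_ext D2 (fun V : T.left.affineOpens => affPiece V) h1 h2 h3 fun V => ?_
  rw [← hom_app_map, hy, hz]

/-- The double duality map of the additive group is an isomorphism in characteristic `p`. -/
theorem isIso_toDoubleDual (hS : (p : Γ(S, ⊤)) = 0) :
    IsIso (CGrpSh2.toDoubleDual Scheme.fppfPrecoverage (CGrpSh2.Ga Scheme.fppfPrecoverage S)) := by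
  let β := CGrpSh2.toDoubleDual Scheme.fppfPrecoverage (CGrpSh2.Ga Scheme.fppfPrecoverage S)
  have hb : ∀ T, IsIso (β.hom.app T) := fun T => by
    refine (ConcreteCategory.isIso_iff_bijective _).2 ⟨fun z z' h => ?_, fun φ => ?_⟩
    · exact ULift.ext _ _ (congrArg Additive.ofMul (evPt_injective hS (T := T.unop) h))
    · obtain ⟨x, hx⟩ := exists_evPt hS (T := T.unop) φ
      exact ⟨gaEl x, hx⟩
  haveI : IsIso β.hom := NatIso.isIso_of_isIso_app _
  haveI : IsIso ((sheafToPresheaf _ _).map β) := this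
  exact isIso_of_reflects_iso β (sheafToPresheaf _ _)

end Groth.Agent.GaExt25
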