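import Groth.Agent.GaExt25.TruncExp
import Mathlib.RingTheory.Nilpotent.Exp

/-!
Exponentials of nilpotent elements in rings in which the positive integers are invertible.
-/

set_option autoImplicit false
universe u

noncomputable section

namespace Groth.Agent.GaExt25

variable {R : Type*} [CommRing R]

/-- The exponential of a nilpotent element. -/
def nex (x : R) : R := exi (nilpotencyClass x) x

theorem nex_eq {x : R} {k : ℕ} (h : x ^ k = 0) : nex x = exi k x := by
  have hc : x ^ nilpotencyClass x = 0 := pow_nilpotencyClass ⟨k, h⟩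
  refine Finset.sum_subset (Finset.range_mono (Nat.sInf_le h)) fun t _ ht => ?_
  obtain ⟨r, hr⟩ := Nat.le.dest (not_lt.1 fun h' => ht (Finset.mem_range.2 h'))
  rw [← hr, pow_add, show x ^ sInf {k | x ^ k = 0} = 0 from hc, zero_mul, mul_zero]

/-- The positive integers are invertible. -/
abbrev QInv (R : Type*) [CommRing R] : Prop := ∀ n : ℕ, 0 < n → IsUnit (n : R)

theorem QInv.map (hQ : QInv R) {R' : Type*} [CommRing R'] (e : R →+* R') : QInv R' := fun n hn => by
  rw [← map_natCast e]
  exact (hQ n hn).map e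

theorem QInv.fact (hQ : QInv R) (t : ℕ) : IsUnit (t.factorial : R) := hQ _ t.factorial_pos

/-- The algebra structure over the rationals. -/
abbrev qAlg (hQ : QInv R) : Algebra ℚ R :=
  RingHom.toAlgebra <| IsLocalization.lift (M := nonZeroDivisors ℤ) (S := ℚ) (g := Int.castRingHom R) fun y => by
    obtain ⟨m, hm⟩ : ∃ m : ℕ, (y : ℤ).natAbs = m := ⟨_, rfl⟩
    have h0 : 0 < m := by
      rw [← hm]
      exact Int.natAbs_pos.2 (nonZeroDivisors.coe_ne_zero y)
    rcases Int.natAbs_eq (y : ℤ) with h | h <;> rw [h, hm]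
    · simpa using hQ m h0
    · simpa using hQ m h0

variable (hQ : QInv R)
include hQ

theorem nex_eq_exp [Algebra ℚ R] {x : R} (hx : IsNilpotent x) : nex x = IsNilpotent.exp x := by
  obtain ⟨k, hk⟩ := hx
  rw [nex_eq hk, IsNilpotent.exp_eq_sum hk]
  refine Finset.sum_congr rfl fun t _ => ?_
  refine (hQ.fact t).mul_left_cancel ?_
  rw [← mul_assoc, Ring.mul_inverse_cancel _ (hQ.fact t), one_mul, Algebra.smul_def, ← mul_assoc,
    ← map_natCast (algebraMap ℚ R), ← map_mul, mul_inv_cancel₀ (by exact_mod_cast t.factorial_ne_zero), map_one,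
    one_mul]

theorem nex_add {a b : R} (ha : IsNilpotent a) (hb : IsNilpotent b) : nex a * nex b = nex (a + b) := by
  letI := qAlg hQ
  rw [nex_eq_exp hQ ha, nex_eq_exp hQ hb, nex_eq_exp hQ ((Commute.all a b).isNilpotent_add ha hb),
    IsNilpotent.exp_add_of_commute (Commute.all a b) ha hb]

omit hQ in
theorem nex_zero : nex (0 : R) = 1 := by
  rw [nex_eq (k := 1) (pow_one 0), exi]
  simp

theorem isUnit_nex {a : R} (ha : IsNilpotent a) : IsUnit (nex a) := by
  letI := qAlg hQ
  rw [nex_eq_exp hQ ha]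
  exact IsNilpotent.isUnit_exp ha

theorem map_exi_q {R' : Type*} [CommRing R'] (e : R →+* R') (k : ℕ) (x : R) : e (exi k x) = exi k (e x) := by
  simp only [exi, map_sum, map_mul, map_pow]
  refine Finset.sum_congr rfl fun t _ => ?_
  congr 1
  refine ((hQ.fact t).map e).mul_left_cancel ?_
  rw [← map_mul, Ring.mul_inverse_cancel _ (hQ.fact t), map_one, map_natCast]
  exact (Ring.mul_inverse_cancel _ ((hQ.map e).fact t)).symm

theorem map_nex {R' : Type*} [CommRing R'] (e : R →+* R') {x : R} (hx : IsNilpotent x) :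
    e (nex x) = nex (e x) := by
  obtain ⟨k, hk⟩ := hx
  rw [nex_eq hk, map_exi_q hQ e, nex_eq (k := k) (by rw [← map_pow, hk, map_zero])]

theorem map_inv_fact {R' : Type*} [CommRing R'] (e : R →+* R') (t : ℕ) :
    e (Ring.inverse (t.factorial : R)) = Ring.inverse (t.factorial : R') := by
  refine ((hQ.map e).fact t).mul_left_cancel ?_
  rw [Ring.mul_inverse_cancel _ ((hQ.map e).fact t), ← map_natCast e, ← map_mul,
    Ring.mul_inverse_cancel _ (hQ.fact t), map_one]

theorem inv_fact_succ (t : ℕ) :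
    Ring.inverse ((t + 1).factorial : R) * ((t + 1 : ℕ) : R) = Ring.inverse (t.factorial : R) := by
  refine (hQ.fact t).mul_left_cancel ?_
  rw [Ring.mul_inverse_cancel _ (hQ.fact t)]
  refine Eq.trans ?_ (Ring.mul_inverse_cancel _ (hQ.fact (t + 1)))
  rw [Nat.factorial_succ, Nat.cast_mul]
  ring

end Groth.Agent.GaExt25
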