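import Groth.Agent.GaExt25.DoubleDualP
import Groth.Agent.GaExt25.NExp

/-!
The additive group is its own double dual in characteristic zero.
-/

set_option autoImplicit false
universe u

open CategoryTheory CategoryTheory.Limits AlgebraicGeometry Opposite MonObj
open Groth.Agent.Sga84 (sp spMap coA coA_injective coA_surjective coM)
open Groth.Agent.GaSplit95 (e2)

noncomputable section

namespace Groth.Agent.GaExt25

variable {S : Scheme.{u}} {U V : Over S}

section Coeff

variable {A : Type u} [CommRing A]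

theorem coeff_forced_q (hQ : QInv A) (e e' : Polynomial A) (h0 : e.coeff 0 = 1) {N : ℕ}
    (h : ∀ i k, i < N → k < N → e.coeff i * e.coeff k = ((i + k).choose i : A) * e'.coeff (i + k)) :
    ∀ i, i < N → e.coeff i = Ring.inverse (i.factorial : A) * e.coeff 1 ^ i := by
  have same : ∀ i, i < N → e.coeff i = e'.coeff i := fun i hi => by
    have := h i 0 hi (by omega)
    rw [h0, _root_.mul_one, add_zero, Nat.choose_self, Nat.cast_one, _root_.one_mul] at this
    exact this
  intro i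
  induction i with
  | zero => intro _; simp [h0]
  | succ i ih =>
    intro hi
    have h' := h i 1 (by omega) (by omega)
    rw [Nat.choose_succ_self_right, ← same _ hi, ih (by omega)] at h'
    refine (hQ (i + 1) (Nat.succ_pos i)).mul_left_cancel ?_
    linear_combination -h' - e.coeff 1 ^ (i + 1) * inv_fact_succ hQ i

theorem eval₂_eq_exi (hQ : QInv A) {R : Type*} [CommRing R] (φ : A →+* R) {a : R} {M : ℕ} (ha : a ^ M = 0)
    (e : Polynomial A) (he : ∀ i, i < M → e.coeff i = Ring.inverse (i.factorial : A) * e.coeff 1 ^ i) :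
    Polynomial.eval₂ φ a e = exi M (φ (e.coeff 1) * a) := by
  rw [Polynomial.eval₂_eq_sum_range' φ (show e.natDegree < max M (e.natDegree + 1) by omega)]
  refine ((Finset.sum_subset (Finset.range_mono (le_max_left _ _)) fun t _ ht => ?_).symm).trans ?_
  · obtain ⟨r, rfl⟩ := Nat.le.dest (not_lt.1 fun h => ht (Finset.mem_range.2 h))
    rw [pow_add, ha, zero_mul, mul_zero]
  · refine Finset.sum_congr rfl fun t ht => ?_
    rw [he t (Finset.mem_range.1 ht), map_mul, map_pow, map_inv_fact hQ φ, mul_pow]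
    ring

end Coeff

theorem QInv.left (hU : QInv Γ(U.left, ⊤)) (g : V ⟶ U) : QInv Γ(V.left, ⊤) := hU.map g.left.appTop.hom

theorem isNilpotent_mul_gaFn {a : Γ(U.left, ⊤)} (ha : IsNilpotent a) (g : V ⟶ U) (x : V ⟶ Red.Ga S) :
    IsNilpotent (g.left.appTop a * Red.gaFn x) :=
  (Commute.all _ _).isNilpotent_mul_right (ha.map g.left.appTop.hom)

theorem exists_qchiPt (hU : QInv Γ(U.left, ⊤)) {a : Γ(U.left, ⊤)} (ha : IsNilpotent a) (g : V ⟶ U)
    (x : V ⟶ Red.Ga S) : ∃ t : V ⟶ Red.Gm S, Red.gmFn t = nex (g.left.appTop a * Red.gaFn x) :=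
  RedPts82.gmFn_surjective (isUnit_nex (hU.left g) (isNilpotent_mul_gaFn ha g x))

/-- The character `exp(a X)`. -/
def qchi (hU : QInv Γ(U.left, ⊤)) (a : Γ(U.left, ⊤)) (ha : IsNilpotent a) : Chr U :=
  mkComp (fun _ g => AddMonoidHom.mk' (fun z => ULift.up (Additive.ofMul (exists_qchiPt hU ha g z.down.toMul).choose))
    fun z z' => ULift.ext _ _ (congrArg Additive.ofMul (RedPts82.gmFn_injective
      ((exists_qchiPt hU ha g (z.down.toMul * z'.down.toMul)).choose_spec.trans (by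
        refine Eq.trans ?_ (RedPts82.gmFn_mul _ _).symm
        refine Eq.trans ?_ (congrArg₂ (· * ·) (exists_qchiPt hU ha g z.down.toMul).choose_spec
          (exists_qchiPt hU ha g z'.down.toMul).choose_spec).symm
        rw [RedPts82.gaFn_mul, mul_add]
        exact (nex_add (hU.left g) (isNilpotent_mul_gaFn ha g _) (isNilpotent_mul_gaFn ha g _)).symm)))))
    fun _ _ h g z => ULift.ext _ _ (congrArg Additive.ofMul (RedPts82.gmFn_injective (by
      refine (RedPts82.gmFn_comp h _).trans ?_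
      refine ((congrArg h.left.appTop.hom (exists_qchiPt hU ha g z.down.toMul).choose_spec).trans ?_).trans
        (exists_qchiPt hU ha (h ≫ g) (h ≫ z.down.toMul)).choose_spec.symm
      rw [map_nex (hU.left g) _ (isNilpotent_mul_gaFn ha g _), map_mul, RedPts82.gaFn_comp]
      rfl)))

theorem gv_qchi (hU : QInv Γ(U.left, ⊤)) (a : Γ(U.left, ⊤)) (ha : IsNilpotent a) (g : V ⟶ U)
    (x : V ⟶ Red.Ga S) : gv (qchi hU a ha) g x = nex (g.left.appTop a * Red.gaFn x) :=
  (exists_qchiPt hU ha g x).choose_spec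

theorem qchi_zero (hU : QInv Γ(U.left, ⊤)) : qchi hU 0 IsNilpotent.zero = 0 :=
  dual_ext fun W g x => by rw [gv_qchi, map_zero, zero_mul, nex_zero, gv_zero]

theorem qchi_map (hU : QInv Γ(U.left, ⊤)) (a : Γ(U.left, ⊤)) (ha : IsNilpotent a) {U' : Over S}
    (h : U' ⟶ U) (hU' : QInv Γ(U'.left, ⊤)) (a' : Γ(U'.left, ⊤)) (e : h.left.appTop a = a')
    (ha' : IsNilpotent a') :
    (DGa S).obj.map h.op (homSect (qchi hU a ha)) = homSect (qchi hU' a' ha') :=
  dual_ext fun W g x => by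
    rw [gv_map, gv_qchi, gv_qchi, ← e]
    rfl

theorem qchi_add (hU : QInv Γ(U.left, ⊤)) (a b : Γ(U.left, ⊤)) (ha : IsNilpotent a) (hb : IsNilpotent b) :
    qchi hU a ha + qchi hU b hb = qchi hU (a + b) ((Commute.all a b).isNilpotent_add ha hb) :=
  dual_ext fun W g x => by
    rw [gv_add, gv_qchi, gv_qchi, gv_qchi, map_add, add_mul,
      nex_add (hU.left g) (isNilpotent_mul_gaFn ha g x) (isNilpotent_mul_gaFn hb g x)]

section Affine

variable {A : Type u} [CommRing A] {j : Spec (CommRingCat.of A) ⟶ S}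

theorem qinv_sp (hA : QInv A) {D : Type u} [CommRing D] [Algebra A D] : QInv Γ((sp j D).left, ⊤) :=
  hA.map ((Scheme.ΓSpecIso (CommRingCat.of D)).inv.hom.comp (algebraMap A D))

/-- Every character over an affine base is a basic character. -/
theorem exists_decomp_q (hA : QInv A) (ψ : Chr (sp j A)) :
    ∃ (a : A) (ha : IsNilpotent (ι₀ (j := j) a)), ψ = qchi (qinv_sp hA) (ι₀ (j := j) a) ha := by
  classical
  obtain ⟨tX, htX⟩ := coA_surjective (S := S)
    (k := Spec.map (CommRingCat.ofHom (algebraMap A (Polynomial A))) ≫ j) (Polynomial.X : Polynomial A)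
  let F : Polynomial A := coM (comp' ψ (spMap j (Algebra.ofId A (Polynomial A))) (gaEl tX)).down.toMul
  have hgv : ∀ {W : Over S} (g : W ⟶ sp j A) (x : W ⟶ Red.Ga S),
      gv ψ g x = Polynomial.eval₂ (appj g) (Red.gaFn x) F := by
    intro W g x
    obtain ⟨m, hm⟩ := exists_ptj (A := Polynomial A) g (Polynomial.eval₂RingHom (appj g) (Red.gaFn x))
      (fun r => Polynomial.eval₂_C _ _)
    have h1 : m ≫ spMap j (Algebra.ofId A (Polynomial A)) = g := ptj_ext (RingHom.ext fun r => by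
      rw [appj_spMap, hm]
      exact Polynomial.eval₂_C _ _)
    have h2 : m ≫ tX = x := RedPts82.gaFn_injective (by
      rw [gaFn_appj, hm, htX]
      exact Polynomial.eval₂_X _ _)
    rw [← h1, ← h2, ← gv_nat, h1, h2]
    show m.left.appTop (Red.gmFn _) = _
    rw [← RedPts82.gmFn_comp, gmFn_appj, hm]
    rfl
  have h0 : F.coeff 0 = 1 := by
    apply ι₀_injective (j := j)
    have h := (gv_one ψ (spMap j (Algebra.ofId A A))).symm.trans (hgv _ 1)
    rw [RedPts82.gaFn_one, show (0 : Γ((sp j A).left, ⊤)) = ι₀ (j := j) (0 : A) from (map_zero _).symm,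
      eval₂_ι₀, Polynomial.aeval_def, Polynomial.eval₂_at_zero, Algebra.algebraMap_self] at h
    exact h.symm.trans (map_one _).symm
  have hadd : Polynomial.aeval (MvPolynomial.X 0 : MvPolynomial (Fin 2) A) F *
      Polynomial.aeval (MvPolynomial.X 1 : MvPolynomial (Fin 2) A) F =
      Polynomial.aeval (MvPolynomial.X 0 + MvPolynomial.X 1 : MvPolynomial (Fin 2) A) F := by
    apply ι₀_injective (j := j)
    obtain ⟨x₀, hx₀⟩ := coA_surjective (S := S)
      (k := Spec.map (CommRingCat.ofHom (algebraMap A (MvPolynomial (Fin 2) A))) ≫ j)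
      (MvPolynomial.X 0 : MvPolynomial (Fin 2) A)
    obtain ⟨x₁, hx₁⟩ := coA_surjective (S := S)
      (k := Spec.map (CommRingCat.ofHom (algebraMap A (MvPolynomial (Fin 2) A))) ≫ j)
      (MvPolynomial.X 1 : MvPolynomial (Fin 2) A)
    have h := gv_mul ψ (spMap j (Algebra.ofId A (MvPolynomial (Fin 2) A))) x₀ x₁
    rw [hgv, hgv, hgv, RedPts82.gaFn_mul, gaFn_eq_ι₀, gaFn_eq_ι₀, hx₀, hx₁] at h
    rw [show ι₀ (j := j) (MvPolynomial.X 0 : MvPolynomial (Fin 2) A) + ι₀ (j := j) (MvPolynomial.X 1) =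
      ι₀ (j := j) (MvPolynomial.X 0 + MvPolynomial.X 1) from (map_add _ _ _).symm, eval₂_ι₀, eval₂_ι₀, eval₂_ι₀] at h
    exact (map_mul _ _ _).trans h.symm
  have hc : ∀ i, F.coeff i = Ring.inverse (i.factorial : A) * F.coeff 1 ^ i := fun i =>
    coeff_forced_q hA F F h0 (N := i + 1) (fun r s _ _ => by
      rw [← coeff_prod_e2, hadd, coeff_aeval_add]) i i.lt_succ_self
  have hnil : F.coeff 1 ^ (F.natDegree + 1) = 0 := by
    have h := hc (F.natDegree + 1)
    rw [Polynomial.coeff_eq_zero_of_natDegree_lt (Nat.lt_succ_self _)] at h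
    exact (IsUnit.mul_right_eq_zero (hA.fact _).ringInverse).1 h.symm
  refine ⟨F.coeff 1, ⟨F.natDegree + 1, (map_pow _ _ _).symm.trans ((congrArg _ hnil).trans (map_zero _))⟩,
    dual_ext fun W g x => ?_⟩
  rw [hgv, gv_qchi, show g.left.appTop (ι₀ (j := j) (F.coeff 1)) = appj g (F.coeff 1) from rfl]
  have hz : (appj g (F.coeff 1) * Red.gaFn x) ^ (F.natDegree + 1) = 0 := by
    rw [mul_pow, ← map_pow, hnil, map_zero, zero_mul]
  rw [nex_eq hz, exi, Polynomial.eval₂_eq_sum_range]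
  refine Finset.sum_congr rfl fun t _ => ?_
  rw [hc t, map_mul, map_pow, map_inv_fact hA, mul_pow]
  ring

end Affine

theorem qinv_obj {T : Over S} (hS : QInv Γ(S, ⊤)) : QInv Γ(T.left, ⊤) := hS.map T.hom.appTop.hom

theorem qinv_affine {T : Over S} (hS : QInv Γ(S, ⊤)) (V : T.left.affineOpens) : QInv Γ(T.left, V) :=
  (qinv_obj (T := T) hS).map (T.left.presheaf.map (homOfLE (le_top : (V : T.left.Opens) ≤ ⊤)).op).hom

theorem fnl_ext_qchi (hS : QInv Γ(S, ⊤)) {T : Over S} {φ φ' : Fnl T}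
    (h : ∀ (U : Over S) (f : U ⟶ T) (hU : QInv Γ(U.left, ⊤)) (a : Γ(U.left, ⊤)) (ha : IsNilpotent a),
      vv φ f (qchi hU a ha) = vv φ' f (qchi hU a ha)) : φ = φ' := by
  refine comp'_ext fun U f ψ => ?_
  obtain ⟨h1, h2, h3⟩ := affPiece_props U
  refine section_ext _ (fun V : U.left.affineOpens => affPiece V) h1 h2 h3 fun V => ?_
  rw [comp'_natural, comp'_natural]
  apply ULift.ext
  apply congrArg Additive.ofMul
  apply RedPts82.gmFn_injective
  show vv φ (affPiece V ≫ f) ((DGa S).obj.map (affPiece V).op ψ) =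
    vv φ' (affPiece V ≫ f) ((DGa S).obj.map (affPiece V).op ψ)
  obtain ⟨a, ha, hd⟩ := exists_decomp_q (qinv_affine hS V) ((DGa S).obj.map (affPiece V).op ψ)
  rw [hd]
  exact h _ _ _ _ _

/-- The truncated polynomial ring in one variable. -/
abbrev Bn (A : Type u) [CommRing A] (N : ℕ) : Type u := AdjoinRoot (Polynomial.X ^ N : Polynomial A)

theorem root_Bn (A : Type u) [CommRing A] (N : ℕ) :
    AdjoinRoot.root (Polynomial.X ^ N : Polynomial A) ^ N = 0 := by
  rw [← AdjoinRoot.mk_X, ← map_pow, AdjoinRoot.mk_self]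

theorem exists_evPt_affine_q (hS : QInv Γ(S, ⊤)) {A : Type u} [CommRing A] (hA : QInv A)
    (j : Spec (CommRingCat.of A) ⟶ S) (φ : Fnl (sp j A)) : ∃ x : sp j A ⟶ Red.Ga S, evPt x = φ := by
  have hBn : ∀ N, IsNilpotent (ι₀ (j := j) (D := Bn A N) (AdjoinRoot.root _)) := fun N =>
    ⟨N, (map_pow _ _ _).symm.trans ((congrArg _ (root_Bn A N)).trans (map_zero _))⟩
  choose e he using fun N : ℕ => AdjoinRoot.mk_surjective (g := (Polynomial.X ^ (N + 2) : Polynomial A))
    ((Scheme.ΓSpecIso (CommRingCat.of (Bn A (N + 2)))).hom (vv φ (spMap j (Algebra.ofId A (Bn A (N + 2))))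
      (qchi (qinv_sp hA) (ι₀ (j := j) (D := Bn A (N + 2)) (AdjoinRoot.root _)) (hBn (N + 2)))))
  have hval : ∀ {U : Over S} (f : U ⟶ sp j A) (hU : QInv Γ(U.left, ⊤)) (N : ℕ) (a : Γ(U.left, ⊤))
      (ha : a ^ (N + 2) = 0), vv φ f (qchi hU a ⟨_, ha⟩) = Polynomial.eval₂ (appj f) a (e N) := by
    intro U f hU N a ha
    let φB : Bn A (N + 2) →+* Γ(U.left, ⊤) := AdjoinRoot.lift (appj f) a
      (by rw [Polynomial.eval₂_pow, Polynomial.eval₂_X, ha])
    obtain ⟨m, hm⟩ := exists_ptj (A := Bn A (N + 2)) f φB (fun r => AdjoinRoot.lift_of _)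
    have h1 : m ≫ spMap j (Algebra.ofId A (Bn A (N + 2))) = f := ptj_ext (RingHom.ext fun r => by
      rw [appj_spMap, hm]
      exact AdjoinRoot.lift_of _)
    have h2 : m.left.appTop (ι₀ (j := j) (D := Bn A (N + 2)) (AdjoinRoot.root _)) = a :=
      (congr($hm (AdjoinRoot.root _))).trans (AdjoinRoot.lift_root _)
    have h3 := vv_nat φ m (spMap j (Algebra.ofId A (Bn A (N + 2))))
      (qchi (qinv_sp hA) (ι₀ (j := j) (D := Bn A (N + 2)) (AdjoinRoot.root _)) (hBn _))
    rw [qchi_map (qinv_sp hA) _ (hBn _) m hU a h2 ⟨_, ha⟩, h1] at h3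
    rw [← h3]
    have h4 : vv φ (spMap j (Algebra.ofId A (Bn A (N + 2))))
        (qchi (qinv_sp hA) (ι₀ (j := j) (D := Bn A (N + 2)) (AdjoinRoot.root _)) (hBn _)) =
        ι₀ (j := j) (D := Bn A (N + 2)) (AdjoinRoot.mk _ (e N)) := by
      rw [he N]
      exact ((Scheme.ΓSpecIso (CommRingCat.of (Bn A (N + 2)))).commRingCatIsoToRingEquiv.symm_apply_apply _).symm
    rw [h4]
    refine (congr($hm (AdjoinRoot.mk _ (e N)))).trans ?_
    exact AdjoinRoot.lift_mk _ _
  have h0 : ∀ N, (e N).coeff 0 = 1 := by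
    intro N
    apply ι₀_injective (j := j) (D := A)
    have hz : (0 : Γ((sp j A).left, ⊤)) ^ (N + 2) = 0 := zero_pow (by omega)
    have h := (hval (spMap j (Algebra.ofId A A)) (qinv_sp hA) N 0 hz)
    rw [qchi_zero, vv_zero, Polynomial.eval₂_at_zero, appj_spMap_ofId] at h
    exact h.symm.trans (map_one _).symm
  have hone : ∀ N, (e N).coeff 1 = (e 0).coeff 1 := by
    intro N
    have hr : ι₀ (j := j) (D := Bn A 2) (AdjoinRoot.root _) ^ 2 = 0 :=
      (map_pow _ _ _).symm.trans ((congrArg _ (root_Bn A 2)).trans (map_zero _))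
    have hr' : ι₀ (j := j) (D := Bn A 2) (AdjoinRoot.root _) ^ (N + 2) = 0 := by
      rw [pow_add, hr, mul_zero]
    have h := (hval (spMap j (Algebra.ofId A (Bn A 2))) (qinv_sp hA) N _ hr').symm.trans
      (hval (spMap j (Algebra.ofId A (Bn A 2))) (qinv_sp hA) 0 _ hr)
    rw [eval₂_ι₀, eval₂_ι₀] at h
    have h' := ι₀_injective (j := j) (D := Bn A 2) h
    rw [AdjoinRoot.aeval_eq, AdjoinRoot.aeval_eq, AdjoinRoot.mk_eq_mk, Polynomial.X_pow_dvd_iff] at h'
    simpa [sub_eq_zero] using h' 1 (by omega)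
  have hrel : ∀ N i, i < N + 2 → (e N).coeff i = Ring.inverse (i.factorial : A) * (e N).coeff 1 ^ i := by
    intro N
    refine coeff_forced_q hA (e N) (e (2 * N + 2)) (h0 N) fun i k hi hk => ?_
    let P2 := MvPolynomial (Fin 2) A
    let R' := P2 ⧸ box (N + 2) A 2
    let π : P2 →ₐ[A] R' := Ideal.Quotient.mkₐ A (box (N + 2) A 2)
    let a := π (MvPolynomial.X 0)
    let b := π (MvPolynomial.X 1)
    have hXp : ∀ l : Fin 2, π (MvPolynomial.X l) ^ (N + 2) = 0 := fun l => by
      rw [← map_pow]; exact Ideal.Quotient.eq_zero_iff_mem.2 (Ideal.subset_span (Set.mem_range_self l))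
    have ha' : ι₀ (j := j) a ^ (N + 2) = 0 :=
      (map_pow _ _ _).symm.trans ((congrArg _ (hXp 0)).trans (map_zero _))
    have hb' : ι₀ (j := j) b ^ (N + 2) = 0 :=
      (map_pow _ _ _).symm.trans ((congrArg _ (hXp 1)).trans (map_zero _))
    have hab : (ι₀ (j := j) a + ι₀ (j := j) b) ^ (2 * N + 2 + 2) = 0 := by
      rw [show 2 * N + 2 + 2 = (N + 2) + (N + 2) by omega]
      exact (Commute.all _ _).add_pow_eq_zero_of_add_le_succ_of_pow_eq_zero ha' hb' (by omega)
    have h := congrArg (vv φ (spMap j (Algebra.ofId A R')))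
      (qchi_add (qinv_sp hA (D := R')) _ _ ⟨_, ha'⟩ ⟨_, hb'⟩)
    rw [vv_add, hval _ _ _ _ ha', hval _ _ _ _ hb', hval _ _ _ _ hab] at h
    rw [show ι₀ (j := j) a + ι₀ (j := j) b = ι₀ (j := j) (a + b) from (map_add _ _ _).symm, eval₂_ι₀, eval₂_ι₀,
      eval₂_ι₀] at h
    have h' : Polynomial.aeval a (e N) * Polynomial.aeval b (e N) = Polynomial.aeval (a + b) (e (2 * N + 2)) :=
      ι₀_injective (j := j) (D := R') ((map_mul _ _ _).trans h)
    rw [show a + b = π (MvPolynomial.X 0 + MvPolynomial.X 1) from (map_add π _ _).symm,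
      Polynomial.aeval_algHom_apply, Polynomial.aeval_algHom_apply, Polynomial.aeval_algHom_apply, ← map_mul] at h'
    have hd : ∀ l : Fin 2, (e2 i k) l < N + 2 := fun l => by fin_cases l <;> simp [e2] <;> omega
    have := (mem_box_iff _).1 (Ideal.Quotient.eq.1 h') (e2 i k) hd
    rw [MvPolynomial.coeff_sub, coeff_prod_e2, coeff_aeval_add, sub_eq_zero] at this
    exact this
  obtain ⟨x, hx⟩ := coA_surjective (S := S)
    (k := Spec.map (CommRingCat.ofHom (algebraMap A A)) ≫ j) ((e 0).coeff 1)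
  refine ⟨x, fnl_ext_qchi hS fun U f hU a ha => ?_⟩
  obtain ⟨n, hn⟩ := ha
  have hn2 : a ^ (n + 2) = 0 := by rw [pow_add, hn, zero_mul]
  rw [vv_evPt, gv_qchi, hval f hU n a hn2, gaFn_appj, hx, eval₂_eq_exi hA _ hn2 _ (hrel n), hone n,
    show (𝟙 U : U ⟶ U).left.appTop a = a by simp, mul_comm a]
  exact nex_eq (by rw [mul_pow, hn2, mul_zero])

theorem evPt_injective_q (hS : QInv Γ(S, ⊤)) {T : Over S} {x y : T ⟶ Red.Ga S} (h : evPt x = evPt y) :
    x = y := by
  suffices gaEl x = gaEl y from congrArg (fun z => z.down.toMul) this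
  obtain ⟨h1, h2, h3⟩ := affPiece_props T
  refine section_ext _ (fun V : T.left.affineOpens => affPiece V) h1 h2 h3 fun V => ?_
  let A := Γ(T.left, V)
  let j : Spec (CommRingCat.of A) ⟶ S := V.2.fromSpec ≫ T.hom
  have hA : QInv A := qinv_affine hS V
  apply ULift.ext
  apply congrArg Additive.ofMul
  show affPiece V ≫ x = affPiece V ≫ y
  apply coA_injective
  let B := Bn A 2
  let q : sp j B ⟶ sp j A := spMap j (Algebra.ofId A B)
  have hB2 : ι₀ (j := j) (D := B) (AdjoinRoot.root _) ^ 2 = 0 :=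
    (map_pow _ _ _).symm.trans ((congrArg _ (root_Bn A 2)).trans (map_zero _))
  have hv := congrArg (fun φ => vv φ (q ≫ affPiece V)
    (qchi (qinv_sp hA) (ι₀ (j := j) (D := B) (AdjoinRoot.root _)) ⟨2, hB2⟩)) h
  simp only [vv_evPt, gv_qchi, Category.assoc, gaFn_appj] at hv
  have hk : ∀ z : A, nex ((𝟙 (sp j B) : sp j B ⟶ sp j B).left.appTop (ι₀ (j := j) (D := B) (AdjoinRoot.root _)) *
      appj q z) = ι₀ (j := j) (D := B) (AdjoinRoot.mk _ (1 + Polynomial.C z * Polynomial.X)) := by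
    intro z
    rw [show appj q z = ι₀ (j := j) (algebraMap A B z) from appj_spMap_ofId z,
      show (𝟙 (sp j B) : sp j B ⟶ sp j B).left.appTop (ι₀ (j := j) (D := B) (AdjoinRoot.root _)) =
        ι₀ (j := j) (D := B) (AdjoinRoot.root _) by simp,
      nex_eq (k := 2) (by rw [mul_pow, hB2, zero_mul]), exi, Finset.sum_range_succ, Finset.sum_range_one,
      pow_zero, pow_one, Nat.factorial_zero, Nat.factorial_one, Nat.cast_one, Ring.inverse_one, _root_.one_mul,
      _root_.one_mul]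
    refine (congrArg₂ (· + ·) (map_one (Scheme.ΓSpecIso (CommRingCat.of B)).inv.hom).symm
      (map_mul (Scheme.ΓSpecIso (CommRingCat.of B)).inv.hom _ _).symm).trans ?_
    refine (map_add (Scheme.ΓSpecIso (CommRingCat.of B)).inv.hom _ _).symm.trans (congrArg _ ?_)
    rw [map_add, map_one, map_mul, AdjoinRoot.mk_C, AdjoinRoot.mk_X, AdjoinRoot.algebraMap_eq, mul_comm]
  rw [hk, hk] at hv
  have hr := AdjoinRoot.mk_eq_mk.1 (ι₀_injective (j := j) (D := B) hv)
  rw [Polynomial.X_pow_dvd_iff] at hr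
  simpa [sub_eq_zero] using hr 1 (by omega)

theorem exists_evPt_q (hS : QInv Γ(S, ⊤)) {T : Over S} (φ : Fnl T) : ∃ x : T ⟶ Red.Ga S, evPt x = φ := by
  obtain ⟨h1, h2, h3⟩ := affPiece_props T
  let D2 := CGrpSh2.dualSh Scheme.fppfPrecoverage (DGa S)
  let β := CGrpSh2.toDoubleDual Scheme.fppfPrecoverage (CGrpSh2.Ga Scheme.fppfPrecoverage S)
  have hx : ∀ V : T.left.affineOpens, ∃ z : (CGrpSh2.Ga Scheme.fppfPrecoverage S).obj.obj
      (op (sp (V.2.fromSpec ≫ T.hom) Γ(T.left, V))),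
      β.hom.app _ z = D2.obj.map (affPiece V).op (homSect φ) := fun V => by
    obtain ⟨x, hx⟩ := exists_evPt_affine_q hS (qinv_affine hS V) _
      (D2.obj.map (affPiece V).op (homSect φ))
    exact ⟨gaEl x, hx⟩
  choose z hz using hx
  obtain ⟨y, hy⟩ := section_glue _ (fun V : T.left.affineOpens => affPiece V) h1 h2 h3 z (fun i k Z g g' e => by
    have hi : β.hom.app (op Z) ((CGrpSh2.Ga Scheme.fppfPrecoverage S).obj.map g.op (z i)) =
        β.hom.app (op Z) ((CGrpSh2.Ga Scheme.fppfPrecoverage S).obj.map g'.op (z k)) := by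
      rw [hom_app_map, hom_app_map, hz, hz, map_map, map_map, e]
    exact ULift.ext _ _ (congrArg Additive.ofMul (evPt_injective_q hS hi)))
  refine ⟨y.down.toMul, ?_⟩
  show β.hom.app (op T) y = homSect φ
  refine section_ext D2 (fun V : T.left.affineOpens => affPiece V) h1 h2 h3 fun V => ?_
  rw [← hom_app_map, hy, hz]

/-- The double duality map of the additive group is an isomorphism in characteristic zero. -/
theorem isIso_toDoubleDual_q (hS : QInv Γ(S, ⊤)) :
    IsIso (CGrpSh2.toDoubleDual Scheme.fppfPrecoverage (CGrpSh2.Ga Scheme.fppfPrecoverage S)) := by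
  let β := CGrpSh2.toDoubleDual Scheme.fppfPrecoverage (CGrpSh2.Ga Scheme.fppfPrecoverage S)
  have hb : ∀ T, IsIso (β.hom.app T) := fun T => by
    refine (ConcreteCategory.isIso_iff_bijective _).2 ⟨fun z z' h => ?_, fun φ => ?_⟩
    · exact ULift.ext _ _ (congrArg Additive.ofMul (evPt_injective_q hS (T := T.unop) h))
    · obtain ⟨x, hx⟩ := exists_evPt_q hS (T := T.unop) φ
      exact ⟨gaEl x, hx⟩
  haveI : IsIso β.hom := NatIso.isIso_of_isIso_app _
  haveI : IsIso ((sheafToPresheaf _ _).map β) := this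
  exact isIso_of_reflects_iso β (sheafToPresheaf _ _)

end Groth.Agent.GaExt25
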