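import Groth.Agent.GaExt25.HomCalc
import Mathlib.Algebra.Homology.ShortComplex.Ab
import Mathlib.CategoryTheory.Abelian.RightDerived
import Mathlib.CategoryTheory.Sites.EpiMono

/-!
The first Ext sheaf vanishes as soon as homomorphisms lift locally along extensions.
-/

set_option autoImplicit false
universe u

open CategoryTheory CategoryTheory.Limits Opposite

noncomputable section

namespace Groth.Agent.GaExt25

variable {C : Type (u + 1)} [Category.{u} C] {J : GrothendieckTopology C}
  [HasSheafify J AddCommGrpCat.{u + 1}]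

theorem sh_injective {A B : Sheaf J AddCommGrpCat.{u + 1}} (a : A ⟶ B) [Mono a] (U : C) :
    Function.Injective (a.hom.app (op U)) := by
  have : Mono a.hom := inferInstanceAs (Mono ((sheafToPresheaf _ _).map a))
  exact (AddCommGrpCat.mono_iff_injective (a.hom.app (op U))).1 inferInstance

/-- A morphism of restrictions killed by a second map factors through the kernel of that map. -/
theorem exists_factor_over {F A B D : Sheaf J AddCommGrpCat.{u + 1}} {i : A ⟶ B} [Mono i] {d : B ⟶ D} {T : C}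
    (φ : F.over T ⟶ B.over T)
    (h : ∀ (U : C) (f : U ⟶ T) (x : F.obj.obj (op U)),
      ∃ y : A.obj.obj (op U), i.hom.app (op U) y = comp' φ f x) :
    ∃ φ' : F.over T ⟶ A.over T, ∀ (U : C) (f : U ⟶ T) (x : F.obj.obj (op U)),
      i.hom.app (op U) (comp' φ' f x) = comp' φ f x := by
  choose y hy using h
  refine ⟨mkComp (fun U f => AddMonoidHom.mk' (y U f) fun x x' => sh_injective i U (by
    rw [map_add, hy, hy, hy, map_add])) fun U V g f x => sh_injective i V ?_, fun U f x => hy U f x⟩
  show i.hom.app (op V) (A.obj.map g.op (y U f x)) = i.hom.app (op V) (y V (g ≫ f) (F.obj.map g.op x))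
  rw [NatTrans.naturality_apply, hy, hy, comp'_natural]

variable [HasInjectiveResolutions (Sheaf J AddCommGrpCat.{u + 1})]

theorem isZero_extSh_one_of_local_lift (F G : Sheaf J AddCommGrpCat.{u + 1})
    (h : ∀ (E Q : Sheaf J AddCommGrpCat.{u + 1}) (a : G ⟶ E) (b : E ⟶ Q) (w : a ≫ b = 0),
      (ShortComplex.mk a b w).ShortExact → ∀ (T : C) (φ : F.over T ⟶ Q.over T),
        ∃ R ∈ J T, ∀ ⦃T' : C⦄ (g : T' ⟶ T), R.arrows g → ∃ ψ : F.over T' ⟶ E.over T',
          ∀ (U : C) (f : U ⟶ T') (x : F.obj.obj (op U)),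
            b.hom.app (op U) (comp' ψ f x) = comp' φ (f ≫ g) x) :
    IsZero ((HomSh.extSh J F 1).obj G) := by
  rw [HomSh.extSh_def]
  let I : InjectiveResolution G := (HasInjectiveResolutions.out G).out.some
  refine IsZero.of_iso ?_ (I.isoRightDerivedObj (HomSh.homShFunctor J F) 1)
  let K := ((HomSh.homShFunctor J F).mapHomologicalComplex (ComplexShape.up ℕ)).obj I.cocomplex
  show IsZero (K.homology 1)
  rw [← HomologicalComplex.exactAt_iff_isZero_homology, K.exactAt_iff' 0 1 2 (by simp) (by simp)]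
  let d₀ := I.cocomplex.d 0 1
  let d₁ := I.cocomplex.d 1 2
  let i : kernel d₁ ⟶ I.cocomplex.X 1 := kernel.ι d₁
  let b : I.cocomplex.X 0 ⟶ kernel d₁ := kernel.lift d₁ d₀ (I.cocomplex.d_comp_d 0 1 2)
  have hbi : b ≫ i = d₀ := kernel.lift_ι _ _ _
  let a : G ⟶ I.cocomplex.X 0 := I.ι.f 0
  have had : a ≫ d₀ = 0 := I.ι_f_zero_comp_complex_d
  have w : a ≫ b = 0 := by
    rw [← cancel_mono i, Category.assoc, hbi, had, zero_comp]
  haveI : Mono a := inferInstanceAs (Mono (I.ι.f 0))
  haveI : Epi b := (ShortComplex.exact_iff_epi_kernel_lift (ShortComplex.mk d₀ d₁ _)).1 (I.exact_succ 0)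
  have hlim : IsLimit (KernelFork.ofι a had) := I.isLimitKernelFork
  have hse : (ShortComplex.mk a b w).ShortExact :=
    { exact := ShortComplex.exact_of_f_is_kernel _ (KernelFork.IsLimit.ofι' a w fun {W} k hk =>
        have hk' : k ≫ d₀ = 0 := by rw [← hbi, ← Category.assoc, hk, zero_comp]
        ⟨hlim.lift (KernelFork.ofι k hk'), Fork.IsLimit.lift_ι hlim⟩) }
  rw [ShortComplex.exact_iff_epi_kernel_lift]
  refine (Sheaf.isLocallySurjective_iff_epi' AddCommGrpCat.{u + 1} _).1 ⟨fun {T} e => ?_⟩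
  let e' : (HomSh.homSh J F (I.cocomplex.X 1)).obj.obj (op T) :=
    (kernel.ι ((HomSh.homShFunctor J F).map d₁)).hom.app (op T) e
  have he' : (HomSh.homShMap J (𝟙 F) d₁).hom.app (op T) e' = 0 :=
    ConcreteCategory.congr_hom (NatTrans.congr_app (congrArg (fun q => q.hom)
      (kernel.condition ((HomSh.homShFunctor J F).map d₁))) (op T)) e
  let φ : F.over T ⟶ (I.cocomplex.X 1).over T := e'
  obtain ⟨φ', hφ'⟩ := exists_factor_over (i := i) (d := d₁) φ (fun U f x => by
    have hz : d₁.hom.app (op U) (comp' φ f x) = 0 := by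
      have := congrArg (fun q => comp' (F := F) (G := I.cocomplex.X 2) q f x) he'
      exact this.trans rfl
    let Φ := sheafToPresheaf J AddCommGrpCat.{u + 1} ⋙ (evaluation _ _).obj (op U)
    exact (ShortComplex.ab_exact_iff ((ShortComplex.mk i d₁ (kernel.condition d₁)).map Φ)).1
      ((ShortComplex.exact_of_f_is_kernel (ShortComplex.mk i d₁ (kernel.condition d₁))
        (kernelIsKernel d₁)).map_of_mono_of_preservesKernel Φ inferInstance inferInstance) (comp' φ f x) hz)
  obtain ⟨R, hR, hRψ⟩ := h _ _ a b w hse T φ'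
  refine J.superset_covering ?_ hR
  intro T' g hg
  obtain ⟨ψ, hψ⟩ := hRψ g hg
  refine ⟨homSect ψ, sh_injective (kernel.ι ((HomSh.homShFunctor J F).map d₁)) T' ?_⟩
  have hl : ∀ k, (kernel.ι ((HomSh.homShFunctor J F).map d₁)).hom.app (op T')
      ((kernel.lift ((HomSh.homShFunctor J F).map d₁) ((HomSh.homShFunctor J F).map d₀)
        (by rw [← Functor.map_comp]; simp [d₀, d₁])).hom.app (op T') k) =
      (HomSh.homShMap J (𝟙 F) d₀).hom.app (op T') k := fun k =>
    ConcreteCategory.congr_hom (NatTrans.congr_app (congrArg (fun q => q.hom)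
      (kernel.lift_ι ((HomSh.homShFunctor J F).map d₁) ((HomSh.homShFunctor J F).map d₀) _)) (op T')) k
  refine (hl _).trans ?_
  refine Eq.trans ?_ (NatTrans.naturality_apply (kernel.ι ((HomSh.homShFunctor J F).map d₁)).hom g.op e).symm
  refine comp'_ext fun U f x => ?_
  show comp' (F := F) (G := I.cocomplex.X 1) ((HomSh.homShMap J (𝟙 F) d₀).hom.app (op T') (homSect ψ)) f x =
    comp' φ (f ≫ g) x
  rw [comp'_homShMap, ← hφ']
  show d₀.hom.app (op U) (comp' ψ f x) = _
  rw [← hψ, ← hbi]
  rfl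

end Groth.Agent.GaExt25
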