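import Groth.Agent.Adeq88.AffineVanish
import Groth.Agent.SpFP87.SourceFppf
import Groth.Agent.RedPts82.Points
import Groth.Prelude.Def_CGrpSh2

/-!
The additive group has no higher fppf cohomology over affine schemes.
-/

set_option autoImplicit false
set_option backward.isDefEq.respectTransparency.types false
universe u

open CategoryTheory CategoryTheory.Limits AlgebraicGeometry Opposite TensorProduct
open Groth.Agent.Adeq88 (Val ap res uM pure uval uval_res adequate_of_pres presUM isIso_of_bijective Pres.ofIso)

noncomputable section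

namespace Groth.Agent.GaExt25

variable {R : CommRingCat.{u}} {Z : Scheme.{u}}

/-- The module giving the structure sheaf. -/
abbrev unitM (R : CommRingCat.{u}) : ModuleCat.{u + 1} R := ModuleCat.of R (ULift.{u + 1} R)

/-- The values of the underlined unit module. -/
def unitVal (B : Adeq.Alg R) : Val (uM (unitM R)) B ≃+ (B : Type u) :=
  (uval (unitM R) B).toAddEquiv.trans
    (((LinearEquiv.lTensor (B : Type u) (ULift.moduleEquiv (R := R) (M := R))).trans (TensorProduct.rid R B)).toAddEquiv)

theorem unitVal_symm_tmul (B : Adeq.Alg R) (b : B) (r : R) :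
    unitVal B ((uval (unitM R) B).symm (b ⊗ₜ[R] ULift.up r)) = r • b := by
  simp [unitVal, ULift.moduleEquiv]

theorem unitVal_smul (B : Adeq.Alg R) (b : B) (x : Val (uM (unitM R)) B) : unitVal B (b • x) = b * unitVal B x := by
  obtain ⟨z, rfl⟩ := (uval (unitM R) B).symm.surjective x
  rw [← (uval (unitM R) B).symm.map_smul]
  induction z using TensorProduct.induction_on with
  | zero => simp
  | tmul b' m =>
    obtain ⟨r⟩ := m
    rw [TensorProduct.smul_tmul', unitVal_symm_tmul, unitVal_symm_tmul, smul_eq_mul, mul_smul_comm]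
  | add x y hx hy => simp only [smul_add, map_add, hx, hy, mul_add]

theorem unitVal_res {B C : Adeq.Alg R} (f : B ⟶ C) (x : Val (uM (unitM R)) B) :
    unitVal C (res (uM (unitM R)) f x) = f.hom (unitVal B x) := by
  obtain ⟨z, rfl⟩ := (uval (unitM R) B).symm.surjective x
  induction z using TensorProduct.induction_on with
  | zero => simp
  | tmul b m =>
    obtain ⟨r⟩ := m
    rw [unitVal_symm_tmul, map_smul, ← unitVal_symm_tmul C (f.hom b) r]
    congr 1
  | add x y hx hy => simp only [map_add, hx, hy]

/-- The unit module is adequate on affine objects. -/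
theorem adequate_unit (a : Spec R ⟶ Z) :
    Adeq.adequate R ((Adeq.toMVF Scheme.fppfPrecoverage a).obj (BigSite.unitMod Scheme.fppfPrecoverage Z)) := by
  let K := Scheme.fppfPrecoverage.{u}
  let G := (Adeq.toMVF K a).obj (BigSite.unitMod K Z)
  let θ : uM (unitM R) ⟶ G := PresheafOfModules.homMk
    { app := fun X => AddCommGrpCat.ofHom
        ((Adeq.toSect K a X.unop.unop).toAddMonoidHom.comp (unitVal X.unop.unop).toAddMonoidHom)
      naturality := fun {X Y} f => by
        ext x
        show Adeq.toSect K a Y.unop.unop (unitVal Y.unop.unop (res (uM (unitM R)) f.unop.unop x)) = _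
        rw [unitVal_res]
        apply ULift.ext
        show ((CommRingCat.ofHom f.unop.unop.hom.toRingHom ≫
            (Scheme.ΓSpecIso (CommRingCat.of Y.unop.unop)).inv)) (unitVal X.unop.unop x) = _
        rw [Scheme.ΓSpecIso_inv_naturality]
        rfl }
    (fun X r x => by
      show Adeq.toSect K a X.unop.unop (unitVal X.unop.unop (r • x)) = _
      rw [unitVal_smul, map_mul]
      rfl)
  haveI : IsIso θ := isIso_of_bijective θ fun B => by
    have h1 : Function.Bijective (Adeq.toSect K a B) :=
      (ULift.ringEquiv.symm).bijective.comp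
        (Scheme.ΓSpecIso (CommRingCat.of B)).commRingCatIsoToRingEquiv.symm.bijective
    exact h1.comp (unitVal B).bijective
  exact adequate_of_pres (Pres.ofIso (presUM (unitM R)) (asIso θ).symm)

/-- The structure sheaf is the additive group. -/
theorem nonempty_unitGaIso (Z : Scheme.{u}) :
    Nonempty ((BigSite.toAbMod Scheme.fppfPrecoverage Z).obj (BigSite.unitMod Scheme.fppfPrecoverage Z) ≅
      CGrpSh2.Ga Scheme.fppfPrecoverage Z) := by
  let e : ∀ T : Over Z, (CGrpSh2.Ga Scheme.fppfPrecoverage Z).obj.obj (op T) ≃+ ULift.{u + 1} Γ(T.left, ⊤) := fun T =>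
    { toFun := fun x => ULift.up (Red.gaFn x.down.toMul)
      invFun := fun y => ULift.up (Additive.ofMul (RedPts82.gaFn_surjective y.down).choose)
      left_inv := fun x => ULift.ext _ _ (congrArg Additive.ofMul
        (RedPts82.gaFn_injective (RedPts82.gaFn_surjective _).choose_spec))
      right_inv := fun y => ULift.ext _ _ (RedPts82.gaFn_surjective _).choose_spec
      map_add' := fun x y => ULift.ext _ _ (RedPts82.gaFn_mul x.down.toMul y.down.toMul) }
  refine ⟨((sheafToPresheaf (QuotSh.J Scheme.fppfPrecoverage Z) AddCommGrpCat.{u + 1}).preimageIso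
    (NatIso.ofComponents (fun T => (e T.unop).toAddCommGrpIso) fun {T T'} g => ?_)).symm⟩
  ext x
  exact ULift.ext _ _ (RedPts82.gaFn_comp g.unop x.down.toMul)

/-- The additive group has no higher fppf cohomology on affine schemes. -/
theorem subsingleton_H_Ga [IsAffine Z] (q : ℕ) (hq : 0 < q) :
    Subsingleton (BigSite.H Scheme.fppfPrecoverage Z (CGrpSh2.Ga Scheme.fppfPrecoverage Z) q) := by
  have : BigSite.OSh (Scheme.precoverage (@Flat ⊓ @LocallyOfFinitePresentation : MorphismProperty Scheme.{u})) :=
    inferInstanceAs (BigSite.OSh Scheme.fppfPrecoverage.{u})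
  haveI := Groth.Agent.SpFP87.isZariskiLocalAtSource_flat_lfp.{u}
  obtain ⟨q, rfl⟩ := Nat.exists_eq_add_one.2 hq
  obtain ⟨i⟩ := nonempty_unitGaIso Z
  have hsub := Groth.Agent.Adeq88.subsingleton_H_adequate Groth.Agent.Adeq88.goodProp_fppf (Z := Z)
    (BigSite.unitMod Scheme.fppfPrecoverage Z)
    (Groth.Agent.Adeq88.adequateMod_of_affine Groth.Agent.Adeq88.goodProp_fppf _ fun R a => adequate_unit a) q
  refine ⟨fun x y => ?_⟩
  have h : x.comp (Abelian.Ext.mk₀ i.inv) (add_zero _) = y.comp (Abelian.Ext.mk₀ i.inv) (add_zero _) :=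
    @Subsingleton.elim _ hsub _ _
  have := congrArg (fun z => z.comp (Abelian.Ext.mk₀ i.hom) (add_zero _)) h
  simpa [Abelian.Ext.comp_assoc_of_second_deg_zero, Abelian.Ext.mk₀_comp_mk₀] using this

end Groth.Agent.GaExt25
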