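import Groth.Agent.GaExt25.HomCalc
import Groth.Agent.GaExt25.ExtVanish
import Mathlib.CategoryTheory.Limits.Shapes.ConcreteCategory
import Mathlib.CategoryTheory.Sites.EpiMono
import Mathlib.CategoryTheory.Sites.SheafCohomology.Basic
import Mathlib.Algebra.Homology.ShortComplex.Ab

/-!
`Ext¹(F, G) = 0` forces `H¹` of the internal Hom `𝓗om(F, G)` to vanish.
-/

set_option autoImplicit false
universe u

open CategoryTheory CategoryTheory.Limits CategoryTheory.Abelian Opposite

noncomputable section

namespace Groth.Agent.GaExt25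

variable {C : Type (u + 1)} [Category.{u} C] {J : GrothendieckTopology C}
  [HasSheafify J AddCommGrpCat.{u + 1}] [HasExt.{u + 1} (Sheaf J AddCommGrpCat.{u + 1})]
  [EnoughInjectives (Sheaf J AddCommGrpCat.{u + 1})]

theorem app_injective {F G : (Sheaf J AddCommGrpCat.{u + 1})} (a : F ⟶ G) [Mono a] (U : C) : Function.Injective (a.hom.app (op U)) := by
  have : Mono a.hom := inferInstanceAs (Mono ((sheafToPresheaf _ _).map a))
  exact (AddCommGrpCat.mono_iff_injective (a.hom.app (op U))).1 inferInstance

theorem exists_preimage {A B D : (Sheaf J AddCommGrpCat.{u + 1})} {a : A ⟶ B} {b : B ⟶ D} {w : a ≫ b = 0}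
    (h : (ShortComplex.mk a b w).ShortExact) {U : C} {x : B.obj.obj (op U)} (hx : b.hom.app (op U) x = 0) :
    ∃ y : A.obj.obj (op U), a.hom.app (op U) y = x := by
  let Φ := sheafToPresheaf J AddCommGrpCat.{u + 1} ⋙ (evaluation _ _).obj (op U)
  exact (ShortComplex.ab_exact_iff ((ShortComplex.mk a b w).map Φ)).1
    (h.exact.map_of_mono_of_preservesKernel Φ h.mono_f inferInstance) x hx

theorem exists_pullback_section {A B D : (Sheaf J AddCommGrpCat.{u + 1})} (f : A ⟶ D) (g : B ⟶ D) {U : C} (x : A.obj.obj (op U))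
    (y : B.obj.obj (op U)) (h : f.hom.app (op U) x = g.hom.app (op U) y) :
    ∃ e : (pullback f g).obj.obj (op U),
      (pullback.fst f g).hom.app (op U) e = x ∧ (pullback.snd f g).hom.app (op U) e = y := by
  let Φ := sheafToPresheaf J AddCommGrpCat.{u + 1} ⋙ (evaluation _ _).obj (op U)
  let z := Concrete.pullbackMk (Φ.map f) (Φ.map g) x y h
  refine ⟨(PreservesPullback.iso Φ f g).inv z, ?_, ?_⟩
  · have := ConcreteCategory.congr_hom (PreservesPullback.iso_inv_fst Φ f g) z
    exact this.trans (Concrete.pullbackMk_fst (Φ.map f) (Φ.map g) x y h)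
  · have := ConcreteCategory.congr_hom (PreservesPullback.iso_inv_snd Φ f g) z
    exact this.trans (Concrete.pullbackMk_snd (Φ.map f) (Φ.map g) x y h)

theorem ab_pullback_ext {A B D : AddCommGrpCat.{u + 1}} (f : A ⟶ D) (g : B ⟶ D) {x y : (pullback f g : AddCommGrpCat.{u + 1})}
    (h1 : pullback.fst f g x = pullback.fst f g y) (h2 : pullback.snd f g x = pullback.snd f g y) : x = y := by
  obtain ⟨x₁, x₂, hx, rfl⟩ := Concrete.pullbackMk_surjective f g x
  obtain ⟨y₁, y₂, hy, rfl⟩ := Concrete.pullbackMk_surjective f g y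
  rw [Concrete.pullbackMk_fst, Concrete.pullbackMk_fst] at h1
  rw [Concrete.pullbackMk_snd, Concrete.pullbackMk_snd] at h2
  subst h1 h2
  rfl

section Retraction

variable {H W : (Sheaf J AddCommGrpCat.{u + 1})} {a : H ⟶ W} {b : W ⟶ ZSh J} {w : a ≫ b = 0} (hse : (ShortComplex.mk a b w).ShortExact)
  {T : C} {w₀ : W.obj.obj (op T)} (hw₀ : b.hom.app (op T) w₀ = zOne J T)
include hse hw₀

theorem section_comp : kapAt W w₀ ≫ (J.overPullback _ T).map b = 𝟙 ((ZSh J).over T) := by
  refine zOne_ext fun U f => ?_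
  rw [comp'_comp, comp'_over_map, kapAt_zOne, NatTrans.naturality_apply, hw₀]
  exact zOne_map f

theorem exists_retraction : ∃ r : W.over T ⟶ H.over T, ∀ (U : C) (f : U ⟶ T) (x : W.obj.obj (op U)),
    a.hom.app (op U) (comp' r f x) = x - comp' (kapAt W w₀) f (b.hom.app (op U) x) := by
  haveI : Mono a := hse.mono_f
  have hex : ∀ (U : C) (f : U ⟶ T) (x : W.obj.obj (op U)), ∃ h : H.obj.obj (op U),
      a.hom.app (op U) h = x - comp' (kapAt W w₀) f (b.hom.app (op U) x) := by
    intro U f x
    refine exists_preimage hse ?_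
    rw [map_sub, sub_eq_zero]
    have e : comp' ((kapAt W w₀) ≫ (J.overPullback _ T).map b) f (b.hom.app (op U) x) = b.hom.app (op U) x := by
      rw [section_comp hse hw₀]
      rfl
    exact (e.symm.trans (by rw [comp'_comp, comp'_over_map]))
  choose h hh using hex
  refine ⟨mkComp (fun U f => AddMonoidHom.mk' (h U f) fun x y => app_injective a U (by
    rw [map_add, hh, hh, hh, map_add, map_add]; abel)) fun U V g f x => app_injective a V ?_, fun U f x => hh U f x⟩
  show a.hom.app (op V) (H.obj.map g.op (h U f x)) = a.hom.app (op V) (h V (g ≫ f) (W.obj.map g.op x))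
  rw [NatTrans.naturality_apply, hh, hh, map_sub, comp'_natural, NatTrans.naturality_apply]

end Retraction

/-- If `Ext¹(F, G) = 0`, every extension of `ℤ` by `𝓗om(F, G)` splits. -/
theorem exists_splitting_homSh {F G : (Sheaf J AddCommGrpCat.{u + 1})} [Subsingleton (Ext F G 1)] (W : (Sheaf J AddCommGrpCat.{u + 1})) (a : HomSh.homSh J F G ⟶ W)
    (b : W ⟶ ZSh J) (w : a ≫ b = 0) (hse : (ShortComplex.mk a b w).ShortExact) :
    ∃ σ : ZSh J ⟶ W, σ ≫ b = 𝟙 _ := by
  haveI : Mono a := hse.mono_f
  haveI : Sheaf.IsLocallySurjective b :=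
    (Sheaf.isLocallySurjective_iff_epi' AddCommGrpCat.{u + 1} b).2 hse.epi_g
  have hlift : ∀ T : C, ∃ R ∈ J T, ∀ ⦃T' : C⦄ (g : T' ⟶ T), R.arrows g →
      ∃ w₀ : W.obj.obj (op T'), b.hom.app (op T') w₀ = zOne J T' := fun T =>
    ⟨_, Presheaf.imageSieve_mem J b.hom (U := op T) (zOne J T), fun T' g ⟨t, ht⟩ =>
      ⟨t, ht.trans (zOne_map g)⟩⟩
  let q : HomSh.homSh J W G ⟶ HomSh.homSh J (HomSh.homSh J F G) G := HomSh.homShMap J a (𝟙 G)
  let β : F ⟶ HomSh.homSh J (HomSh.homSh J F G) G := HomSh.bidualMap J F G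
  let pb : HomSh.homSh J (ZSh J) G ⟶ HomSh.homSh J W G := HomSh.homShMap J b (𝟙 G)
  -- the extension of `F` by `𝓗om(ℤ, G)`
  let i : HomSh.homSh J (ZSh J) G ⟶ pullback q β := pullback.lift pb 0 (by
    rw [zero_comp]
    refine Sheaf.hom_ext (NatTrans.ext (funext fun T => AddCommGrpCat.ext fun φ => ?_))
    refine comp'_ext fun U f h => ?_
    show comp' (F := HomSh.homSh J F G) (G := G) ((HomSh.homShMap J a (𝟙 G)).hom.app T
      (homSect ((HomSh.homShMap J b (𝟙 G)).hom.app T φ))) f h = 0
    rw [comp'_homShMap, comp'_homShMap]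
    have : b.hom.app (op U) (a.hom.app (op U) h) = 0 := by
      show (a ≫ b).hom.app (op U) h = 0
      rw [w]; rfl
    rw [this, map_zero]
    exact map_zero _)
  have hi : i ≫ pullback.snd q β = 0 := pullback.lift_snd _ _ _
  have hinj : ∀ U : C, Function.Injective (pb.hom.app (op U)) := by
    intro U φ ψ hφψ
    refine comp'_ext fun V f z => ?_
    obtain ⟨R, hR, hRb⟩ : ∃ R ∈ J V, ∀ ⦃V' : C⦄ (g : V' ⟶ V), R.arrows g →
        ∃ x, b.hom.app (op V') x = (ZSh J).obj.map g.op z :=
      ⟨_, Presheaf.imageSieve_mem J b.hom (U := op V) z, fun V' g ⟨t, ht⟩ => ⟨t, ht⟩⟩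
    refine sep G hR fun V' g hg => ?_
    obtain ⟨x, hx⟩ := hRb g hg
    rw [comp'_natural, comp'_natural, ← hx]
    have h1 := congrArg (fun ξ => comp' (F := W) (G := G) ξ (g ≫ f) x) hφψ
    exact h1
  have hse' : (ShortComplex.mk i (pullback.snd q β) hi).ShortExact := by
    refine { exact := ?_, mono_f := ?_, epi_g := ?_ }
    · rw [ShortComplex.exact_iff_epi_kernel_lift]
      refine (Sheaf.isLocallySurjective_iff_epi' AddCommGrpCat.{u + 1} _).1 ⟨fun {T} e => ?_⟩
      let e' : (pullback q β).obj.obj (op T) := (kernel.ι (pullback.snd q β)).hom.app (op T) e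
      have he' : (pullback.snd q β).hom.app (op T) e' = 0 :=
        ConcreteCategory.congr_hom (NatTrans.congr_app (congrArg (fun φ => φ.hom)
          (kernel.condition (pullback.snd q β))) (op T)) e
      let ψ : W.over T ⟶ G.over T := (pullback.fst q β).hom.app (op T) e'
      have hψ : ∀ (U : C) (f : U ⟶ T) (h : (HomSh.homSh J F G).obj.obj (op U)),
          comp' ψ f (a.hom.app (op U) h) = 0 := by
        intro U f h
        have h1 : q.hom.app (op T) ((pullback.fst q β).hom.app (op T) e') =
            β.hom.app (op T) ((pullback.snd q β).hom.app (op T) e') :=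
          ConcreteCategory.congr_hom (NatTrans.congr_app (congrArg (fun φ => φ.hom)
            (pullback.condition (f := q) (g := β))) (op T)) e'
        rw [he', map_zero] at h1
        exact congrArg (fun ξ => comp' (F := HomSh.homSh J F G) (G := G) ξ f h) h1
      obtain ⟨R, hR, hRw⟩ := hlift T
      refine J.superset_covering ?_ hR
      intro T' g hg
      obtain ⟨w₀, hw₀⟩ := hRw g hg
      obtain ⟨r, hr⟩ := exists_retraction hse hw₀
      refine ⟨homSect (kapAt W w₀ ≫ ((HomSh.homSh J W G).obj.map g.op ψ : W.over T' ⟶ G.over T')), ?_⟩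
      apply app_injective (kernel.ι (pullback.snd q β)) T'
      rw [NatTrans.naturality_apply]
      have hl : ∀ k, (kernel.ι (pullback.snd q β)).hom.app (op T') ((kernel.lift (pullback.snd q β) i hi).hom.app
          (op T') k) = i.hom.app (op T') k := fun k =>
        ConcreteCategory.congr_hom (NatTrans.congr_app (congrArg (fun φ => φ.hom)
          (kernel.lift_ι (pullback.snd q β) i hi)) (op T')) k
      rw [hl]
      let Φ := sheafToPresheaf J AddCommGrpCat.{u + 1} ⋙ (evaluation _ _).obj (op T')
      have hext : ∀ u v : (pullback q β).obj.obj (op T'),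
          (pullback.fst q β).hom.app (op T') u = (pullback.fst q β).hom.app (op T') v →
          (pullback.snd q β).hom.app (op T') u = (pullback.snd q β).hom.app (op T') v → u = v := by
        intro u v h1 h2
        apply ((PreservesPullback.iso Φ q β).addCommGroupIsoToAddEquiv).injective
        refine ab_pullback_ext (Φ.map q) (Φ.map β) ?_ ?_
        · refine Eq.trans ?_ (Eq.trans h1 ?_)
          · exact ConcreteCategory.congr_hom (PreservesPullback.iso_hom_fst Φ q β) u
          · exact (ConcreteCategory.congr_hom (PreservesPullback.iso_hom_fst Φ q β) v).symm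
        · refine Eq.trans ?_ (Eq.trans h2 ?_)
          · exact ConcreteCategory.congr_hom (PreservesPullback.iso_hom_snd Φ q β) u
          · exact (ConcreteCategory.congr_hom (PreservesPullback.iso_hom_snd Φ q β) v).symm
      apply hext
      · have h1 : ∀ k, (pullback.fst q β).hom.app (op T') (i.hom.app (op T') k) = pb.hom.app (op T') k := fun k =>
          ConcreteCategory.congr_hom (NatTrans.congr_app (congrArg (fun φ => φ.hom)
            (pullback.lift_fst (f := q) (g := β) pb 0 _)) (op T')) k
        rw [h1, NatTrans.naturality_apply]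
        refine comp'_ext fun U f x => ?_
        show comp' (F := W) (G := G) ((HomSh.homShMap J b (𝟙 G)).hom.app (op T') (homSect _)) f x = _
        rw [comp'_homShMap]
        show comp' (kapAt W w₀ ≫ ((HomSh.homSh J W G).obj.map g.op ψ : W.over T' ⟶ G.over T')) f
          (b.hom.app (op U) x) = comp' ((HomSh.homSh J W G).obj.map g.op ψ : W.over T' ⟶ G.over T') f x
        rw [comp'_comp]
        have h2 := congrArg (comp' ((HomSh.homSh J W G).obj.map g.op ψ : W.over T' ⟶ G.over T') f) (hr U f x)
        rw [map_sub] at h2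
        have h3 : comp' ((HomSh.homSh J W G).obj.map g.op ψ : W.over T' ⟶ G.over T') f
            (a.hom.app (op U) (comp' r f x)) = 0 := hψ U (f ≫ g) _
        rw [h3, eq_comm, sub_eq_zero] at h2
        exact h2.symm
      · have h1 : ∀ k, (pullback.snd q β).hom.app (op T') (i.hom.app (op T') k) = 0 := fun k =>
          ConcreteCategory.congr_hom (NatTrans.congr_app (congrArg (fun φ => φ.hom) hi) (op T')) k
        rw [h1, NatTrans.naturality_apply, he', map_zero]
    · haveI : Mono pb := by
        refine ⟨fun {Z} u v huv => Sheaf.hom_ext (NatTrans.ext (funext fun U => AddCommGrpCat.ext fun x =>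
          hinj (unop U) ?_))⟩
        exact ConcreteCategory.congr_hom (NatTrans.congr_app (congrArg (fun φ => φ.hom) huv) U) x
      exact mono_of_mono_fac (pullback.lift_fst (f := q) (g := β) pb 0 _)
    · refine (Sheaf.isLocallySurjective_iff_epi' AddCommGrpCat.{u + 1} _).1 ⟨fun {T} x => ?_⟩
      obtain ⟨R, hR, hRw⟩ := hlift T
      refine J.superset_covering ?_ hR
      intro T' g hg
      obtain ⟨w₀, hw₀⟩ := hRw g hg
      obtain ⟨r, hr⟩ := exists_retraction hse hw₀
      let ψ : W.over T' ⟶ G.over T' := r ≫ β.hom.app (op T') (F.obj.map g.op x)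
      obtain ⟨e, -, he⟩ := exists_pullback_section q β (homSect ψ) (F.obj.map g.op x) (by
        refine comp'_ext fun U f h => ?_
        show comp' (F := HomSh.homSh J F G) (G := G) ((HomSh.homShMap J a (𝟙 G)).hom.app (op T') (homSect ψ)) f h = _
        rw [comp'_homShMap]
        show comp' ψ f (a.hom.app (op U) h) = comp' (F := HomSh.homSh J F G) (G := G)
          (β.hom.app (op T') (F.obj.map g.op x)) f h
        rw [comp'_comp]
        congr 1
        apply app_injective a U
        rw [hr]
        have : b.hom.app (op U) (a.hom.app (op U) h) = 0 := by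
          show (a ≫ b).hom.app (op U) h = 0
          rw [w]; rfl
        rw [this, map_zero, sub_zero])
      exact ⟨e, he⟩
  -- split it
  haveI hK : Subsingleton (Ext F (HomSh.homSh J (ZSh J) G) 1) := subsingleton_of_forall_eq 0 fun e => by
    rw [← Ext.comp_mk₀_id e, ← evOne_kap, ← Ext.mk₀_comp_mk₀, ← Ext.comp_assoc_of_second_deg_zero,
      Subsingleton.elim (e.comp (Ext.mk₀ (evOne G)) (add_zero 1)) 0, Ext.zero_comp]
  obtain ⟨s, hs⟩ := Ext.covariant_sequence_exact₃ F hse' (Ext.mk₀ (𝟙 F)) (zero_add 1) (Subsingleton.elim _ _)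
  obtain ⟨s, rfl⟩ := (Ext.mk₀_bijective F _).2 s
  rw [Ext.mk₀_comp_mk₀] at hs
  have hs' : s ≫ pullback.snd q β = 𝟙 F := (Ext.mk₀_bijective _ _).1 hs
  let θ : F ⟶ HomSh.homSh J W G := s ≫ pullback.fst q β
  have hθ : θ ≫ q = β := by
    rw [Category.assoc, pullback.condition, ← Category.assoc, hs', Category.id_comp]
  let ρ : W ⟶ HomSh.homSh J F G := HomSh.bidualMap J W G ≫ HomSh.homShMap J θ (𝟙 G)
  have hρ : a ≫ ρ = 𝟙 _ := by
    refine Sheaf.hom_ext (NatTrans.ext (funext fun T => AddCommGrpCat.ext fun h => ?_))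
    refine comp'_ext fun U f x => ?_
    show comp' (F := F) (G := G) ((HomSh.homShMap J θ (𝟙 G)).hom.app T
      (homSect ((HomSh.bidualMap J W G).hom.app T (a.hom.app T h)))) f x = comp' (F := F) (G := G) h f x
    rw [comp'_homShMap]
    have hq : q.hom.app (op U) (θ.hom.app (op U) x) = β.hom.app (op U) x :=
      ConcreteCategory.congr_hom (NatTrans.congr_app (congrArg (fun φ => φ.hom) hθ) (op U)) x
    show comp' (F := HomSh.homSh J W G) (G := G) ((HomSh.bidualMap J W G).hom.app (op (unop T))
      (a.hom.app T h)) f (homSect (θ.hom.app (op U) x)) = comp' (F := F) (G := G) h f x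
    refine (comp'_bidual (a.hom.app T h) f _).trans ?_
    refine (congrArg _ (NatTrans.naturality_apply a.hom f.op h).symm).trans ?_
    have h3 := congrArg (fun ξ => comp' (F := HomSh.homSh J F G) (G := G) ξ (𝟙 U)
      ((HomSh.homSh J F G).obj.map f.op h)) hq
    refine h3.trans ?_
    show comp' (F := HomSh.homSh J F G) (G := G) ((HomSh.bidualMap J F G).hom.app (op U) x) (𝟙 U)
      (homSect ((HomSh.homSh J F G).obj.map f.op h)) = _
    rw [comp'_bidual, op_id, CategoryTheory.Functor.map_id]
    exact congrArg (fun k => comp' (F := F) (G := G) h k x) (Category.id_comp f)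
  refine ⟨(ShortComplex.Splitting.ofExactOfRetraction (ShortComplex.mk a b w) hse.exact ρ hρ hse.epi_g).s,
    (ShortComplex.Splitting.ofExactOfRetraction (ShortComplex.mk a b w) hse.exact ρ hρ hse.epi_g).s_g⟩

/-- `Ext¹(F, G) = 0` forces `H¹(𝓗om(F, G)) = 0`. -/
theorem H1_homSh_subsingleton {F G : (Sheaf J AddCommGrpCat.{u + 1})} [Subsingleton (Ext F G 1)] :
    Subsingleton (Sheaf.H (HomSh.homSh J F G) 1) :=
  ext_one_subsingleton_of_split fun W a b w h => exists_splitting_homSh W a b w h

end Groth.Agent.GaExt25
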