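import Groth.Agent.GaExt25.Zariski
import Groth.Agent.GaExt25.Along

/-!
Sections killed by `p` over an affine line lift after adjoining finitely many roots to the base.
-/

set_option autoImplicit false
universe u

open CategoryTheory CategoryTheory.Limits AlgebraicGeometry Opposite TensorProduct MonObj
open Groth.Agent.Sga84 (sp spMap spMap_comp coM coM_comp coM_mul coM_injective coM_isUnit coM_surjective)
open Algebra.TensorProduct (includeLeft includeRight)

noncomputable section

namespace Groth.Agent.GaExt25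

variable {S : Scheme.{u}}

/-- The map of affine lines of a change of base. -/
abbrev polMap {A A' : Type u} [CommRing A] [CommRing A'] [Algebra A A'] : Polynomial A →ₐ[A] Polynomial A' :=
  { Polynomial.mapRingHom (algebraMap A A') with
    commutes' := fun a => Polynomial.map_C _ }

theorem appj_comp_of_left {R R' : Type u} [CommRing R] [CommRing R'] {j : Spec (CommRingCat.of R) ⟶ S}
    {j' : Spec (CommRingCat.of R') ⟶ S} {A B : Type u} [CommRing A] [Algebra R A] [CommRing B] [Algebra R' B]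
    {Z : Over S} (m : Z ⟶ sp j' B) (q : sp j' B ⟶ sp j A) (φ : A →+* B)
    (hq : q.left = Spec.map (CommRingCat.ofHom φ)) (a : A) : appj (m ≫ q) a = appj m (φ a) := by
  have e := congr($(Scheme.ΓSpecIso_inv_naturality (CommRingCat.ofHom φ)) a)
  show (m.left ≫ q.left).appTop _ = m.left.appTop _
  rw [hq, Scheme.Hom.comp_appTop, ConcreteCategory.comp_apply]
  exact congrArg (m.left.appTop ·) e.symm

theorem GmExt.Lift.exists_lift_after {F : BigSite.Ab Scheme.fppfPrecoverage S} {X : GmExt F} {R : Type u}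
    [CommRing R] {j : Spec (CommRingCat.of R) ⟶ S} {x : F.obj.obj (op (sp j R))} (L : X.Lift j x)
    (y : X.E.obj.obj (op (sp j L.C))) (hy : X.proj y = F.obj.map (toBase j L.C).op x)
    (g : sp j (L.C ⊗[R] L.C) ⟶ Red.Gm S)
    (hg : X.E.obj.map (spMap j (includeRight : L.C →ₐ[R] L.C ⊗[R] L.C)).op y =
        X.incl g + X.E.obj.map (spMap j (includeLeft : L.C →ₐ[R] L.C ⊗[R] L.C)).op y)
    (B : Type u) [CommRing B] [Algebra R B] {n : ℕ} (m : Fin n → L.C) (t : Fin n → B)
    (hm : ∀ i, (1 : L.C) ⊗ₜ[R] m i = coM g * (m i ⊗ₜ 1))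
    (hunit : ∀ (D : Type u) [CommRing D] (χ : L.C →+* D) (ψ : B →+* D),
      (∀ r, ψ (algebraMap R B r) = χ (algebraMap R L.C r)) → IsUnit (∑ i, ψ (t i) * χ (m i))) :
    ∃ e : X.E.obj.obj (op (sp j B)), X.proj e = F.obj.map (toBase j B).op x := by
  let ψ : ∀ k, L.C →ₐ[R] B ⊗[R] L.A k := fun k => includeRight.comp (L.ev k)
  let fam : ∀ k, sp j (B ⊗[R] L.A k) ⟶ sp j B := fun k => spMap j includeLeft
  let il : ∀ k, B →ₐ[R] B ⊗[R] L.A k := fun k => includeLeft
  let c : ∀ k, B ⊗[R] L.A k := fun k => ∑ i, il k (t i) * ψ k (m i)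
  have hu : ∀ k, IsUnit (c k) := fun k => hunit _ (ψ k).toRingHom (il k).toRingHom (fun r =>
    ((il k).commutes r).trans ((ψ k).commutes r).symm)
  choose τ hτ using fun k =>
    coM_surjective (k := Spec.map (CommRingCat.ofHom (algebraMap R (B ⊗[R] L.A k))) ≫ j) (hu k)
  have hfam : ∀ k, spMap j (ψ k) ≫ toBase j L.C = fam k ≫ toBase j B := fun k => by
    rw [spMap_comp, spMap_comp]; congr 1; ext
  let z : ∀ k, X.E.obj.obj (op (sp j (B ⊗[R] L.A k))) := fun k =>
    X.E.obj.map (spMap j (ψ k)).op y - X.incl (τ k)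
  obtain ⟨e, he⟩ := section_glue X.E fam
    (fun k => (baseChange_props j).1 (L.flat k)) (fun k => (baseChange_props j).2 (L.fp k))
    (baseChange_surj j L.A L.surj) z (fun i l Z a b hab => by
      obtain ⟨w, hm1, hm2⟩ : ∃ w : Z ⟶ sp j (L.C ⊗[R] L.C),
          w ≫ spMap j includeLeft = a ≫ spMap j (ψ i) ∧ w ≫ spMap j includeRight = b ≫ spMap j (ψ l) := by
        apply exists_tensor_lift
        rw [Category.assoc, Category.assoc, hfam, hfam, ← Category.assoc, ← Category.assoc, hab]
      have hk : b ≫ τ l = (w ≫ g) * (a ≫ τ i) := by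
        apply RedPts82.gmFn_injective
        rw [RedPts82.gmFn_mul, gmFn_appj, gmFn_appj, gmFn_appj, hτ, hτ, map_sum, map_sum, Finset.mul_sum]
        refine Finset.sum_congr rfl fun s _ => ?_
        rw [map_mul, map_mul, ← appj_spMap b (il l), ← appj_spMap a (il i),
          ← appj_spMap b (ψ l), ← appj_spMap a (ψ i), ← hm1, ← hm2, appj_spMap w, appj_spMap w,
          show b ≫ spMap j (il l) = a ≫ spMap j (il i) from hab.symm]
        rw [show (includeRight : L.C →ₐ[R] L.C ⊗[R] L.C) (m s) = coM g * (m s ⊗ₜ 1) from hm s, map_mul]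
        show _ = _ * (_ * appj w (m s ⊗ₜ[R] (1 : L.C)))
        ring
      have h2 := congrArg (X.E.obj.map w.op ·) hg
      simp only [map_add, map_map, X.incl_comp, hm1, hm2] at h2
      simp only [z, map_sub, map_map, X.incl_comp]
      rw [h2, hk, X.incl_mul]
      abel)
  refine ⟨e, section_ext F fam (fun k => (baseChange_props j).1 (L.flat k))
    (fun k => (baseChange_props j).2 (L.fp k)) (baseChange_surj j L.A L.surj) fun k => ?_⟩
  rw [← X.proj_map, he, map_map, ← hfam, ← map_map, ← hy, X.proj_sub, X.proj_incl, sub_zero, X.proj_map]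

/-- The base of a relative spectrum. -/
abbrev relBase {A : Type u} [CommRing A] (j : Spec (CommRingCat.of A) ⟶ S) (R : Type u) [CommRing R] [Algebra A R] :
    Spec (CommRingCat.of R) ⟶ S :=
  Spec.map (CommRingCat.ofHom (algebraMap A R)) ≫ j

/-- A relative spectrum seen over itself. -/
def selfOver {A : Type u} [CommRing A] (j : Spec (CommRingCat.of A) ⟶ S) (R : Type u) [CommRing R] [Algebra A R] :
    sp (relBase j R) R ⟶ sp j R :=
  Over.homMk (show (sp (relBase j R) R).left ⟶ (sp j R).left from 𝟙 (Spec (CommRingCat.of R))) (by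
    show (𝟙 (Spec (CommRingCat.of R)) ≫ Spec.map (CommRingCat.ofHom (algebraMap A R)) ≫ j) =
      Spec.map (CommRingCat.ofHom (algebraMap R R)) ≫ Spec.map (CommRingCat.ofHom (algebraMap A R)) ≫ j
    have h : Spec.map (CommRingCat.ofHom (algebraMap R R)) = 𝟙 (Spec (CommRingCat.of R)) :=
      (congrArg Spec.map (rfl : CommRingCat.ofHom (algebraMap R R) = 𝟙 (CommRingCat.of R))).trans (Spec.map_id _)
    rw [h])

/-- Change of the base along a tower. -/
def towerOver {A : Type u} [CommRing A] (j : Spec (CommRingCat.of A) ⟶ S) (R B : Type u) [CommRing R] [Algebra A R]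
    [CommRing B] [Algebra R B] [Algebra A B] [IsScalarTower A R B] :
    sp j B ⟶ sp (relBase j R) B :=
  Over.homMk (show (sp j B).left ⟶ (sp (relBase j R) B).left from 𝟙 (Spec (CommRingCat.of B))) (by
    show 𝟙 (Spec (CommRingCat.of B)) ≫ Spec.map (CommRingCat.ofHom (algebraMap R B)) ≫
      Spec.map (CommRingCat.ofHom (algebraMap A R)) ≫ j = Spec.map (CommRingCat.ofHom (algebraMap A B)) ≫ j
    rw [Category.id_comp, ← Category.assoc, ← Spec.map_comp, ← CommRingCat.ofHom_comp,
      ← IsScalarTower.algebraMap_eq])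

theorem towerOver_comp {A : Type u} [CommRing A] (j : Spec (CommRingCat.of A) ⟶ S) (R B : Type u) [CommRing R]
    [Algebra A R] [CommRing B] [Algebra R B] [Algebra A B] [IsScalarTower A R B] (φ : R →ₐ[A] B)
    (hφ : ∀ r, φ r = algebraMap R B r) :
    towerOver j R B ≫ GmExt.toBase (relBase j R) B ≫ selfOver j R = spMap j φ := by
  apply Over.OverMorphism.ext
  show 𝟙 (Spec (CommRingCat.of B)) ≫ Spec.map (CommRingCat.ofHom (Algebra.ofId R B).toRingHom) ≫
    𝟙 (Spec (CommRingCat.of R)) = Spec.map (CommRingCat.ofHom φ.toRingHom)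
  rw [Category.id_comp, Category.comp_id]
  congr 2
  exact RingHom.ext fun r => (hφ r).symm

namespace GmExt

variable {F : BigSite.Ab Scheme.fppfPrecoverage S} (X : GmExt F)

/-- The cocycle data of a section killed by `p`, and how its trivialisation after a change of base gives a lift. -/
theorem exists_lift_data {p : ℕ} {A R : Type u} [CommRing A] [CommRing R] [Algebra A R]
    (j : Spec (CommRingCat.of A) ⟶ S) (x : F.obj.obj (op (sp j R))) (hx : p • x = 0) :
    ∃ (C : Type u) (_ : CommRing C) (_ : Algebra R C) (_ : Module.FaithfullyFlat R C) (u : C ⊗[R] C) (v : C),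
      IsUnit u ∧ IsUnit v ∧ f13 u = f23 u * f12 u ∧ (1 : C) ⊗ₜ[R] v = u ^ p * (v ⊗ₜ 1) ∧
      ∀ (B : Type u) [CommRing B] [Algebra R B] [Algebra A B] [IsScalarTower A R B] (n : ℕ) (m : Fin n → C)
        (t : Fin n → B), (∀ i, (1 : C) ⊗ₜ[R] m i = u * (m i ⊗ₜ 1)) →
        (∀ (D : Type u) [CommRing D] (χ : C →+* D) (ψ : B →+* D),
          (∀ r, ψ (algebraMap R B r) = χ (algebraMap R C r)) → IsUnit (∑ i, ψ (t i) * χ (m i))) →
        ∀ (φ : R →ₐ[A] B), (∀ r, φ r = algebraMap R B r) →
          ∃ e : X.E.obj.obj (op (sp j B)), X.proj e = F.obj.map (spMap j φ).op x := by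
  let jX : Spec (CommRingCat.of R) ⟶ S := relBase j R
  obtain ⟨L⟩ := X.exists_lift jX (F.obj.map (selfOver j R).op x)
  obtain ⟨y, hy⟩ := L.exists_total
  obtain ⟨g, hg, hcoc⟩ := L.exists_cocycle y hy
  obtain ⟨v, hv⟩ := X.exists_incl (e := p • y) (by
    rw [X.proj_nsmul, hy, ← map_nsmul, ← map_nsmul, hx, map_zero, map_zero])
  have e : spMap jX (includeRight : L.C →ₐ[R] L.C ⊗[R] L.C) ≫ v =
      g ^ p * (spMap jX (includeLeft : L.C →ₐ[R] L.C ⊗[R] L.C) ≫ v) := by
    apply X.incl_injective
    rw [X.incl_mul, X.incl_pow, ← X.incl_comp, ← X.incl_comp, hv, map_nsmul, map_nsmul, hg, nsmul_add]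
  have hpow : ∀ (n : ℕ), coM (g ^ n) = coM g ^ n := by
    intro n
    simp only [coM, Groth.Agent.RedPts82.gmFn_pow, map_pow]
  have e' := congrArg coM e
  rw [coM_mul, hpow, coM_comp _ _ rfl, coM_comp _ _ rfl] at e'
  refine ⟨L.C, inferInstance, inferInstance, L.faithfullyFlat, coM g, coM v, coM_isUnit g, coM_isUnit v, hcoc, e', ?_⟩
  intro B _ _ _ _ n m t hm hunit φ hφ
  obtain ⟨e₁, he₁⟩ := L.exists_lift_after y hy g hg B m t hm hunit
  refine ⟨X.E.obj.map (towerOver j R B).op e₁, ?_⟩
  rw [X.proj_map, he₁, map_map, map_map, Category.assoc,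
    show towerOver j R B ≫ toBase jX B ≫ selfOver j R = spMap j φ from towerOver_comp j R B φ hφ]

/-- A section over the affine line killed by `p` lifts after adjoining roots to the base. -/
theorem exists_lift_along {p : ℕ} [Fact p.Prime] {A : Type u} [CommRing A] (hA : (p : A) = 0)
    (j : Spec (CommRingCat.of A) ⟶ S) (x : F.obj.obj (op (sp j (Polynomial A)))) (hx : p • x = 0) :
    ∃ (A' : Type u) (_ : CommRing A') (_ : Algebra A A'), IsRootExt A A' ∧
      ∃ e : X.E.obj.obj (op (sp j (Polynomial A'))),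
        X.proj e = F.obj.map (spMap j (polMap (A := A) (A' := A'))).op x := by
  obtain ⟨C, _, _, _, u, v, hu, hv, hcoc, huv, H⟩ := X.exists_lift_data j x hx
  obtain ⟨A', _, _, hA', n, m, t, hm, hunit⟩ := exists_coboundary_along p hA (C := C) u hu hcoc v hv huv
  refine ⟨A', inferInstance, inferInstance, hA', ?_⟩
  letI : Algebra (Polynomial A) (Polynomial A') := (Polynomial.mapRingHom (algebraMap A A')).toAlgebra
  haveI : IsScalarTower A (Polynomial A) (Polynomial A') :=
    IsScalarTower.of_algebraMap_eq fun a => (Polynomial.map_C _).symm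
  exact H (Polynomial A') n m t hm hunit polMap (fun r => rfl)

end GmExt

end Groth.Agent.GaExt25
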