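import Groth.Agent.GaExt25.Points
import Groth.Agent.ParaF26.UFD
import Mathlib.RingTheory.Polynomial.UniqueFactorization

/-!
Invertible modules on the affine line over a field are trivial.
-/

set_option autoImplicit false
universe u

open CategoryTheory AlgebraicGeometry MonObj CartesianMonoidalCategory
open Groth.Agent.Sga84 (coA coA_surjective)

noncomputable section

namespace Groth.Agent.GaExt25

theorem pic_Ga_trivial {R : Type u} [CommRing R] [IsDomain R] [UniqueFactorizationMonoid R] [IsNoetherianRing R]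
    (L : (Red.Ga (base R)).left.Modules) (hL : PicF.IsInvertible L) :
    Nonempty (L ≅ Coh.structureModule (Red.Ga (base R)).left) := by
  obtain ⟨xX, hxX⟩ := coA_surjective (S := base R)
    (k := Spec.map (CommRingCat.ofHom (algebraMap R (Polynomial R))) ≫ 𝟙 (base R)) (Polynomial.X : Polynomial R)
  obtain ⟨q, hq⟩ := exists_pt (A := Polynomial R)
    (Polynomial.eval₂RingHom (strFn (Red.Ga (base R))) (Red.gaFn (𝟙 (Red.Ga (base R)))))
    (fun r => Polynomial.eval₂_C _ _)
  have h1 : q ≫ xX = 𝟙 _ := RedPts82.gaFn_injective (by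
    rw [gaFn_comp, hq, hxX]; exact Polynomial.eval₂_X _ _)
  have h2 : xX ≫ q = 𝟙 _ := by
    refine pt_ext {Polynomial.X} Polynomial.adjoin_X ?_
    rintro a rfl
    have h := congrArg Red.gaFn ((Category.assoc xX q xX).trans
      ((congrArg (xX ≫ ·) h1).trans ((Category.comp_id xX).trans (Category.id_comp xX).symm)))
    rwa [gaFn_comp, gaFn_comp, hxX] at h
  let g := q.left
  haveI : IsIso g := ⟨xX.left, congrArg CommaMorphism.left h1, congrArg CommaMorphism.left h2⟩
  let A : CommRingCat.{u} := CommRingCat.of (Polynomial R)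
  have hr : (⊤ : (Spec A).Opens) ≤ g.opensRange := fun x _ => by
    obtain ⟨y, hy⟩ := (ConcreteCategory.bijective_of_isIso g.base).2 x
    exact ⟨y, hy⟩
  obtain ⟨e, he⟩ := ParaF26.exists_frame_of_ufd (A := A) (ParaF26.framedOn_push (X := Spec A) g hL hr)
  exact ParaF26.nonempty_iso_unit ((ParaF26.isFrame_of_push g hr he).res le_rfl)

end Groth.Agent.GaExt25
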