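import Groth.Agent.GaExt25.GaVanish
import Mathlib.Algebra.Homology.DerivedCategory.Ext.ExactSequences
import Mathlib.CategoryTheory.Sites.SheafCohomology.Basic

/-!
Cohomology vanishes along extensions.
-/

set_option autoImplicit false
universe u

open CategoryTheory CategoryTheory.Limits AlgebraicGeometry Opposite CategoryTheory.Abelian

noncomputable section

namespace Groth.Agent.GaExt25

theorem subsingleton_H_of_isZero {Z : Scheme.{u}} {F : BigSite.Ab Scheme.fppfPrecoverage Z} (hF : IsZero F) (q : ℕ) :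
    Subsingleton (BigSite.H Scheme.fppfPrecoverage Z F q) := by
  refine ⟨fun x y => ?_⟩
  show (x : Ext _ _ q) = y
  rw [← Ext.comp_mk₀_id x, ← Ext.comp_mk₀_id y, hF.eq_zero_of_src (𝟙 F), Ext.mk₀_zero, Ext.comp_zero, Ext.comp_zero]

theorem subsingleton_H_of_shortExact {Z : Scheme.{u}} {S : ShortComplex (BigSite.Ab Scheme.fppfPrecoverage Z)}
    (hS : S.ShortExact) (q : ℕ) (h1 : Subsingleton (BigSite.H Scheme.fppfPrecoverage Z S.X₁ q))
    (h3 : Subsingleton (BigSite.H Scheme.fppfPrecoverage Z S.X₃ q)) :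
    Subsingleton (BigSite.H Scheme.fppfPrecoverage Z S.X₂ q) := by
  suffices ∀ x : Ext _ S.X₂ q, x = 0 from ⟨fun x y => (this x).trans (this y).symm⟩
  intro x
  obtain ⟨z, hz⟩ := Ext.covariant_sequence_exact₂ _ hS x (@Subsingleton.elim _ h3 _ _)
  rw [← hz, @Subsingleton.elim _ h1 z 0, Ext.zero_comp]

/-- An iterated extension of additive groups has no higher cohomology over an affine base. -/
theorem subsingleton_H_tower {Z : Scheme.{u}} [IsAffine Z] (n : ℕ) (F : Fin (n + 1) → BigSite.Ab Scheme.fppfPrecoverage Z)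
    (h0 : IsZero (F 0))
    (S : Fin n → ShortComplex (BigSite.Ab Scheme.fppfPrecoverage Z)) (hS : ∀ j, (S j).ShortExact)
    (h1 : ∀ j, (S j).X₁ = F j.castSucc) (h2 : ∀ j, (S j).X₂ = F j.succ)
    (h3 : ∀ j, (S j).X₃ = CGrpSh2.Ga Scheme.fppfPrecoverage Z) (q : ℕ) (hq : 0 < q) :
    ∀ j, Subsingleton (BigSite.H Scheme.fppfPrecoverage Z (F j) q) := by
  intro j
  induction j using Fin.induction with
  | zero => exact subsingleton_H_of_isZero h0 q
  | succ j ih =>
    rw [← h2 j]
    refine subsingleton_H_of_shortExact (hS j) q ?_ ?_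
    · rw [h1 j]; exact ih
    · rw [h3 j]; exact subsingleton_H_Ga q hq

end Groth.Agent.GaExt25
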