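import Groth.Agent.GaExt25.TruncCocycle
import Groth.Agent.GaExt25.Ring

/-!
Truncated exponentials in rings of characteristic `p` and their carry.
-/

set_option autoImplicit false
universe u

open Groth.Agent.GaSplit95 (w ex factorial_ne_zero)

noncomputable section

namespace Groth.Agent.GaExt25

variable {p : ℕ}

/-- The truncated exponential. -/
def exi (p : ℕ) {R : Type*} [CommRing R] (x : R) : R :=
  ∑ t ∈ Finset.range p, Ring.inverse (t.factorial : R) * x ^ t

/-- The coefficients of the carry. -/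
def wR (p : ℕ) (R : Type*) [CommRing R] (t : ℕ) : R :=
  Ring.inverse (t.factorial : R) * Ring.inverse ((p - t).factorial : R)

/-- The carry of the sum of two elements. -/
def carry (p : ℕ) {R : Type*} [CommRing R] (a b : R) : R :=
  ∑ t ∈ Finset.Ioo 0 p, wR p R t * (a ^ t * b ^ (p - t))

variable [hp : Fact p.Prime] {R : Type*} [CommRing R] (hR : (p : R) = 0)
include hR

/-- The algebra structure over the prime field. -/
abbrev zmodAlg : Algebra (ZMod p) R :=
  haveI : CharP R (ringChar R) := ringChar.charP R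
  (ZMod.castHom (ringChar.dvd hR) R).toAlgebra

theorem isUnit_fact' {t : ℕ} (ht : t < p) : IsUnit (t.factorial : R) :=
  isUnit_natCast hR fun h => absurd (hp.out.dvd_factorial.1 h) (not_le.2 ht)

omit hR in
theorem algebraMap_inv_fact [Algebra (ZMod p) R] {t : ℕ} (ht : t < p) :
    algebraMap (ZMod p) R (((t.factorial : ℕ) : ZMod p)⁻¹) = Ring.inverse (t.factorial : R) := by
  have h := congrArg (algebraMap (ZMod p) R) (mul_inv_cancel₀ (factorial_ne_zero (p := p) ht))
  rw [map_mul, map_natCast, map_one] at h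
  have hu : IsUnit (t.factorial : R) := IsUnit.of_mul_eq_one _ h
  refine hu.mul_left_cancel ?_
  rw [h, Ring.mul_inverse_cancel _ hu]

omit hR in
theorem exi_eq_ex [Algebra (ZMod p) R] (x : R) : exi p x = ex p x :=
  Finset.sum_congr rfl fun t ht => by rw [algebraMap_inv_fact (Finset.mem_range.1 ht)]

omit hR in
theorem algebraMap_w [Algebra (ZMod p) R] {t : ℕ} (ht : t ∈ Finset.Ioo 0 p) :
    algebraMap (ZMod p) R (w p t) = wR p R t := by
  have h := Finset.mem_Ioo.1 ht
  rw [w, wR, Nat.cast_mul, mul_inv, map_mul, algebraMap_inv_fact h.2, algebraMap_inv_fact (by omega)]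

theorem map_exi {R' : Type*} [CommRing R'] (e : R →+* R') (x : R) : e (exi p x) = exi p (e x) := by
  simp only [exi, map_sum, map_mul, map_pow]
  refine Finset.sum_congr rfl fun t ht => ?_
  congr 1
  have h := (isUnit_fact' hR (Finset.mem_range.1 ht))
  refine (h.map e).mul_left_cancel ?_
  rw [← map_mul, Ring.mul_inverse_cancel _ h, map_one, map_natCast]
  exact (Ring.mul_inverse_cancel _ (by simpa using h.map e)).symm

theorem map_wR {R' : Type*} [CommRing R'] (e : R →+* R') {t : ℕ} (ht : t ∈ Finset.Ioo 0 p) :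
    e (wR p R t) = wR p R' t := by
  have h := Finset.mem_Ioo.1 ht
  letI := zmodAlg (p := p) hR
  letI : Algebra (ZMod p) R' := (e.comp (algebraMap (ZMod p) R)).toAlgebra
  rw [← algebraMap_w ht, ← algebraMap_w ht]
  rfl

theorem map_carry {R' : Type*} [CommRing R'] (e : R →+* R') (a b : R) :
    e (carry p a b) = carry p (e a) (e b) := by
  simp only [carry, map_sum, map_mul, map_pow]
  exact Finset.sum_congr rfl fun t ht => by rw [map_wR hR e ht]

theorem exi_zero : exi p (0 : R) = 1 := by
  rw [exi, Finset.sum_eq_single_of_mem 0 (Finset.mem_range.2 hp.out.pos) fun t _ ht => by simp [zero_pow ht]]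
  simp

theorem exi_eq_one_add (x : R) : ∃ r, exi p x = 1 + x * r := by
  refine ⟨∑ t ∈ Finset.range (p - 1), Ring.inverse ((t + 1).factorial : R) * x ^ t, ?_⟩
  rw [exi]
  conv_lhs => rw [← Nat.sub_add_cancel hp.out.one_le, Finset.sum_range_succ', add_comm]
  rw [Finset.mul_sum]
  congr 1
  · simp
  · exact Finset.sum_congr rfl fun t _ => by ring

theorem isUnit_exi {x : R} (hx : IsNilpotent x) : IsUnit (exi p x) := by
  obtain ⟨r, hr⟩ := exi_eq_one_add hR x
  rw [hr]
  exact IsNilpotent.isUnit_one_add ((Commute.all _ _).isNilpotent_mul_right hx)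

theorem exi_small {z : R} (hz : z * z = 0) : exi p z = 1 + z := by
  rw [exi, ← Finset.sum_subset (s₁ := {0, 1}) (fun t ht => Finset.mem_range.2 (by
      simp at ht; rcases ht with rfl | rfl <;> linarith [hp.out.two_le]))
    (fun t _ ht => by
      simp only [Finset.mem_insert, Finset.mem_singleton, not_or] at ht
      obtain ⟨s, rfl⟩ : ∃ s, t = s + 2 := ⟨t - 2, by omega⟩
      rw [pow_add, pow_two, hz, mul_zero, mul_zero])]
  simp

theorem exi_mul_eq (a b : R) (hab : ∀ i j, p < i + j → a ^ i * b ^ j = 0) :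
    exi p a * exi p b = exi p (a + b) + carry p a b := by
  letI := zmodAlg (p := p) hR
  rw [exi_eq_ex, exi_eq_ex, exi_eq_ex, ex_mul_ex' a b hab]
  congr 1
  exact Finset.sum_congr rfl fun t ht => by rw [algebraMap_w ht]

theorem exi_mul_of_zero (a b : R) (hab : ∀ i j, p ≤ i + j → a ^ i * b ^ j = 0) :
    exi p a * exi p b = exi p (a + b) := by
  rw [exi_mul_eq hR a b fun i j h => hab i j h.le, carry, Finset.sum_eq_zero, add_zero]
  intro t ht
  have := Finset.mem_Ioo.1 ht
  rw [hab t (p - t) (by omega), mul_zero]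

theorem carry_mul_self (a b : R) (hab : ∀ i j, p < i + j → a ^ i * b ^ j = 0) :
    carry p a b * carry p a b = 0 := by
  rw [carry, Finset.sum_mul_sum]
  refine Finset.sum_eq_zero fun t ht => Finset.sum_eq_zero fun s hs => ?_
  have := Finset.mem_Ioo.1 ht
  have := Finset.mem_Ioo.1 hs
  have h : a ^ (t + s) * b ^ (p - t + (p - s)) = 0 := hab _ _ (by omega)
  linear_combination (wR p R t * wR p R s) * h

theorem carry_mul_add (a b : R) (hab : ∀ i j, p < i + j → a ^ i * b ^ j = 0) :
    carry p a b * (a + b) = 0 := by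
  rw [carry, Finset.sum_mul]
  refine Finset.sum_eq_zero fun t ht => ?_
  have := Finset.mem_Ioo.1 ht
  have h1 : a ^ (t + 1) * b ^ (p - t) = 0 := hab _ _ (by omega)
  have h2 : a ^ t * b ^ (p - t + 1) = 0 := hab _ _ (by omega)
  linear_combination (wR p R t) * h1 + (wR p R t) * h2

theorem carry_pow (a b : R) (hab : ∀ i j, p < i + j → a ^ i * b ^ j = 0) : carry p a b ^ p = 0 := by
  obtain ⟨k, hk⟩ : ∃ k, p = k + 2 := ⟨p - 2, by have := hp.out.two_le; omega⟩
  conv_lhs => arg 2; rw [hk]
  rw [pow_add, pow_two, carry_mul_self hR a b hab, mul_zero]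

/-- Exponentials multiply with a carry. -/
theorem exi_mul_carry (a b Y : R) (hab : ∀ i j, p < i + j → a ^ i * b ^ j = 0) :
    exi p (a * Y) * exi p (b * Y) = exi p ((a + b) * Y) * exi p (carry p a b * Y ^ p) := by
  have h1 : carry p (a * Y) (b * Y) = carry p a b * Y ^ p := by
    rw [carry, carry, Finset.sum_mul]
    refine Finset.sum_congr rfl fun t ht => ?_
    have := Finset.mem_Ioo.1 ht
    obtain ⟨s, rfl⟩ : ∃ s, p = t + s := ⟨p - t, by omega⟩
    rw [Nat.add_sub_cancel_left, mul_pow, mul_pow, pow_add]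
    ring
  rw [exi_mul_eq hR _ _ fun i j h => by rw [mul_pow, mul_pow, mul_mul_mul_comm, hab i j h, zero_mul], h1,
    ← add_mul, exi_small hR (z := carry p a b * Y ^ p)
      (by linear_combination (Y ^ p * Y ^ p) * carry_mul_self hR a b hab)]
  obtain ⟨r, hr⟩ := exi_eq_one_add hR ((a + b) * Y)
  rw [hr]
  linear_combination (-(Y ^ p * Y * r)) * carry_mul_add hR a b hab

end Groth.Agent.GaExt25
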