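import Groth.Agent.GaExt25.Lift
import Groth.Agent.EGA73.LineCocycle
import Groth.Prelude.Def_Pic

/-!
Lifts along an extension by the multiplicative group exist Zariski locally, and globally when every invertible module
is trivial.
-/

set_option autoImplicit false
universe u

open CategoryTheory CategoryTheory.Limits AlgebraicGeometry Opposite TensorProduct MonObj
open Groth.Agent.Sga84 (sp spMap spMap_comp coM coM_comp coM_mul coM_injective coM_isUnit coM_surjective)
open Algebra.TensorProduct (includeLeft includeRight)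

noncomputable section

namespace Groth.Agent.GaExt25

variable {S : Scheme.{u}}

theorem exists_tensor_lift {R C : Type u} [CommRing R] [CommRing C] [Algebra R C] {j : Spec (CommRingCat.of R) ⟶ S}
    {Z : Over S} {a b : Z ⟶ sp j C}
    (h : a ≫ spMap j (Algebra.ofId R C) = b ≫ spMap j (Algebra.ofId R C)) :
    ∃ m : Z ⟶ sp j (C ⊗[R] C), m ≫ spMap j includeLeft = a ∧ m ≫ spMap j includeRight = b := by
  have hw : a.left ≫ Spec.map (CommRingCat.ofHom (algebraMap R C)) =
      b.left ≫ Spec.map (CommRingCat.ofHom (algebraMap R C)) := congrArg CommaMorphism.left h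
  let m := pullback.lift _ _ hw ≫ (pullbackSpecIso R C C).hom
  have e1 : m ≫ (spMap j (includeLeft : C →ₐ[R] C ⊗[R] C)).left = a.left :=
    (Category.assoc _ _ _).trans ((congrArg (pullback.lift _ _ hw ≫ ·) (pullbackSpecIso_hom_fst R C C)).trans
      (pullback.lift_fst _ _ _))
  have e2 : m ≫ (spMap j (includeRight : C →ₐ[R] C ⊗[R] C)).left = b.left :=
    (Category.assoc _ _ _).trans ((congrArg (pullback.lift _ _ hw ≫ ·) (pullbackSpecIso_hom_snd R C C)).trans
      (pullback.lift_snd _ _ _))
  refine ⟨Over.homMk m ?_, Over.OverMorphism.ext e1, Over.OverMorphism.ext e2⟩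
  rw [← Over.w (spMap j (includeLeft : C →ₐ[R] C ⊗[R] C)), ← Category.assoc, e1, Over.w]

/-- An open subscheme as an object over the base. -/
abbrev opn (T : Over S) (U : T.left.Opens) : Over S := Over.mk (U.ι ≫ T.hom)

/-- The inclusion of an open subscheme. -/
abbrev incO (T : Over S) (U : T.left.Opens) : opn T U ⟶ T := Over.homMk U.ι rfl

/-- The inclusion of open subschemes. -/
abbrev resO (T : Over S) {U V : T.left.Opens} (h : U ≤ V) : opn T U ⟶ opn T V :=
  Over.homMk (T.left.homOfLE h) (by simp)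

theorem resO_incO (T : Over S) {U V : T.left.Opens} (h : U ≤ V) : resO T h ≫ incO T V = incO T U :=
  Over.OverMorphism.ext (T.left.homOfLE_ι h)

theorem resO_resO (T : Over S) {U V W : T.left.Opens} (h : U ≤ V) (h' : V ≤ W) :
    resO T h ≫ resO T h' = resO T (h.trans h') :=
  Over.OverMorphism.ext (T.left.homOfLE_homOfLE h h')

theorem exists_factor (T : Over S) {U : T.left.Opens} {Z : Over S} (g : Z ⟶ T)
    (hg : ∀ z : Z.left, g.left z ∈ U) : ∃ g' : Z ⟶ opn T U, g' ≫ incO T U = g := by
  have hr : Set.range g.left ⊆ Set.range U.ι := by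
    rintro _ ⟨z, rfl⟩
    exact ⟨⟨_, hg z⟩, rfl⟩
  refine ⟨Over.homMk (IsOpenImmersion.lift U.ι g.left hr) ?_, Over.OverMorphism.ext ?_⟩
  · show IsOpenImmersion.lift U.ι g.left hr ≫ U.ι ≫ T.hom = Z.hom
    rw [← Category.assoc, IsOpenImmersion.lift_fac]
    exact Over.w g
  · exact IsOpenImmersion.lift_fac _ _ _

theorem incO_mono (T : Over S) (U : T.left.Opens) {Z : Over S} {g g' : Z ⟶ opn T U}
    (h : g ≫ incO T U = g' ≫ incO T U) : g = g' :=
  Over.OverMorphism.ext ((cancel_mono U.ι).1 (congrArg CommaMorphism.left h))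

/-- The function of a point of the multiplicative group over an open subscheme. -/
def gmVal {T : Over S} {U : T.left.Opens} (t : opn T U ⟶ Red.Gm S) : Γ(T.left, U) :=
  U.topIso.hom (Red.gmFn t)

theorem gmVal_res {T : Over S} {U V : T.left.Opens} (h : U ≤ V) (t : opn T V ⟶ Red.Gm S) :
    gmVal (resO T h ≫ t) = T.left.presheaf.map (homOfLE h).op (gmVal t) := by
  rw [gmVal, RedPts82.gmFn_comp]
  have e : (T.left.homOfLE h).appTop ≫ U.topIso.hom = V.topIso.hom ≫ T.left.presheaf.map (homOfLE h).op := by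
    rw [Scheme.homOfLE_appTop]
    simp only [Scheme.Opens.topIso_hom, ← Functor.map_comp]
    refine (T.left.presheaf.map_comp _ _).symm.trans (Eq.trans ?_ (T.left.presheaf.map_comp _ _))
    congr 1
  exact congr($e (Red.gmFn t))

theorem gmVal_mul {T : Over S} {U : T.left.Opens} (t t' : opn T U ⟶ Red.Gm S) :
    gmVal (t * t') = gmVal t * gmVal t' := by
  rw [gmVal, RedPts82.gmFn_mul]; exact map_mul _ _ _

theorem gmVal_one {T : Over S} {U : T.left.Opens} : gmVal (1 : opn T U ⟶ Red.Gm S) = 1 := by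
  rw [gmVal, RedPts82.gmFn_one]; exact map_one _

theorem gmVal_injective {T : Over S} {U : T.left.Opens} {t t' : opn T U ⟶ Red.Gm S} (h : gmVal t = gmVal t') :
    t = t' :=
  RedPts82.gmFn_injective (U.topIso.commRingCatIsoToRingEquiv.injective h)

theorem gmVal_surjective {T : Over S} {U : T.left.Opens} {a : Γ(T.left, U)} (ha : IsUnit a) :
    ∃ t : opn T U ⟶ Red.Gm S, gmVal t = a := by
  obtain ⟨t, ht⟩ := RedPts82.gmFn_surjective (S := S) (X := opn T U) (ha.map U.topIso.inv.hom)
  exact ⟨t, by rw [gmVal, ht]; exact U.topIso.commRingCatIsoToRingEquiv.apply_symm_apply a⟩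

/-- The comorphism of a morphism into the spectrum of an algebra. -/
def appj {R : Type u} [CommRing R] {j : Spec (CommRingCat.of R) ⟶ S} {A : Type u} [CommRing A] [Algebra R A]
    {Z : Over S} (m : Z ⟶ sp j A) : A →+* Γ(Z.left, ⊤) :=
  m.left.appTop.hom.comp (Scheme.ΓSpecIso (CommRingCat.of A)).inv.hom

theorem appj_spMap {R : Type u} [CommRing R] {j : Spec (CommRingCat.of R) ⟶ S} {A B : Type u} [CommRing A]
    [CommRing B] [Algebra R A] [Algebra R B] {Z : Over S} (m : Z ⟶ sp j B) (φ : A →ₐ[R] B) (a : A) :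
    appj (m ≫ spMap j φ) a = appj m (φ a) := by
  have e := congr($(Scheme.ΓSpecIso_inv_naturality (CommRingCat.ofHom φ.toRingHom)) a)
  show (m.left ≫ Spec.map (CommRingCat.ofHom φ.toRingHom)).appTop _ = m.left.appTop _
  rw [Scheme.Hom.comp_appTop, ConcreteCategory.comp_apply]
  exact congrArg (m.left.appTop ·) e.symm

theorem gmFn_appj {R : Type u} [CommRing R] {j : Spec (CommRingCat.of R) ⟶ S} {A : Type u} [CommRing A]
    [Algebra R A] {Z : Over S} (m : Z ⟶ sp j A) (t : sp j A ⟶ Red.Gm S) :
    Red.gmFn (m ≫ t) = appj m (coM t) := by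
  rw [RedPts82.gmFn_comp]
  exact congrArg (m.left.appTop ·) ((Scheme.ΓSpecIso (CommRingCat.of A)).commRingCatIsoToRingEquiv.symm_apply_apply _).symm

theorem baseChange_props {R B A : Type u} [CommRing R] [CommRing B] [CommRing A] [Algebra R B] [Algebra R A]
    (j : Spec (CommRingCat.of R) ⟶ S) :
    (Flat (spMap j (Algebra.ofId R A)).left → Flat (spMap j (includeLeft : B →ₐ[R] B ⊗[R] A)).left) ∧
    (LocallyOfFinitePresentation (spMap j (Algebra.ofId R A)).left →
      LocallyOfFinitePresentation (spMap j (includeLeft : B →ₐ[R] B ⊗[R] A)).left) := by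
  have e : (spMap j (includeLeft : B →ₐ[R] B ⊗[R] A)).left = (pullbackSpecIso R B A).inv ≫ pullback.fst _ _ :=
    (pullbackSpecIso_inv_fst R B A).symm
  refine ⟨fun h => ?_, fun h => ?_⟩
  · have h' : Flat (Spec.map (CommRingCat.ofHom (algebraMap R A))) := h
    have h'' : Flat (pullback.fst (Spec.map (CommRingCat.ofHom (algebraMap R B)))
        (Spec.map (CommRingCat.ofHom (algebraMap R A)))) := MorphismProperty.pullback_fst _ _ h'
    rw [e]
    infer_instance
  · have h' : LocallyOfFinitePresentation (Spec.map (CommRingCat.ofHom (algebraMap R A))) := h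
    have h'' : LocallyOfFinitePresentation (pullback.fst (Spec.map (CommRingCat.ofHom (algebraMap R B)))
        (Spec.map (CommRingCat.ofHom (algebraMap R A)))) := MorphismProperty.pullback_fst _ _ h'
    rw [e]
    infer_instance

theorem baseChange_surj {R B : Type u} [CommRing R] [CommRing B] [Algebra R B] (j : Spec (CommRingCat.of R) ⟶ S)
    {κ : Type u} (A : κ → Type u) [∀ k, CommRing (A k)] [∀ k, Algebra R (A k)]
    (h : ∀ q : (sp j R).left, ∃ k, q ∈ Set.range (spMap j (Algebra.ofId R (A k))).left) (q : (sp j B).left) :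
    ∃ k, q ∈ Set.range (spMap j (includeLeft : B →ₐ[R] B ⊗[R] A k)).left := by
  obtain ⟨k, z, hz⟩ := h ((Spec.map (CommRingCat.ofHom (algebraMap R B))) q)
  obtain ⟨w, hw, -⟩ := Scheme.Pullback.exists_preimage_pullback
    (f := Spec.map (CommRingCat.ofHom (algebraMap R B))) (g := Spec.map (CommRingCat.ofHom (algebraMap R (A k))))
    q z hz.symm
  refine ⟨k, (pullbackSpecIso R B (A k)).hom w, ?_⟩
  rw [← hw, ← Scheme.Hom.comp_apply]
  exact congr($(pullbackSpecIso_hom_fst R B (A k)) w)

namespace GmExt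

variable {F : BigSite.Ab Scheme.fppfPrecoverage S} (X : GmExt F)

/-- A lift over the product with a coboundary that becomes a unit gives a lift after localisation. -/
theorem Lift.exists_lift_of_unit {R : Type u} [CommRing R] {j : Spec (CommRingCat.of R) ⟶ S}
    {x : F.obj.obj (op (sp j R))} (L : X.Lift j x) (y : X.E.obj.obj (op (sp j L.C)))
    (hy : X.proj y = F.obj.map (toBase j L.C).op x) (g : sp j (L.C ⊗[R] L.C) ⟶ Red.Gm S)
    (hg : X.E.obj.map (spMap j (includeRight : L.C →ₐ[R] L.C ⊗[R] L.C)).op y =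
        X.incl g + X.E.obj.map (spMap j (includeLeft : L.C →ₐ[R] L.C ⊗[R] L.C)).op y)
    (f : R) (c : L.C) (hc : (1 : L.C) ⊗ₜ[R] c = coM g * (c ⊗ₜ 1))
    (hunit : ∀ (D : Type u) [CommRing D] (ψ : L.C →+* D), IsUnit (ψ (algebraMap R L.C f)) → IsUnit (ψ c)) :
    ∃ e : X.E.obj.obj (op (sp j (Localization.Away f))),
      X.proj e = F.obj.map (toBase j (Localization.Away f)).op x := by
  let Rf := Localization.Away f
  let ψ : ∀ k, L.C →ₐ[R] Rf ⊗[R] L.A k := fun k => includeRight.comp (L.ev k)
  have hu : ∀ k, IsUnit (ψ k c) := fun k => hunit _ (ψ k).toRingHom (by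
    have h1 : (ψ k).toRingHom (algebraMap R L.C f) =
        (includeLeft : Rf →ₐ[R] Rf ⊗[R] L.A k) (algebraMap R Rf f) := by
      show ψ k (algebraMap R L.C f) = _
      rw [AlgHom.commutes, AlgHom.commutes]
    rw [h1]
    exact (IsLocalization.Away.algebraMap_isUnit f).map _)
  choose t ht using fun k =>
    coM_surjective (k := Spec.map (CommRingCat.ofHom (algebraMap R (Rf ⊗[R] L.A k))) ≫ j) (hu k)
  let fam : ∀ k, sp j (Rf ⊗[R] L.A k) ⟶ sp j Rf := fun k => spMap j includeLeft
  have hfam : ∀ k, spMap j (ψ k) ≫ toBase j L.C = fam k ≫ toBase j Rf := fun k => by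
    rw [spMap_comp, spMap_comp]; congr 1; ext
  let z : ∀ k, X.E.obj.obj (op (sp j (Rf ⊗[R] L.A k))) := fun k =>
    X.E.obj.map (spMap j (ψ k)).op y - X.incl (t k)
  obtain ⟨e, he⟩ := section_glue X.E fam
    (fun k => (baseChange_props j).1 (L.flat k)) (fun k => (baseChange_props j).2 (L.fp k))
    (baseChange_surj j L.A L.surj) z (fun i l Z a b hab => by
      obtain ⟨m, hm1, hm2⟩ : ∃ m : Z ⟶ sp j (L.C ⊗[R] L.C),
          m ≫ spMap j includeLeft = a ≫ spMap j (ψ i) ∧ m ≫ spMap j includeRight = b ≫ spMap j (ψ l) := by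
        apply exists_tensor_lift
        rw [Category.assoc, Category.assoc, hfam, hfam, ← Category.assoc, ← Category.assoc, hab]
      have hk : b ≫ t l = (m ≫ g) * (a ≫ t i) := by
        apply RedPts82.gmFn_injective
        rw [RedPts82.gmFn_mul, gmFn_appj, gmFn_appj, gmFn_appj, ht, ht]
        rw [← appj_spMap a (ψ i), ← appj_spMap b (ψ l), ← hm1, ← hm2, appj_spMap, appj_spMap]
        show appj m ((1 : L.C) ⊗ₜ[R] c) = appj m (coM g) * appj m (c ⊗ₜ[R] (1 : L.C))
        rw [hc, map_mul]
      have h2 := congrArg (X.E.obj.map m.op ·) hg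
      simp only [map_add, map_map, X.incl_comp, hm1, hm2] at h2
      simp only [z, map_sub, map_map, X.incl_comp]
      rw [h2, hk, X.incl_mul]
      abel)
  refine ⟨e, section_ext F fam (fun k => (baseChange_props j).1 (L.flat k))
    (fun k => (baseChange_props j).2 (L.fp k)) (baseChange_surj j L.A L.surj) fun k => ?_⟩
  rw [← X.proj_map, he, map_map, ← hfam, ← map_map, ← hy, X.proj_sub, X.proj_incl, sub_zero, X.proj_map]

/-- Lifts exist after localisation. -/
theorem exists_lift_away {R : Type u} [CommRing R] (j : Spec (CommRingCat.of R) ⟶ S)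
    (x : F.obj.obj (op (sp j R))) (p : PrimeSpectrum R) :
    ∃ f : R, f ∉ p.asIdeal ∧ ∃ e : X.E.obj.obj (op (sp j (Localization.Away f))),
      X.proj e = F.obj.map (toBase j (Localization.Away f)).op x := by
  obtain ⟨L⟩ := X.exists_lift j x
  obtain ⟨y, hy⟩ := L.exists_total
  obtain ⟨g, hg, hcoc⟩ := L.exists_cocycle y hy
  haveI := L.faithfullyFlat
  obtain ⟨f, c, hf, hc, hunit⟩ := Sga84.exists_coboundary_locally (coM g) (coM_isUnit g) hcoc p.asIdeal
  refine ⟨f, hf, ?_⟩
  exact Lift.exists_lift_of_unit X L y hy g hg f c hc hunit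

/-- Lifts exist Zariski locally. -/
theorem exists_lift_nhd (T : Over S) (x : F.obj.obj (op T)) (t : T.left) :
    ∃ (U : T.left.Opens) (_ : t ∈ U) (e : X.E.obj.obj (op (opn T U))),
      X.proj e = F.obj.map (incO T U).op x := by
  obtain ⟨V, hV, htV, -⟩ := exists_isAffineOpen_mem_and_subset (U := (⊤ : T.left.Opens)) (x := t) trivial
  let R := Γ(T.left, V)
  let j : Spec (CommRingCat.of R) ⟶ S := hV.fromSpec ≫ T.hom
  have halg : Spec.map (CommRingCat.ofHom (algebraMap R R)) = 𝟙 (Spec (CommRingCat.of R)) :=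
    (congrArg Spec.map (rfl : CommRingCat.ofHom (algebraMap R R) = 𝟙 (CommRingCat.of R))).trans (Spec.map_id _)
  let π : sp j R ⟶ T := Over.homMk hV.fromSpec (by
    show hV.fromSpec ≫ T.hom = Spec.map (CommRingCat.ofHom (algebraMap R R)) ≫ j
    rw [halg, Category.id_comp])
  obtain ⟨f, hf, e, he⟩ := X.exists_lift_away j (F.obj.map π.op x) (hV.primeIdealOf ⟨t, htV⟩)
  let q : sp j (Localization.Away f) ⟶ T := toBase j (Localization.Away f) ≫ π
  haveI : IsOpenImmersion q.left := by
    have : IsOpenImmersion (toBase j (Localization.Away f)).left :=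
      IsOpenImmersion.of_isLocalization (R := R) (S := Localization.Away f) f
    have : IsOpenImmersion π.left := hV.isOpenImmersion_fromSpec
    show IsOpenImmersion ((toBase j (Localization.Away f)).left ≫ π.left)
    infer_instance
  let U := q.left.opensRange
  have htU : t ∈ U := by
    have hsurj : (⟨(hV.primeIdealOf ⟨t, htV⟩).asIdeal, (hV.primeIdealOf ⟨t, htV⟩).2⟩ : PrimeSpectrum R) ∈
        Set.range (PrimeSpectrum.comap (algebraMap R (Localization.Away f))) := by
      rw [PrimeSpectrum.localization_away_comap_range (Localization.Away f) f]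
      exact hf
    obtain ⟨P, hP⟩ := hsurj
    refine ⟨P, ?_⟩
    show (hV.fromSpec).base _ = t
    exact (congrArg (fun z => hV.fromSpec z) hP).trans (hV.fromSpec_primeIdealOf ⟨t, htV⟩)
  let r : opn T U ⟶ sp j (Localization.Away f) :=
    Over.homMk (IsOpenImmersion.lift q.left U.ι (by rintro _ ⟨z, rfl⟩; exact z.2)) (by
      rw [← Over.w q, ← Category.assoc, IsOpenImmersion.lift_fac]
      rfl)
  refine ⟨U, htU, X.E.obj.map r.op e, ?_⟩
  rw [X.proj_map, he, map_map, map_map]
  refine congrArg (fun m => F.obj.map (Quiver.Hom.op m) x) (Over.OverMorphism.ext ?_)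
  show (r.left ≫ (toBase j (Localization.Away f)).left) ≫ π.left = U.ι
  exact (Category.assoc _ _ _).trans (IsOpenImmersion.lift_fac q.left U.ι _)

open Var76.LineBundle Var76.ZeroScheme Curves2.Glue in
/-- A section lifts globally when every invertible module is trivial. -/
theorem exists_lift_of_pic_trivial (T : Over S)
    (hPic : ∀ L : T.left.Modules, PicF.IsInvertible L → Nonempty (L ≅ Coh.structureModule T.left))
    (x : F.obj.obj (op T)) : ∃ e : X.E.obj.obj (op T), X.proj e = x := by
  choose U htU e he using X.exists_lift_nhd T x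
  have hdiff : ∀ a b : T.left, ∃ t : opn T (U a ⊓ U b) ⟶ Red.Gm S,
      X.incl t = X.E.obj.map (resO T (inf_le_right : U a ⊓ U b ≤ U b)).op (e b) -
        X.E.obj.map (resO T (inf_le_left : U a ⊓ U b ≤ U a)).op (e a) := fun a b => X.exists_incl (by
    rw [X.proj_sub, X.proj_map, X.proj_map, he, he, map_map, map_map, resO_incO, resO_incO, sub_self])
  choose τ hτ using hdiff
  have hres : ∀ (a b : T.left) {A : T.left.Opens} (hA : A ≤ U a ⊓ U b),
      X.incl (resO T hA ≫ τ a b) = X.E.obj.map (resO T (hA.trans inf_le_right)).op (e b) -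
        X.E.obj.map (resO T (hA.trans inf_le_left)).op (e a) := by
    intro a b A hA
    rw [← X.incl_comp, hτ, map_sub, map_map, map_map, resO_resO, resO_resO]
  obtain ⟨N, g, hN, hg, hgg⟩ := EGA73.exists_lineBundle (X := T.left) (W := U) (fun t => ⟨t, htU t⟩)
    (fun a b => gmVal (τ a b))
    (fun a => by
      have h : τ a a = 1 := X.incl_injective _ (by rw [hτ, sub_self, X.incl_one])
      rw [h, gmVal_one])
    (fun a b c A h1 h2 h3 => by
      show T.left.presheaf.map _ (gmVal (τ a b)) * T.left.presheaf.map _ (gmVal (τ b c)) =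
        T.left.presheaf.map _ (gmVal (τ a c))
      rw [← gmVal_res h1, ← gmVal_res h2, ← gmVal_res h3, ← gmVal_mul]
      congr 1
      apply X.incl_injective
      rw [X.incl_mul, hres, hres, hres]
      abel)
  obtain ⟨φ⟩ := hPic N hN
  let s : Γ(N, ⊤) := φ.inv.app ⊤ (1 : Γ(T.left, ⊤))
  let u : ∀ a, Γ(T.left, U a) := fun a => φ.hom.app (U a) (g a)
  have hu : ∀ a, IsUnit (u a) := by
    intro a
    obtain ⟨c, hc⟩ := (hg a (U a) le_rfl).2 (res N (le_top : U a ≤ ⊤) s)
    have h1 := congrArg (φ.hom.app (U a)) hc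
    simp only [Scheme.Modules.Hom.app_smul, Mero90.app_res] at h1
    have h2 : φ.hom.app ⊤ s = (1 : Γ(T.left, ⊤)) := by
      show (φ.inv ≫ φ.hom).app ⊤ _ = _
      rw [φ.inv_hom_id]
      rfl
    rw [h2] at h1
    have h3 : res (Coh.structureModule T.left) (le_refl (U a)) (φ.hom.app (U a) (g a)) = u a :=
      map_self_fn (le_refl (U a)) (u a)
    rw [h3] at h1
    have h4 : c * u a = 1 := h1.trans (map_one (T.left.presheaf.map (homOfLE (le_top : U a ≤ ⊤)).op).hom)
    exact IsUnit.of_mul_eq_one c ((mul_comm _ _).trans h4)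
  choose w hw using fun a => gmVal_surjective (T := T) (U := U a) (hu a)
  have hrel : ∀ a b, resO T (inf_le_right : U a ⊓ U b ≤ U b) ≫ w b =
      τ a b * (resO T (inf_le_left : U a ⊓ U b ≤ U a) ≫ w a) := by
    intro a b
    apply gmVal_injective
    rw [gmVal_mul, gmVal_res, gmVal_res, hw, hw]
    have h1 := congrArg (φ.hom.app (U a ⊓ U b)) (hgg a b)
    simp only [Scheme.Modules.Hom.app_smul, Mero90.app_res] at h1
    exact h1
  obtain ⟨y, hy⟩ := section_glue_opens X.E U (eq_top_iff.2 fun t _ => TopologicalSpace.Opens.mem_iSup.2 ⟨t, htU t⟩)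
    (fun a => e a - X.incl (w a)) (fun a b Z p p' hpp => by
      have hp : ∀ z, (p.left z).1 ∈ U a ⊓ U b := fun z => by
        refine ⟨(p.left z).2, ?_⟩
        have h := congrArg (fun k : Z ⟶ T => k.left z) hpp
        simp only [Over.comp_left, Over.homMk_left, Scheme.Hom.comp_apply] at h
        show (U a).ι (p.left z) ∈ U b
        rw [show (U a).ι (p.left z) = (U b).ι (p'.left z) from h]
        exact (p'.left z).2
      obtain ⟨r, hr⟩ := exists_factor T (U := U a ⊓ U b) (p ≫ incO T (U a)) (fun z => by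
        simp only [Over.comp_left, Over.homMk_left, Scheme.Hom.comp_apply]
        exact hp z)
      have hpa : r ≫ resO T inf_le_left = p := incO_mono T _ (by rw [Category.assoc, resO_incO, hr])
      have hpb : r ≫ resO T inf_le_right = p' := incO_mono T _ (by
        rw [Category.assoc, resO_incO, hr]; exact hpp)
      rw [← hpa, ← hpb, ← map_map, ← map_map X.E r]
      congr 1
      rw [map_sub, map_sub, X.incl_comp, X.incl_comp, hrel, X.incl_mul, hτ]
      abel)
  refine ⟨y, section_ext_opens F U (eq_top_iff.2 fun t _ => TopologicalSpace.Opens.mem_iSup.2 ⟨t, htU t⟩)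
    fun a => ?_⟩
  rw [← X.proj_map, hy, X.proj_sub, X.proj_incl, sub_zero, he]

end GmExt

end Groth.Agent.GaExt25
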